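import Groth.Prelude.Def_Models
import Mathlib.Data.Real.Basic
import Mathlib.Algebra.Order.BigOperators.Group.Finset
import Mathlib.Tactic.Ring
import Mathlib.Tactic.Linarith
import Mathlib.Tactic.Positivity
import Mathlib.Tactic.LinearCombination

/-! # Basic facts about numerical types -/

namespace Groth.Agent.NumType

open Finset

section quad

variable {ι : Type*} [Fintype ι] {K : Type*} [Field K] [LinearOrder K] [IsStrictOrderedRing K]

/-- The quadratic form in terms of the relative coordinates `y i = x i / m i`. -/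
theorem two_mul_quad (A : ι → ι → K) (hs : ∀ i j, A i j = A j i) (m y : ι → K) :
    2 * ∑ i, ∑ j, A i j * ((m i * y i) * (m j * y j)) =
      2 * (∑ i, y i ^ 2 * m i * ∑ j, A i j * m j) -
        ∑ i, ∑ j, A i j * m i * m j * (y i - y j) ^ 2 := by
  have h1 : ∑ i, ∑ j, A i j * m i * m j * y j ^ 2 = ∑ i, y i ^ 2 * m i * ∑ j, A i j * m j := by
    rw [Finset.sum_comm]
    refine Finset.sum_congr rfl fun i _ => ?_
    rw [Finset.mul_sum]
    refine Finset.sum_congr rfl fun j _ => ?_
    rw [hs i j]; ring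
  have h2 : ∑ i, ∑ j, A i j * m i * m j * y i ^ 2 = ∑ i, y i ^ 2 * m i * ∑ j, A i j * m j := by
    refine Finset.sum_congr rfl fun i _ => ?_
    rw [Finset.mul_sum]
    refine Finset.sum_congr rfl fun j _ => ?_
    ring
  have h3 : ∑ i, ∑ j, A i j * m i * m j * (y i - y j) ^ 2 =
      ∑ i, ∑ j, A i j * m i * m j * y i ^ 2 + ∑ i, ∑ j, A i j * m i * m j * y j ^ 2 -
        2 * ∑ i, ∑ j, A i j * ((m i * y i) * (m j * y j)) := by
    simp only [Finset.mul_sum, ← Finset.sum_add_distrib, ← Finset.sum_sub_distrib]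
    refine Finset.sum_congr rfl fun i _ => Finset.sum_congr rfl fun j _ => ?_
    ring
  rw [h3, h1, h2]; ring

/-- Sign and equality case of the quadratic form attached to a symmetric matrix with non-negative
off-diagonal entries and a positive vector `m` with `A m ≤ 0`. -/
theorem quad_nonpos_and_eq (A : ι → ι → K) (hs : ∀ i j, A i j = A j i)
    (hA : ∀ i j, i ≠ j → 0 ≤ A i j) (m : ι → K) (hm : ∀ i, 0 < m i)
    (hAm : ∀ i, ∑ j, A i j * m j ≤ 0) (y : ι → K) :
    ∑ i, ∑ j, A i j * ((m i * y i) * (m j * y j)) ≤ 0 ∧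
    (∑ i, ∑ j, A i j * ((m i * y i) * (m j * y j)) = 0 →
      (∀ i j, A i j ≠ 0 → y i = y j) ∧ (∀ i, y i ≠ 0 → ∑ j, A i j * m j = 0)) := by
  have h := two_mul_quad A hs m y
  have t1 : ∀ i, y i ^ 2 * m i * ∑ j, A i j * m j ≤ 0 := fun i =>
    mul_nonpos_of_nonneg_of_nonpos (by have := hm i; positivity) (hAm i)
  have t2 : ∀ i j, 0 ≤ A i j * m i * m j * (y i - y j) ^ 2 := by
    intro i j
    rcases eq_or_ne i j with rfl | hij
    · simp
    · have := hA i j hij; have := hm i; have := hm j; positivity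
  have s1 : ∑ i, y i ^ 2 * m i * ∑ j, A i j * m j ≤ 0 := Finset.sum_nonpos fun i _ => t1 i
  have s2 : 0 ≤ ∑ i, ∑ j, A i j * m i * m j * (y i - y j) ^ 2 :=
    Finset.sum_nonneg fun i _ => Finset.sum_nonneg fun j _ => t2 i j
  refine ⟨by linarith, fun h0 => ⟨fun i j hij => ?_, fun i hi => ?_⟩⟩
  · have e2 : ∑ i, ∑ j, A i j * m i * m j * (y i - y j) ^ 2 = 0 := by linarith
    have e3 := (Finset.sum_eq_zero_iff_of_nonneg
      (fun i _ => Finset.sum_nonneg fun j _ => t2 i j)).1 e2 i (mem_univ _)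
    have e4 := (Finset.sum_eq_zero_iff_of_nonneg (fun j _ => t2 i j)).1 e3 j (mem_univ _)
    have : (y i - y j) ^ 2 = 0 := by
      have := hm i; have := hm j
      simpa [hij, (hm i).ne', (hm j).ne'] using e4
    simpa [sub_eq_zero] using this
  · have e1 : ∑ i, y i ^ 2 * m i * ∑ j, A i j * m j = 0 := by linarith
    have e3 := (Finset.sum_eq_zero_iff_of_nonpos (fun i _ => t1 i)).1 e1 i (mem_univ _)
    simpa [hi, (hm i).ne'] using e3

omit [Field K] [LinearOrder K] [IsStrictOrderedRing K] in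
/-- A function constant along the edges of a connected graph is constant. -/
theorem const_of_connected {α : Type*} [DecidableEq ι] (E : ι → ι → Prop)
    (hconn : ∀ I : Finset ι, I.Nonempty → I ≠ univ → ∃ i ∈ I, ∃ j ∉ I, E i j)
    (y : ι → α) (h : ∀ i j, E i j → y i = y j) (i j : ι) : y i = y j := by
  classical
  by_contra hne
  obtain ⟨a, ha, b, hb, hab⟩ := hconn (univ.filter fun l => y l = y i) ⟨i, by simp⟩
    (by
      intro hu
      exact hne ((Finset.filter_eq_self.1 hu) j (mem_univ j)).symm)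
  simp only [mem_filter, mem_univ, true_and] at ha hb
  exact hb ((h a b hab).symm.trans ha)

end quad

variable {n : ℕ} (T : Models.NumericalType n)

theorem a_symm (i j : Fin n) : T.a i j = T.a j i := (T.symm.apply i j).symm

theorem row_sum (i : Fin n) : ∑ j, T.a i j * T.m j = 0 := congrFun T.mulVec_m i

theorem col_sum (i : Fin n) : ∑ j, T.a j i * T.m j = 0 := by
  rw [← row_sum T i]; exact Finset.sum_congr rfl fun j _ => by rw [a_symm]

theorem neg_diag_mul (i : Fin n) :
    -(T.a i i) * T.m i = ∑ j ∈ univ.erase i, T.a i j * T.m j := by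
  have := row_sum T i
  rw [← Finset.add_sum_erase _ _ (mem_univ i)] at this
  linarith

theorem exists_ne_a_ne_zero (hn : 1 < n) (i : Fin n) : ∃ j, j ≠ i ∧ 0 < T.a i j := by
  obtain ⟨x, hx, j, hj, hxj⟩ := T.connected {i} (singleton_nonempty i) (by
    intro h
    have := congrArg Finset.card h
    simp at this; omega)
  simp only [mem_singleton] at hx hj
  subst hx
  exact ⟨j, hj, lt_of_le_of_ne (T.offDiag_nonneg _ _ (Ne.symm hj)) (Ne.symm hxj)⟩

theorem mul_le_neg_diag {i j : Fin n} (h : j ≠ i) :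
    T.a i j * T.m j ≤ -(T.a i i) * T.m i := by
  rw [neg_diag_mul]
  exact Finset.single_le_sum (f := fun l => T.a i l * T.m l)
    (fun l hl => mul_nonneg (T.offDiag_nonneg i l (ne_of_mem_erase hl).symm) (T.m_pos l).le)
    (mem_erase.2 ⟨h, mem_univ _⟩)

theorem diag_nonpos (i : Fin n) : T.a i i ≤ 0 := by
  have h : (0 : ℤ) ≤ ∑ j ∈ univ.erase i, T.a i j * T.m j := Finset.sum_nonneg fun l hl =>
    mul_nonneg (T.offDiag_nonneg i l (ne_of_mem_erase hl).symm) (T.m_pos l).le
  have := neg_diag_mul T i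
  nlinarith [T.m_pos i]

theorem diag_neg (hn : 1 < n) (i : Fin n) : T.a i i < 0 := by
  obtain ⟨j, hj, hpos⟩ := exists_ne_a_ne_zero T hn i
  nlinarith [mul_le_neg_diag T hj, T.m_pos i, T.m_pos j, mul_pos hpos (T.m_pos j)]

theorem pos_ne_of (hn : 1 < n) {i j : Fin n} (h : 0 < T.a i j) : i ≠ j := by
  rintro rfl; linarith [diag_neg T hn i]

theorem ne_of_pos {i j : Fin n} (h : 0 < T.a i j) : i ≠ j := by
  rintro rfl; linarith [diag_nonpos T i]

theorem w_dvd' (i j : Fin n) : T.w i ∣ T.a j i := a_symm T i j ▸ T.w_dvd i j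

theorem w_mul_pic (i j : Fin n) : T.w i * T.picMatrix i j = T.a i j :=
  Int.mul_ediv_cancel' (T.w_dvd i j)

theorem w_le_of_pos {i j : Fin n} (h : 0 < T.a i j) : T.w i ≤ T.a i j ∧ T.w j ≤ T.a i j :=
  ⟨Int.le_of_dvd h (T.w_dvd i j), Int.le_of_dvd h (w_dvd' T j i)⟩

theorem pic_nonneg {i j : Fin n} (h : i ≠ j) : 0 ≤ T.picMatrix i j :=
  Int.ediv_nonneg (T.offDiag_nonneg i j h) (T.w_pos i).le

theorem pic_pos {i j : Fin n} (h : 0 < T.a i j) : 0 < T.picMatrix i j := by
  have := w_mul_pic T i j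
  nlinarith [T.w_pos i]

/-- The contribution (doubled) of the index `i` to `2 * genus - 2`. -/
def contrib (i : Fin n) : ℤ := T.m i * (2 * T.w i * (T.g i - 1) - T.a i i)

theorem two_dvd_sum : (2 : ℤ) ∣ ∑ i, T.m i * T.a i i := by
  classical
  have key : ∀ s : Finset (Fin n),
      (2 : ℤ) ∣ (∑ i ∈ s, ∑ j ∈ s, T.m i * T.a i j * T.m j) - ∑ i ∈ s, T.m i * T.a i i := by
    intro s
    induction s using Finset.induction_on with
    | empty => simp
    | insert b s hb ih =>
      obtain ⟨c, hc⟩ := ih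
      have he : (2 : ℤ) ∣ T.m b * (T.m b - 1) := by
        rcases Int.even_or_odd (T.m b) with h | h
        · exact dvd_mul_of_dvd_left h.two_dvd _
        · exact dvd_mul_of_dvd_right (h.sub_odd odd_one).two_dvd _
      obtain ⟨d, hd⟩ := he
      refine ⟨c + d * T.a b b + ∑ j ∈ s, T.m b * T.a b j * T.m j, ?_⟩
      have hsym : ∑ x ∈ s, T.m x * T.a x b * T.m b = ∑ j ∈ s, T.m b * T.a b j * T.m j :=
        Finset.sum_congr rfl fun x _ => by rw [a_symm T x b]; ring
      simp only [Finset.sum_insert hb, Finset.sum_add_distrib, hsym]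
      linear_combination hc + T.a b b * hd
  have h0 : ∑ i, ∑ j, T.m i * T.a i j * T.m j = 0 :=
    Finset.sum_eq_zero fun i _ => by
      simp [mul_assoc, ← Finset.mul_sum, row_sum]
  have := key univ
  rw [h0, zero_sub] at this
  exact dvd_neg.1 this

theorem two_mul_genus : 2 * T.genus - 2 = ∑ i, contrib T i := by
  obtain ⟨c, hc⟩ := two_dvd_sum T
  have h : ∑ i, contrib T i = 2 * ∑ i, T.m i * T.w i * (T.g i - 1) - ∑ i, T.m i * T.a i i := by
    rw [Finset.mul_sum, ← Finset.sum_sub_distrib]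
    exact Finset.sum_congr rfl fun i _ => by simp only [contrib]; ring
  rw [h, Models.NumericalType.genus, hc, Int.mul_ediv_cancel_left _ (by norm_num)]
  ring

theorem isMinusOne_of_contrib_neg (hn : 1 < n) (i : Fin n) (h : contrib T i < 0) :
    T.IsMinusOne i := by
  have ha := diag_neg T hn i
  have h' : 2 * T.w i * (T.g i - 1) - T.a i i < 0 := by
    unfold contrib at h; nlinarith [T.m_pos i]
  obtain ⟨c, hc⟩ := T.w_dvd i i
  have hw := T.w_pos i
  rw [hc] at h' ha
  have hc0 : c < 0 := by nlinarith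
  have h'' : 2 * (T.g i - 1) - c < 0 := by nlinarith
  have hg := T.g_nonneg i
  exact ⟨by omega, by rw [hc, show c = -1 by omega]; ring⟩

theorem isMinusTwo_of_contrib_zero (hn : 1 < n) (i : Fin n) (h : contrib T i = 0) :
    T.IsMinusTwo i := by
  have ha := diag_neg T hn i
  have h' : 2 * T.w i * (T.g i - 1) - T.a i i = 0 := by
    rcases mul_eq_zero.1 h with h | h
    · exact absurd h (T.m_pos i).ne'
    · exact h
  have hg := T.g_nonneg i
  have hg0 : T.g i = 0 := by
    by_contra hne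
    nlinarith [T.w_pos i, (by omega : 0 ≤ T.g i - 1)]
  refine ⟨hg0, ?_⟩
  rw [hg0] at h'; linarith

theorem contrib_of_isMinusTwo {i : Fin n} (h : T.IsMinusTwo i) : contrib T i = 0 := by
  rw [contrib, h.1, h.2]; ring

theorem contrib_nonneg (hn : 1 < n) (hmin : T.IsMinimal) (i : Fin n) : 0 ≤ contrib T i :=
  not_lt.1 fun h => hmin i (isMinusOne_of_contrib_neg T hn i h)

/-- Quadratic form of a numerical type (over the reals). -/
theorem quad_real (x : Fin n → ℝ) :
    ∑ i, ∑ j, (T.a i j : ℝ) * (x i * x j) ≤ 0 ∧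
    (∑ i, ∑ j, (T.a i j : ℝ) * (x i * x j) = 0 → ∃ q : ℝ, ∀ i, x i = q * T.m i) := by
  have hm : ∀ i, (0 : ℝ) < T.m i := fun i => by exact_mod_cast T.m_pos i
  have key := quad_nonpos_and_eq (K := ℝ) (fun i j => (T.a i j : ℝ))
    (fun i j => by rw [a_symm]) (fun i j h => by exact_mod_cast T.offDiag_nonneg i j h)
    (fun i => (T.m i : ℝ)) hm
    (fun i => le_of_eq (by exact_mod_cast row_sum T i)) (fun i => x i / T.m i)
  have e : ∀ i, (T.m i : ℝ) * (x i / T.m i) = x i := fun i => mul_div_cancel₀ _ (hm i).ne'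
  simp only [e] at key
  refine ⟨key.1, fun h => ?_⟩
  refine ⟨x ⟨0, T.pos⟩ / T.m ⟨0, T.pos⟩, fun i => ?_⟩
  rw [const_of_connected (fun i j => T.a i j ≠ 0) T.connected (fun i => x i / T.m i)
    (fun i j hij => (key.2 h).1 i j (by exact_mod_cast hij)) ⟨0, T.pos⟩ i]
  rw [div_mul_cancel₀ _ (hm i).ne']

/-- A vector killed by `a` is proportional to `m`. -/
theorem eq_zero_of_mulVec_eq_zero (z : Fin n → ℤ) (hz : T.a.mulVec z = 0) (i : Fin n)
    (hi : z i = 0) : z = 0 := by
  have h0 : ∀ l, ∑ j, (T.a l j : ℝ) * (z j : ℝ) = 0 := fun l => by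
    exact_mod_cast congrFun hz l
  obtain ⟨q, hq⟩ := (quad_real T fun l => (z l : ℝ)).2 (by
    refine Finset.sum_eq_zero fun l _ => ?_
    calc ∑ j, (T.a l j : ℝ) * ((z l : ℝ) * z j) = (z l : ℝ) * ∑ j, (T.a l j : ℝ) * z j := by
          rw [Finset.mul_sum]; exact Finset.sum_congr rfl fun j _ => by ring
      _ = 0 := by rw [h0, mul_zero])
  have hq0 : q = 0 := by
    have h := hq i
    simp only [hi, Int.cast_zero] at h
    rcases mul_eq_zero.1 h.symm with h | h
    · exact h
    · exact absurd (by exact_mod_cast h : T.m i = 0) (T.m_pos i).ne'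
  funext l
  have := hq l
  simp only [hq0, zero_mul] at this
  exact_mod_cast this

/-- A numerical type on one index. -/
theorem a_eq_zero_of_one (T : Models.NumericalType 1) : T.a 0 0 = 0 := by
  have := row_sum T 0
  simpa [Fin.sum_univ_one, (T.m_pos 0).ne'] using this

end Groth.Agent.NumType
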