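import Groth.Agent.NumType.Basic
import Mathlib.LinearAlgebra.Dimension.StrongRankCondition
import Mathlib.LinearAlgebra.Dimension.RankNullity
import Mathlib.LinearAlgebra.FreeModule.PID
import Mathlib.LinearAlgebra.Dimension.Localization

/-! # Genus bounds and the Picard group of a numerical type -/

namespace Groth.Agent.NumType

open Finset

variable {n : ℕ} (T : Models.NumericalType n)

theorem contrib_le (hn : 1 < n) (hmin : T.IsMinimal) (i : Fin n) :
    contrib T i ≤ 2 * T.genus - 2 :=
  two_mul_genus T ▸ Finset.single_le_sum (fun j _ => contrib_nonneg T hn hmin j) (mem_univ i)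

theorem one_le_genus (hn : 1 < n) (hmin : T.IsMinimal) : 1 ≤ T.genus := by
  have h := two_mul_genus T
  have : 0 ≤ ∑ i, contrib T i := Finset.sum_nonneg fun i _ => contrib_nonneg T hn hmin i
  omega

/-- Neighbours of `i` in `S`. -/
def nbrs (S : Finset (Fin n)) (i : Fin n) : Finset (Fin n) := S.filter fun j => 0 < T.a i j

/-- Twice (edges within `S` minus vertices of `S`). -/
def excess (S : Finset (Fin n)) : ℤ := ∑ i ∈ S, (((nbrs T S i).card : ℤ) - 2)

theorem not_mem_nbrs_self (hn : 1 < n) (S : Finset (Fin n)) (i : Fin n) : i ∉ nbrs T S i := by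
  simp [nbrs, not_lt.2 (diag_neg T hn i).le]

theorem excess_insert (hn : 1 < n) {S : Finset (Fin n)} {b : Fin n} (hb : b ∉ S) :
    excess T (insert b S) = excess T S + 2 * (nbrs T S b).card - 2 := by
  classical
  have hbb : ¬ 0 < T.a b b := not_lt.2 (diag_neg T hn b).le
  have h1 : nbrs T (insert b S) b = nbrs T S b := by simp [nbrs, Finset.filter_insert, hbb]
  have h2 : ∀ i ∈ S, ((nbrs T (insert b S) i).card : ℤ) =
      (nbrs T S i).card + if 0 < T.a b i then 1 else 0 := by
    intro i _
    by_cases h : 0 < T.a b i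
    · simp [nbrs, Finset.filter_insert, a_symm T i b, h, hb]
    · simp [nbrs, Finset.filter_insert, a_symm T i b, h]
  rw [excess, Finset.sum_insert hb, h1, excess]
  have : ∑ i ∈ S, (((nbrs T (insert b S) i).card : ℤ) - 2) =
      ∑ i ∈ S, (((nbrs T S i).card : ℤ) - 2) + (nbrs T S b).card := by
    calc ∑ i ∈ S, (((nbrs T (insert b S) i).card : ℤ) - 2)
        = ∑ i ∈ S, ((((nbrs T S i).card : ℤ) - 2) + if 0 < T.a b i then 1 else 0) :=
          Finset.sum_congr rfl fun i hi => by rw [h2 i hi]; ring
      _ = _ := by rw [Finset.sum_add_distrib, Finset.sum_boole]; rfl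
  rw [this]; ring

theorem two_mul_edgeCount (hn : 1 < n) :
    2 * (T.edgeCount : ℤ) - 2 * n = excess T univ := by
  classical
  let P : Finset (Fin n × Fin n) := univ.filter fun p => 0 < T.a p.1 p.2
  have hP : P.card = ∑ i, (nbrs T univ i).card := by
    rw [Finset.card_filter, Fintype.sum_prod_type]
    exact Finset.sum_congr rfl fun i _ => (Finset.card_filter _ _).symm
  have hsplit : P.card = (P.filter fun p => p.1 < p.2).card + (P.filter fun p => ¬ p.1 < p.2).card :=
    (Finset.card_filter_add_card_filter_not _).symm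
  have hA : (P.filter fun p => p.1 < p.2).card = T.edgeCount := by
    unfold Models.NumericalType.edgeCount
    congr 1; ext p; simp [P, and_comm]
  have hB : (P.filter fun p => ¬ p.1 < p.2).card = (P.filter fun p => p.1 < p.2).card := by
    refine Finset.card_bij' (fun p _ => p.swap) (fun p _ => p.swap) ?_ ?_ (by simp) (by simp)
    · intro p hp
      simp only [P, mem_filter, mem_univ, true_and] at hp ⊢
      exact ⟨by rw [Prod.fst_swap, Prod.snd_swap, a_symm]; exact hp.1,
        lt_of_le_of_ne (not_lt.1 hp.2) (ne_of_pos T hp.1).symm⟩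
    · intro p hp
      simp only [P, mem_filter, mem_univ, true_and] at hp ⊢
      exact ⟨by rw [Prod.fst_swap, Prod.snd_swap, a_symm]; exact hp.1, not_lt.2 hp.2.le⟩
  simp only [excess, Finset.sum_sub_distrib, Finset.sum_const, Finset.card_univ, Fintype.card_fin]
  rw [← Nat.cast_sum, ← hP, hsplit, hB, hA]
  push_cast; ring

/-- Every connected graph has a spanning tree: the excess is at least `-2`. -/
theorem excess_univ_ge (hn : 1 < n) : -2 ≤ excess T univ := by
  classical
  have key : ∀ k : ℕ, k < n → ∃ S : Finset (Fin n), S.card = k + 1 ∧ -2 ≤ excess T S := by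
    intro k
    induction k with
    | zero =>
      intro _
      refine ⟨{⟨0, T.pos⟩}, by simp, ?_⟩
      simp [excess, nbrs, Finset.filter_singleton, not_lt.2 (diag_neg T hn ⟨0, T.pos⟩).le]
    | succ k ih =>
      intro hk
      obtain ⟨S, hS, he⟩ := ih (by omega)
      obtain ⟨i, hi, j, hj, hij⟩ := T.connected S (card_pos.1 (by omega)) (by
        intro h; rw [h] at hS; simp at hS; omega)
      refine ⟨insert j S, by simp [hj, hS], ?_⟩
      have hmem : i ∈ nbrs T S j := mem_filter.2 ⟨hi, by
        rw [a_symm]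
        exact lt_of_le_of_ne (T.offDiag_nonneg _ _ fun h => hj (h ▸ hi)) (Ne.symm hij)⟩
      have : 1 ≤ (nbrs T S j).card := card_pos.2 ⟨i, hmem⟩
      rw [excess_insert T hn hj]; omega
  obtain ⟨S, hS, he⟩ := key (n - 1) (by omega)
  rwa [Finset.eq_univ_of_card S (by simpa using (show S.card = n by omega))] at he

theorem topGenus_nonneg : 0 ≤ T.topGenus := by
  have := T.pos
  unfold Models.NumericalType.topGenus
  rcases Nat.lt_or_ge 1 n with hn | hn
  · have := excess_univ_ge T hn; have := two_mul_edgeCount T hn; omega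
  · omega

theorem excess_le_sum_contrib (hn : 1 < n) (hmin : T.IsMinimal) (S : Finset (Fin n)) :
    excess T S ≤ ∑ i, contrib T i := by
  classical
  induction S using Finset.strongInduction with
  | H S ih =>
    rcases S.eq_empty_or_nonempty with rfl | hne
    · simpa [excess] using Finset.sum_nonneg fun i (_ : i ∈ univ) => contrib_nonneg T hn hmin i
    by_cases h : ∃ b ∈ S, (nbrs T S b).card ≤ 1
    · obtain ⟨b, hb, hle⟩ := h
      have h1 : nbrs T S b = nbrs T (S.erase b) b := by
        ext j
        simp only [nbrs, mem_filter, mem_erase]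
        exact ⟨fun h => ⟨⟨(ne_of_pos T h.2).symm, h.1⟩, h.2⟩, fun h => ⟨h.1.2, h.2⟩⟩
      have h2 := excess_insert T hn (Finset.notMem_erase b S)
      rw [Finset.insert_erase hb, ← h1] at h2
      have := ih _ (Finset.erase_ssubset hb)
      omega
    push Not at h
    refine le_trans ?_
      (Finset.sum_le_sum_of_subset_of_nonneg (subset_univ S) fun i _ _ => contrib_nonneg T hn hmin i)
    have h4 : ∀ i, ∑ j ∈ nbrs T S i, T.a i j * T.m j ≤ -(T.a i i) * T.m i := by
      intro i
      rw [neg_diag_mul]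
      refine Finset.sum_le_sum_of_subset_of_nonneg (fun j hj => ?_) fun j hj _ => ?_
      · exact mem_erase.2 ⟨(ne_of_pos T (mem_filter.1 hj).2).symm, mem_univ _⟩
      · exact mul_nonneg (T.offDiag_nonneg i j (ne_of_mem_erase hj).symm) (T.m_pos j).le
    have hswap : ∑ i ∈ S, ∑ j ∈ nbrs T S i, T.a i j * T.m j =
        ∑ i ∈ S, ∑ j ∈ nbrs T S i, T.a i j * T.m i := by
      simp only [nbrs, Finset.sum_filter]
      rw [Finset.sum_comm]
      exact Finset.sum_congr rfl fun i _ => Finset.sum_congr rfl fun j _ => by rw [a_symm T j i]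
    have h3 : ∀ i, T.m i * T.w i * ((nbrs T S i).card : ℤ) ≤ ∑ j ∈ nbrs T S i, T.a i j * T.m i := by
      intro i
      have : ∑ j ∈ nbrs T S i, T.m i * T.w i ≤ ∑ j ∈ nbrs T S i, T.a i j * T.m i :=
        Finset.sum_le_sum fun j hj => by
          rw [mul_comm (T.m i)]
          exact mul_le_mul_of_nonneg_right (w_le_of_pos T (mem_filter.1 hj).2).1 (T.m_pos i).le
      rw [Finset.sum_const, nsmul_eq_mul] at this
      linarith
    calc excess T S ≤ ∑ i ∈ S, T.m i * T.w i * (2 * T.g i + ((nbrs T S i).card : ℤ) - 2) := by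
          refine Finset.sum_le_sum fun i hi => ?_
          have hk : (2 : ℤ) ≤ ((nbrs T S i).card : ℤ) := by exact_mod_cast h i hi
          have hu : (1 : ℤ) ≤ T.m i * T.w i := mul_pos (T.m_pos i) (T.w_pos i)
          have hg := T.g_nonneg i
          nlinarith
      _ ≤ ∑ i ∈ S, (2 * (T.m i * T.w i) * (T.g i - 1)
            + ∑ j ∈ nbrs T S i, T.a i j * T.m i) := by
          refine Finset.sum_le_sum fun i _ => ?_
          have := h3 i
          linarith
      _ = ∑ i ∈ S, (2 * (T.m i * T.w i) * (T.g i - 1)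
            + ∑ j ∈ nbrs T S i, T.a i j * T.m j) := by
          rw [Finset.sum_add_distrib, Finset.sum_add_distrib, hswap]
      _ ≤ ∑ i ∈ S, contrib T i := by
          refine Finset.sum_le_sum fun i _ => ?_
          have := h4 i
          simp only [contrib]
          linarith

theorem topGenus_le_genus (hn : 1 < n) (hmin : T.IsMinimal) : T.topGenus ≤ T.genus := by
  have h1 := excess_le_sum_contrib T hn hmin univ
  rw [← two_mul_genus, ← two_mul_edgeCount T hn] at h1
  unfold Models.NumericalType.topGenus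
  omega

theorem single_index (T : Models.NumericalType 1) :
    T.genus = 1 + T.m 0 * T.w 0 * (T.g 0 - 1) := by
  simp [Models.NumericalType.genus, a_eq_zero_of_one T]

theorem eq_trivial_of_minimal_genus_zero (hmin : T.IsMinimal) (hg : T.genus = 0) :
    n = 1 ∧ ∀ i, T.m i = 1 ∧ T.a i i = 0 ∧ T.w i = 1 ∧ T.g i = 0 := by
  have hn : n = 1 := by
    by_contra hne
    have := one_le_genus T (by have := T.pos; omega) hmin
    omega
  subst hn
  refine ⟨rfl, fun i => ?_⟩
  rw [Subsingleton.elim i 0]
  have hs := single_index T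
  rw [hg] at hs
  have hu : 0 < T.m 0 * T.w 0 := mul_pos (T.m_pos 0) (T.w_pos 0)
  have hg0 : T.g 0 = 0 := by
    by_contra hne
    have := mul_nonneg hu.le (show 0 ≤ T.g 0 - 1 by have := T.g_nonneg 0; omega)
    omega
  rw [hg0] at hs
  have hone : T.m 0 * T.w 0 = 1 := by linarith
  rcases Int.eq_one_or_neg_one_of_mul_eq_one' hone with h | h
  · exact ⟨h.1, a_eq_zero_of_one T, h.2, hg0⟩
  · have := T.m_pos 0; omega

theorem bound_offDiag (i j : Fin n) (hij : 0 < T.a i j) :
    T.m i * T.a i j ≤ T.m j * |T.a j j| ∧ T.m i * T.w i ≤ T.m j * |T.a j j| := by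
  have hne := ne_of_pos T hij
  have h := mul_le_neg_diag T (i := j) (j := i) hne
  rw [a_symm T j i] at h
  rw [abs_of_nonpos (diag_nonpos T j)]
  have := (w_le_of_pos T hij).1
  constructor <;> nlinarith [T.m_pos i]

theorem bounds_of_not_minusTwo (hn : 1 < n) (hmin : T.IsMinimal) (hg : 2 ≤ T.genus) (j : Fin n)
    (hj : ¬ T.IsMinusTwo j) :
    1 ≤ contrib T j ∧ T.g j < T.genus ∧ T.m j * |T.a j j| ≤ 6 * T.genus - 6 ∧
      ∀ i, T.m i * T.a i j ≤ 6 * T.genus - 6 := by
  have h0 := contrib_nonneg T hn hmin j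
  have hne : contrib T j ≠ 0 := fun h => hj (isMinusTwo_of_contrib_zero T hn j h)
  have hle := contrib_le T hn hmin j
  have ha := diag_neg T hn j
  have hm := T.m_pos j
  have hw := T.w_pos j
  have hgj := T.g_nonneg j
  have hu : 1 ≤ T.m j * T.w j := mul_pos hm hw
  have hma : 0 < T.m j * -(T.a j j) := mul_pos hm (by linarith)
  have hcon : contrib T j = 2 * (T.m j * T.w j) * (T.g j - 1) + T.m j * -(T.a j j) := by
    simp only [contrib]; ring
  have hlt : T.g j < T.genus := by
    by_contra hlt
    push Not at hlt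
    have : T.g j - 1 ≤ (T.m j * T.w j) * (T.g j - 1) :=
      le_mul_of_one_le_left (by omega) hu
    nlinarith
  have habs : T.m j * |T.a j j| ≤ 6 * T.genus - 6 := by
    rw [abs_of_nonpos ha.le]
    by_cases hg0 : T.g j = 0
    · obtain ⟨c, hc⟩ := T.w_dvd j j
      rw [hg0] at hcon
      have hc3 : c ≤ -3 := by
        by_contra hc3
        push Not at hc3
        have hcn : c < 0 := by nlinarith
        rcases (show c = -2 ∨ c = -1 by omega) with rfl | rfl
        · exact hj ⟨hg0, by linarith⟩
        · exact hmin j ⟨hg0, by linarith⟩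
      nlinarith
    · have : 0 ≤ (T.m j * T.w j) * (T.g j - 1) := mul_nonneg (by linarith) (by omega)
      nlinarith
  refine ⟨by omega, hlt, habs, fun i => ?_⟩
  rcases eq_or_ne i j with rfl | hij
  · nlinarith
  · rcases (T.offDiag_nonneg i j hij).lt_or_eq with hp | hp
    · exact (bound_offDiag T i j hp).1.trans habs
    · rw [← hp, mul_zero]; omega

open Classical in
theorem count_not_minusTwo (hn : 1 < n) (hmin : T.IsMinimal) (hg : 2 ≤ T.genus) :
    ((univ.filter fun j => ¬T.IsMinusTwo j).card : ℤ) ≤ 2 * T.genus - 2 := by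
  calc ((univ.filter fun j => ¬T.IsMinusTwo j).card : ℤ)
      = ∑ j ∈ univ.filter (fun j => ¬T.IsMinusTwo j), (1 : ℤ) := by simp
    _ ≤ ∑ j ∈ univ.filter (fun j => ¬T.IsMinusTwo j), contrib T j :=
        Finset.sum_le_sum fun j hj =>
          (bounds_of_not_minusTwo T hn hmin hg j (mem_filter.1 hj).2).1
    _ ≤ ∑ j, contrib T j :=
        Finset.sum_le_sum_of_subset_of_nonneg (subset_univ _) fun j _ _ => contrib_nonneg T hn hmin j
    _ = _ := (two_mul_genus T).symm

/-- Multiplication by `w`, from `Pic` to the cokernel of `a`. -/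
theorem mulVec_a_eq (z : Fin n → ℤ) (i : Fin n) :
    T.a.mulVec z i = T.w i * T.picMatrix.mulVec z i := by
  simp only [Matrix.mulVec, dotProduct, Finset.mul_sum, ← mul_assoc, w_mul_pic]

theorem pic_embeds_cokerA :
    ∃ f : T.Pic →+ T.CokerA, Function.Injective f ∧
      ∀ x : Fin n → ℤ, f (Submodule.Quotient.mk x) = Submodule.Quotient.mk (fun i => T.w i * x i) := by
  let W : (Fin n → ℤ) →ₗ[ℤ] (Fin n → ℤ) :=
    { toFun := fun x i => T.w i * x i
      map_add' := fun x y => funext fun i => mul_add _ _ _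
      map_smul' := fun c x => funext fun i => by simp [mul_left_comm] }
  have hker : LinearMap.range (Matrix.mulVecLin T.picMatrix) =
      LinearMap.ker ((LinearMap.range (Matrix.mulVecLin T.a)).mkQ ∘ₗ W) := by
    ext x
    simp only [LinearMap.mem_range, LinearMap.mem_ker, LinearMap.comp_apply, Submodule.mkQ_apply,
      Submodule.Quotient.mk_eq_zero, Matrix.mulVecLin_apply]
    refine exists_congr fun z => ⟨fun h => ?_, fun h => ?_⟩
    · funext i; rw [mulVec_a_eq, h]; rfl
    · funext i
      have := congrFun h i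
      rw [mulVec_a_eq] at this
      exact mul_left_cancel₀ (T.w_pos i).ne' this
  refine ⟨(Submodule.liftQ _ _ hker.le).toAddMonoidHom, ?_, fun x => rfl⟩
  exact LinearMap.ker_eq_bot.1 (Submodule.ker_liftQ_eq_bot _ _ hker.le hker.ge)

theorem finrank_ker_picMatrix :
    Module.finrank ℤ (LinearMap.ker (Matrix.mulVecLin T.picMatrix)) = 1 := by
  let e : LinearMap.ker (Matrix.mulVecLin T.picMatrix) →ₗ[ℤ] ℤ :=
    (LinearMap.proj (⟨0, T.pos⟩ : Fin n)) ∘ₗ Submodule.subtype _
  have hinj : Function.Injective e := by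
    rw [← LinearMap.ker_eq_bot, Submodule.eq_bot_iff]
    rintro ⟨z, hz⟩ h
    refine Subtype.ext (eq_zero_of_mulVec_eq_zero T z ?_ ⟨0, T.pos⟩ h)
    funext i
    rw [mulVec_a_eq, show T.picMatrix.mulVec z = 0 from hz]
    simp
  refine le_antisymm ((LinearMap.finrank_le_finrank_of_injective hinj).trans
    (Module.finrank_self ℤ).le) ?_
  have hm : T.m ∈ LinearMap.ker (Matrix.mulVecLin T.picMatrix) := by
    rw [LinearMap.mem_ker, Matrix.mulVecLin_apply]
    funext i
    have := mulVec_a_eq T T.m i
    rw [T.mulVec_m] at this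
    simpa [(T.w_pos i).ne'] using this.symm
  have : Nontrivial (LinearMap.ker (Matrix.mulVecLin T.picMatrix)) := by
    refine ⟨⟨⟨T.m, hm⟩, 0, fun h => (T.m_pos ⟨0, T.pos⟩).ne' ?_⟩⟩
    exact congrFun (congrArg Subtype.val h) ⟨0, T.pos⟩
  exact Module.finrank_pos

theorem finrank_pic : Module.finrank ℤ T.Pic = 1 := by
  have h1 := Submodule.finrank_quotient_add_finrank (LinearMap.range (Matrix.mulVecLin T.picMatrix))
  have h2 := Submodule.finrank_quotient_add_finrank (LinearMap.ker (Matrix.mulVecLin T.picMatrix))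
  rw [(LinearMap.quotKerEquivRange (Matrix.mulVecLin T.picMatrix)).finrank_eq] at h2
  have h3 := finrank_ker_picMatrix T
  simp only [Module.finrank_fintype_fun_eq_card, Fintype.card_fin] at h1 h2
  show Module.finrank ℤ ((Fin n → ℤ) ⧸ LinearMap.range (Matrix.mulVecLin T.picMatrix)) = 1
  omega

end Groth.Agent.NumType
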