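import Groth.Agent.NumType.Rows
import Groth.Agent.NumType.Genus
import Mathlib.Data.Nat.Find

/-! # `m i |a i j| ≤ 768 g` for minimal numerical types -/

namespace Groth.Agent.NumType

open Finset

variable {n : ℕ} (T : Models.NumericalType n)

/-- A `(-2)`-index all of whose neighbours are `(-2)`-indices. -/
def Inner (i : Fin n) : Prop := T.IsMinusTwo i ∧ ∀ j, 0 < T.a i j → T.IsMinusTwo j

/-- `m i w i` -/
def uu (i : Fin n) : ℤ := T.m i * T.w i

variable {T}

theorem uu_pos (i : Fin n) : 0 < uu T i := mul_pos (T.m_pos i) (T.w_pos i)

theorem uu_step {i j : Fin n} (hi : T.IsMinusTwo i) (h : 0 < T.a i j) : uu T j ≤ 2 * uu T i := by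
  have h1 := row1 hi (ne_of_pos T h).symm
  have h2 := mul_le_mul_of_nonneg_left (w_le_of_pos T h).2 (T.m_pos j).le
  simp only [uu]; linarith

theorem row_eq {i : Fin n} (hi : T.IsMinusTwo i) (S : Finset (Fin n)) (hS : i ∉ S)
    (hnb : ∀ y, 0 < T.a i y → y ∈ S) :
    ∑ j ∈ S, T.a i j * T.m j = 2 * T.w i * T.m i := by
  classical
  have h := neg_diag_mul T i
  rw [hi.2] at h
  rw [show (2 : ℤ) * T.w i * T.m i = -(-2 * T.w i) * T.m i by ring, h]
  refine Finset.sum_subset (fun j hj => mem_erase.2 ⟨fun e => hS (e ▸ hj), mem_univ _⟩)
    fun j hj hj' => ?_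
  rcases (T.offDiag_nonneg i j (ne_of_mem_erase hj).symm).lt_or_eq with hp | hp
  · exact absurd (hnb j hp) hj'
  · rw [← hp, zero_mul]

/-- An extra neighbour of a long path of `(-2)`-indices is attached next to an end. -/
theorem long_branch {f : ℕ → Fin n} {K : ℕ} (h : IsPath T f (K + 1)) (hK : 7 ≤ K)
    (hJ : ∀ k : ℕ, ∀ v : Fin k → Fin n, Function.Injective v → (∀ p, T.IsMinusTwo (v p)) → k < n)
    {x : Fin n} (hx : T.IsMinusTwo x) (hxf : ∀ i ≤ K, x ≠ f i) {s : ℕ} (hs : 2 ≤ s)
    (hsK : s + 2 ≤ K) (hxe : 0 < T.a x (f s)) : False := by
  -- `E7~` when both arms have length ≥ 3, `E8~` otherwise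
  by_cases hmid : 3 ≤ s ∧ s + 3 ≤ K
  · obtain ⟨h3, h3'⟩ := hmid
    let v : Fin 8 → Fin n := fun p => if p.val < 7 then f (s - 3 + p.val) else x
    have hinj : Function.Injective v := by
      intro a b e
      simp only [v] at e
      split_ifs at e
      · have := h.inj _ (by omega) _ (by omega) e; exact Fin.ext (by omega)
      · exact absurd e.symm (hxf _ (by omega))
      · exact absurd e (hxf _ (by omega))
      · exact Fin.ext (by omega)
    have h2 : ∀ p, T.IsMinusTwo (v p) := fun p => by
      simp only [v]; split_ifs <;> first | exact hx | exact h.two _ (by omega)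
    refine small_tree v hinj h2 (hJ _ v hinj h2)
      [(0, 1), (1, 2), (2, 3), (3, 4), (4, 5), (5, 6), (7, 3)] ?_
      ![1, 2, 3, 4, 3, 2, 1, 2] (by decide) (by decide) (by decide)
    have key : ∀ p : ℕ, p < 6 → 0 < T.a (f (s - 3 + p)) (f (s - 3 + (p + 1))) :=
      fun p hp => h.edge (s - 3 + p) (by omega)
    simp only [List.forall_mem_cons, List.not_mem_nil, false_imp_iff, implies_true, and_true]
    exact ⟨key 0 (by omega), key 1 (by omega), key 2 (by omega), key 3 (by omega), key 4 (by omega),
      key 5 (by omega), by simpa [v, show s - 3 + 3 = s by omega] using hxe⟩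
  · have e8 : ∀ g : ℕ → Fin n, IsPath T g 8 → (∀ i < 8, x ≠ g i) → 0 < T.a x (g 2) → False := by
      intro g hg hxg hxe
      let v : Fin 9 → Fin n := fun p => if p.val < 8 then g p.val else x
      have hinj : Function.Injective v := by
        intro a b e
        simp only [v] at e
        split_ifs at e
        · exact Fin.ext (hg.inj _ (by omega) _ (by omega) e)
        · exact absurd e.symm (hxg _ (by omega))
        · exact absurd e (hxg _ (by omega))
        · exact Fin.ext (by omega)
      have h2 : ∀ p, T.IsMinusTwo (v p) := fun p => by
        simp only [v]; split_ifs <;> first | exact hx | exact hg.two _ (by omega)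
      refine small_tree v hinj h2 (hJ _ v hinj h2)
        [(0, 1), (1, 2), (2, 3), (3, 4), (4, 5), (5, 6), (6, 7), (8, 2)] ?_
        ![2, 4, 6, 5, 4, 3, 2, 1, 3] (by decide) (by decide) (by decide)
      simp only [List.forall_mem_cons, List.not_mem_nil, false_imp_iff, implies_true, and_true]
      exact ⟨hg.edge 0 (by omega), hg.edge 1 (by omega), hg.edge 2 (by omega), hg.edge 3 (by omega),
        hg.edge 4 (by omega), hg.edge 5 (by omega), hg.edge 6 (by omega), hxe⟩
    rcases Nat.lt_or_ge s 3 with h3 | h3
    · obtain rfl : s = 2 := by omega
      exact e8 _ (h.segment (i := 0) (L := 8) (by omega))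
        (fun i hi => by simpa using hxf i (by omega)) (by simpa using hxe)
    · refine e8 _ (h.rev.segment (i := 0) (L := 8) (by omega))
        (fun i hi => hxf _ (by omega)) ?_
      simpa [show K - 2 = s by omega] using hxe

/-- Linear interpolation. -/
theorem linear_max (u : ℕ → ℤ) {a b : ℕ} (h : ∀ s, a < s → s < b → 2 * u s = u (s - 1) + u (s + 1))
    {C : ℤ} (ha : u a ≤ C) (hb : u (a + 1) ≤ u a ∨ u b ≤ C) :
    ∀ s, a ≤ s → s ≤ b → u s ≤ C := by
  have hd : ∀ s, a ≤ s → s < b → u (s + 1) - u s = u (a + 1) - u a := by
    intro s has hsb
    induction s, has using Nat.le_induction with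
    | base => rfl
    | succ s has ih =>
      have := h (s + 1) (by omega) hsb
      simp only [Nat.add_sub_cancel] at this
      linarith [ih (by omega)]
  rcases le_or_gt (u (a + 1)) (u a) with hneg | hpos
  · intro s has hsb
    induction s, has using Nat.le_induction with
    | base => exact ha
    | succ s has ih => have := hd s has (by omega); have := ih (by omega); omega
  · have hb' := hb.resolve_left (not_le.2 hpos)
    intro s has hsb
    induction hsb using Nat.decreasingInduction with
    | self => exact hb'
    | of_succ s hs ih => have := hd s has hs; have := ih (by omega); omega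

/-- The main estimate along a long path starting at the boundary. -/
theorem long_path_bound {f : ℕ → Fin n} {k : ℕ} (hf : IsPath T f (k + 1)) (hk : 7 ≤ k)
    (hin : ∀ i, 1 ≤ i → i ≤ k → Inner T (f i))
    (hJ : ∀ k : ℕ, ∀ v : Fin k → Fin n, Function.Injective v → (∀ p, T.IsMinusTwo (v p)) → k < n)
    {B : ℤ} (hb : ∀ i, T.IsMinusTwo i → ¬ Inner T i → uu T i ≤ B) (hf0 : ¬ Inner T (f 0)) :
    uu T (f k) ≤ 8 * B := by
  classical
  -- the set of continuations
  let P : ℕ → Prop := fun K => ∃ g : ℕ → Fin n, IsPath T g (K + 1) ∧ (∀ i < k, g i = f i) ∧
    ∀ i, 1 ≤ i → i < K → Inner T (g i)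
  have hcard : ∀ K, P K → K < n := by
    rintro K ⟨g, hg, -, -⟩
    have := hJ _ _ hg.injective fun p => hg.two _ p.isLt
    omega
  have hPk : P k := ⟨f, hf, fun _ _ => rfl, fun i h1 h2 => hin i h1 h2.le⟩
  let K := Nat.findGreatest P n
  have hK : k ≤ K := Nat.le_findGreatest (hcard k hPk).le hPk
  have hPK : P K := Nat.findGreatest_spec (hcard k hPk).le hPk
  have hmax : ¬ P (K + 1) := fun h => by
    have := Nat.le_findGreatest (hcard _ h).le h
    simp only [K] at this ⊢; omega
  obtain ⟨g, hg, hgf, hgin⟩ := hPK
  have hg0 : g 0 = f 0 := hgf 0 (by omega)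
  have hKn : K + 1 < n := hJ _ _ hg.injective fun p => hg.two _ p.isLt
  -- interior edges are simple
  have hone : ∀ s, 1 ≤ s → s + 2 ≤ K → nProd T (g s) (g (s + 1)) = 1 := by
    intro s h1 h2
    by_contra hne
    have := double_at_end hg (by omega) hKn (by omega) (two_le_of_one_lt (hg.edge s (by omega)) hne)
    omega
  obtain ⟨hwc, hac⟩ := w_const hg (a := 1) (b := K - 1) (by omega) (by omega)
    fun i h1 h2 => hone i h1 (by omega)
  -- neighbours inside the path are consecutive
  have hpathnb : ∀ s ≤ K, ∀ i ≤ K, 0 < T.a (g s) (g i) → i + 1 = s ∨ i = s + 1 := by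
    intro s hs i hi hp
    rcases Nat.lt_trichotomy i s with h | h | h
    · by_contra hne
      have := chord_eq_zero hg hKn (i := i) (j := s) (by omega) (by omega)
      rw [a_symm] at this; omega
    · subst h; exact absurd rfl (ne_of_pos T hp)
    · by_contra hne
      have := chord_eq_zero hg hKn (i := s) (j := i) (by omega) (by omega)
      omega
  -- neighbours of middle vertices
  have hmid : ∀ s, 1 < s → s < K - 1 → 2 * uu T (g s) = uu T (g (s - 1)) + uu T (g (s + 1)) := by
    intro s h1 h2
    have hsum := row_eq (hg.two s (by omega)) {g (s - 1), g (s + 1)} (by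
      simp only [mem_insert, mem_singleton, not_or]
      exact ⟨hg.ne (by omega) (by omega) (by omega), hg.ne (by omega) (by omega) (by omega)⟩)
      (fun y hy => by
        by_cases hyp : ∃ i ≤ K, y = g i
        · obtain ⟨i, hi, rfl⟩ := hyp
          rcases hpathnb s (by omega) i hi hy with e | e
          · simp [show i = s - 1 by omega]
          · simp [e]
        · push Not at hyp
          exact (long_branch (s := s) hg (by omega) hJ ((hgin s (by omega) (by omega)).2 y hy) hyp
            (by omega) (by omega) (by rwa [a_symm])).elim)
    rw [Finset.sum_pair (hg.ne (by omega) (by omega) (by omega)), a_symm T (g s) (g (s - 1))] at hsum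
    have a1 := hac (s - 1) (by omega) (by omega)
    rw [show s - 1 + 1 = s by omega] at a1
    rw [a1, hac s (by omega) (by omega), hwc s (by omega) (by omega)] at hsum
    simp only [uu, hwc s (by omega) (by omega), hwc (s - 1) (by omega) (by omega),
      hwc (s + 1) (by omega) (by omega)]
    linarith
  have hu0 : uu T (g 0) ≤ B := hb _ (hg.two 0 (by omega)) (hg0 ▸ hf0)
  have hu1 : uu T (g 1) ≤ 2 * B := by
    have := uu_step (hg.two 0 (by omega)) (hg.edge 0 (by omega)); linarith
  have hu2 : uu T (g 2) ≤ 4 * B := by
    have := uu_step (hg.two 1 (by omega)) (hg.edge 1 (by omega)); linarith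
  have hBpos : 0 ≤ B := le_trans (uu_pos _).le hu0
  -- behaviour at the far end
  have hend : uu T (g (K - 1)) ≤ uu T (g (K - 2)) ∨ uu T (g (K - 1)) ≤ 2 * B := by
    have eK : K - 1 + 1 = K := by omega
    have eedge : 0 < T.a (g (K - 1)) (g K) := by simpa [eK] using hg.edge (K - 1) (by omega)
    have houtbd : ∀ y, T.IsMinusTwo y → 0 < T.a (g (K - 1)) y → ¬ Inner T y →
        uu T (g (K - 1)) ≤ 2 * B := fun y hy he hni => by
      have := uu_step hy (show 0 < T.a y (g (K - 1)) by rwa [a_symm])
      have := hb y hy hni
      linarith
    by_cases hKin : Inner T (g K)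
    swap; · exact Or.inr (houtbd _ (hg.two K (by omega)) eedge hKin)
    -- leaves: any extension contradicts maximality
    have hleaf : ∀ z : Fin n, T.IsMinusTwo z → (∀ i < K, z ≠ g i) → Inner T z →
        0 < T.a (g (K - 1)) z → ∀ y, 0 < T.a z y → y = g (K - 1) := by
      intro z hz hzg hzin hze y hy
      let g' : ℕ → Fin n := fun q => if q < K then g q else z
      have hg' : IsPath T g' (K + 1) :=
        { inj := fun a ha b hb e => by
            simp only [g'] at e
            split_ifs at e <;> first
              | exact hg.inj _ (by omega) _ (by omega) e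
              | exact absurd e (hzg _ (by omega))
              | exact absurd e.symm (hzg _ (by omega))
              | omega
          two := fun a ha => by
            simp only [g']; split_ifs <;> first | exact hg.two _ (by omega) | exact hz | omega
          edge := fun a ha => by
            simp only [g', show a < K by omega, if_true]
            split_ifs with h1
            · exact hg.edge a (by omega)
            · rw [show a = K - 1 by omega]; exact hze }
      by_cases hyg : ∃ i < K + 1, y = g' i
      · obtain ⟨i, hi, rfl⟩ := hyg
        have hiK : i < K := by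
          by_contra hh
          have : i = K := by omega
          subst this
          simp [g'] at hy
          exact (ne_of_pos T hy) rfl
        have e1 : g' i = g i := by simp [g', hiK]
        by_contra hne
        have hiK1 : i + 1 < K := by
          by_contra hh
          exact hne (by rw [e1, show i = K - 1 by omega])
        have := chord_eq_zero hg' hKn (i := i) (j := K) hiK1 (by omega)
        simp only [g', lt_irrefl, if_false, if_true, hiK] at this
        rw [a_symm, ← e1] at this
        omega
      · push Not at hyg
        refine absurd ⟨fun q => if q < K + 1 then g' q else y, ?_, fun i hi => ?_, fun i h1 h2 => ?_⟩ hmax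
        · exact
            { inj := fun a ha b hb e => by
                split_ifs at e
                · exact hg'.inj _ (by omega) _ (by omega) e
                · exact absurd e.symm (hyg _ (by omega))
                · exact absurd e (hyg _ (by omega))
                · omega
              two := fun a ha => by
                split_ifs
                · exact hg'.two _ (by omega)
                · exact hzin.2 y hy
              edge := fun a ha => by
                simp only [show a < K + 1 by omega, if_true]
                split_ifs with h1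
                · exact hg'.edge a (by omega)
                · simp only [g', show a = K by omega, lt_irrefl, if_false, if_true]; exact hy }
        · simp [g', show i < K + 1 by omega, show i < K by omega, hgf i hi]
        · by_cases hiK : i < K
          · simpa [g', show i < K + 1 by omega, hiK] using hgin i h1 hiK
          · simpa [g', show i = K by omega] using hzin
    -- contribution of a leaf
    have hcontr : ∀ z : Fin n, T.IsMinusTwo z → (∀ y, 0 < T.a z y → y = g (K - 1)) →
        0 < T.a (g (K - 1)) z → nProd T (g (K - 1)) z ≤ 2 →
        2 * (T.a (g (K - 1)) z * T.m z) = nProd T (g (K - 1)) z * uu T (g (K - 1)) := by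
      intro z hz hnb hze _
      have hr := row_eq hz {g (K - 1)} (by simpa using (ne_of_pos T hze).symm)
        (fun y hy => by simpa using hnb y hy)
      simp only [Finset.sum_singleton, a_symm T z] at hr
      have e1 := w_mul_pic T (g (K - 1)) z
      have e2 := w_mul_pic T z (g (K - 1))
      rw [a_symm T z] at e2
      apply mul_left_cancel₀ (T.w_pos z).ne'
      simp only [uu, nProd]
      linear_combination (-(T.a (g (K - 1)) z)) * hr - T.a (g (K - 1)) z * T.m (g (K - 1)) * e1
        - (T.w (g (K - 1)) * T.picMatrix (g (K - 1)) z * T.m (g (K - 1))) * e2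
    have hKg : ∀ i < K, g K ≠ g i := fun i hi => hg.ne (by omega) (by omega) (by omega)
    have hKnb := hleaf (g K) (hg.two K (by omega)) hKg hKin eedge
    have hin1 := hgin (K - 1) (by omega) (by omega)
    have hN : nProd T (g (K - 1)) (g K) ≤ 2 := by
      simpa [eK] using nProd_le_two hg (by omega) hKn (i := K - 1) (by omega)
    have cK' := hcontr _ (hg.two K (by omega)) hKnb eedge hN
    have aK2 : T.a (g (K - 1)) (g (K - 2)) = T.w (g (K - 1)) := by
      have := hac (K - 2) (by omega) (by omega)
      rw [show K - 2 + 1 = K - 1 by omega] at this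
      rw [a_symm, this, hwc (K - 1) (by omega) le_rfl]
    have u2 : uu T (g (K - 2)) = T.w (g (K - 1)) * T.m (g (K - 2)) := by
      simp only [uu, hwc (K - 1) (by omega) le_rfl, hwc (K - 2) (by omega) (by omega)]; ring
    by_cases hx : ∃ x, 0 < T.a (g (K - 1)) x ∧ ∀ i ≤ K, x ≠ g i
    · obtain ⟨x, hxe, hxg⟩ := hx
      have hx2 := hin1.2 x hxe
      by_cases hxin : Inner T x
      swap; · exact Or.inr (houtbd x hx2 hxe hxin)
      have hxnb := hleaf x hx2 (fun i hi => hxg i hi.le) hxin hxe
      have hJx : K + 1 + 1 < n := by
        let v : Fin (K + 2) → Fin n := fun p => if p.val ≤ K then g p.val else x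
        have hinj : Function.Injective v := by
          intro a b e
          simp only [v] at e
          split_ifs at e
          · exact Fin.ext (hg.inj _ (by omega) _ (by omega) e)
          · exact absurd e.symm (hxg _ (by omega))
          · exact absurd e (hxg _ (by omega))
          · exact Fin.ext (by omega)
        exact hJ _ v hinj fun p => by
          simp only [v]; split_ifs <;> first | exact hx2 | exact hg.two _ (by omega)
      obtain ⟨bw, ba, bax, -⟩ := branch hg (s := K - 1) (by omega) (by omega) hJx x hx2
        (fun i hi => hxg i (by omega)) (by rwa [a_symm])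
      rw [a_symm] at bax
      have wK := bw (K - 1) (by omega)
      have aK := ba (K - 1) (by omega)
      rw [eK] at aK
      have hsum := row_eq (hg.two (K - 1) (by omega)) {g (K - 2), g K, x} (by
        simp only [mem_insert, mem_singleton, not_or]
        exact ⟨hg.ne (by omega) (by omega) (by omega), hg.ne (by omega) (by omega) (by omega),
          (hxg _ (by omega)).symm⟩) (fun y hy => by
        by_cases hyp : ∃ i ≤ K, y = g i
        · obtain ⟨i, hi, rfl⟩ := hyp
          rcases hpathnb (K - 1) (by omega) i hi hy with e | e
          · simp [show i = K - 2 by omega]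
          · simp [show i = K by omega]
        · push Not at hyp
          by_contra hyn
          simp only [mem_insert, mem_singleton, not_or] at hyn
          -- four neighbours
          have hy2 := hin1.2 y hy
          let v : Fin 5 → Fin n := ![g (K - 1), g (K - 2), g K, x, y]
          have hinj : Function.Injective v := by
            have n01 := hg.ne (i := K - 1) (j := K - 2) (by omega) (by omega) (by omega)
            have n02 := hg.ne (i := K - 1) (j := K) (by omega) (by omega) (by omega)
            have n12 := hg.ne (i := K - 2) (j := K) (by omega) (by omega) (by omega)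
            have n30 := hxg (K - 1) (by omega); have n31 := hxg (K - 2) (by omega); have n32 := hxg K le_rfl
            have n40 := hyp (K - 1) (by omega); have n41 := hyp (K - 2) (by omega); have n42 := hyp K le_rfl
            have n43 : y ≠ x := hyn.2.2
            intro a b e
            fin_cases a <;> fin_cases b <;>
              first
              | rfl
              | exact absurd e n01 | exact absurd e.symm n01
              | exact absurd e n02 | exact absurd e.symm n02
              | exact absurd e n12 | exact absurd e.symm n12
              | exact absurd e n30 | exact absurd e.symm n30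
              | exact absurd e n31 | exact absurd e.symm n31
              | exact absurd e n32 | exact absurd e.symm n32
              | exact absurd e n40 | exact absurd e.symm n40
              | exact absurd e n41 | exact absurd e.symm n41
              | exact absurd e n42 | exact absurd e.symm n42
              | exact absurd e n43 | exact absurd e.symm n43
          have h2 : ∀ p, T.IsMinusTwo (v p) := fun p => by
            fin_cases p <;> first | exact hx2 | exact hy2 | exact hg.two _ (by omega)
          refine small_tree v hinj h2 (hJ _ v hinj h2) [(0, 1), (0, 2), (0, 3), (0, 4)] ?_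
            ![2, 1, 1, 1, 1] (by decide) (by decide) (by decide)
          have := hg.edge (K - 2) (by omega)
          rw [show K - 2 + 1 = K - 1 by omega, a_symm] at this
          simp [v, eedge, hxe, hy, this])
      rw [Finset.sum_insert (by
          simp only [mem_insert, mem_singleton, not_or]
          exact ⟨hg.ne (by omega) (by omega) (by omega), (hxg _ (by omega)).symm⟩),
        Finset.sum_pair (hxg K le_rfl).symm, aK2] at hsum
      have hN1 : nProd T (g (K - 1)) (g K) = 1 := by
        have e : T.a (g (K - 1)) (g K) = T.w (g (K - 1)) := aK.trans wK.symm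
        have wKK : T.w (g K) = T.w (g (K - 1)) := (bw K (by omega)).trans wK.symm
        simp [nProd, Models.NumericalType.picMatrix, a_symm T (g K), e, wKK, (T.w_pos (g (K - 1))).ne']
      have hN1' : nProd T (g (K - 1)) x = 1 := by
        simp [nProd, Models.NumericalType.picMatrix, a_symm T x, bax, wK, (T.w_pos x).ne']
      have cx := hcontr x hx2 hxnb hxe (by omega)
      rw [hN1] at cK'; rw [hN1'] at cx
      refine Or.inl ?_
      rw [u2]; simp only [uu] at cK' cx ⊢; linarith
    · push Not at hx
      have hsum := row_eq (hg.two (K - 1) (by omega)) {g (K - 2), g K} (by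
        simp only [mem_insert, mem_singleton, not_or]
        exact ⟨hg.ne (by omega) (by omega) (by omega), hg.ne (by omega) (by omega) (by omega)⟩)
        (fun y hy => by
          obtain ⟨i, hi, rfl⟩ := hx y hy
          rcases hpathnb (K - 1) (by omega) i hi hy with e | e
          · simp [show i = K - 2 by omega]
          · simp [show i = K by omega])
      rw [Finset.sum_pair (hg.ne (by omega) (by omega) (by omega)), aK2] at hsum
      refine Or.inl ?_
      have := mul_le_mul_of_nonneg_right hN (uu_pos (T := T) (g (K - 1))).le
      rw [u2]; simp only [uu] at cK' this ⊢; linarith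
  -- conclude
  have hall : ∀ s, 1 ≤ s → s ≤ K - 1 → uu T (g s) ≤ 4 * B := by
    refine linear_max (fun s => uu T (g s)) hmid (show uu T (g 1) ≤ 4 * B by linarith) ?_
    rcases hend with h | h
    · left
      -- the slope is constant
      have hd : ∀ s, 1 ≤ s → s < K - 1 →
          uu T (g (s + 1)) - uu T (g s) = uu T (g 2) - uu T (g 1) := by
        intro s hs hsb
        induction s, hs using Nat.le_induction with
        | base => rfl
        | succ s hs ih =>
          have := hmid (s + 1) (by omega) hsb
          simp only [Nat.add_sub_cancel] at this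
          linarith [ih (by omega)]
      have := hd (K - 2) (by omega) (by omega)
      rw [show K - 2 + 1 = K - 1 by omega] at this
      show uu T (g (1 + 1)) ≤ uu T (g 1)
      norm_num
      linarith
    · exact Or.inr (show uu T (g (K - 1)) ≤ 4 * B by linarith)
  have h1 := hall (k - 1) (by omega) (by omega)
  rw [hgf (k - 1) (by omega)] at h1
  have h2 := uu_step (hf.two (k - 1) (by omega)) (hf.edge (k - 1) (by omega))
  rw [show k - 1 + 1 = k by omega] at h2
  linarith

/-- The bound on all entries. -/
theorem mul_abs_le (hn : 1 < n) (hmin : T.IsMinimal) (hg : 2 ≤ T.genus) (i j : Fin n) :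
    T.m i * |T.a i j| ≤ 768 * T.genus := by
  classical
  have hnot : ∃ z, ¬ T.IsMinusTwo z := by
    by_contra h
    push Not at h
    have := two_mul_genus T
    rw [Finset.sum_eq_zero fun z _ => contrib_of_isMinusTwo T (h z)] at this
    omega
  obtain ⟨z₀, hz₀⟩ := hnot
  have hJ : ∀ k : ℕ, ∀ v : Fin k → Fin n, Function.Injective v → (∀ p, T.IsMinusTwo (v p)) → k < n := by
    intro k v hv h2
    by_contra hk
    have hle : k ≤ n := by simpa using Fintype.card_le_of_injective v hv
    obtain ⟨p, hp⟩ := ((Fintype.bijective_iff_injective_and_card v).2 ⟨hv, by simp; omega⟩).2 z₀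
    exact hz₀ (hp ▸ h2 p)
  let B := 6 * T.genus - 6
  have hb : ∀ i, T.IsMinusTwo i → ¬ Inner T i → uu T i ≤ B := by
    intro i hi hni
    simp only [Inner, hi, true_and, not_forall] at hni
    obtain ⟨q, hq, hq2⟩ := hni
    have h1 := (bounds_of_not_minusTwo T hn hmin hg q hq2).2.2.2 i
    have h2 := mul_le_mul_of_nonneg_left (w_le_of_pos T hq).1 (T.m_pos i).le
    simp only [uu]; omega
  let R : Fin n → Prop := fun i => T.IsMinusTwo i → ∃ (f : ℕ → Fin n) (k : ℕ),
    IsPath T f (k + 1) ∧ ¬ Inner T (f 0) ∧ (∀ q, 1 ≤ q → q ≤ k → Inner T (f q)) ∧ f k = i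
  have hR : ∀ i, R i := by
    by_contra hR
    push Not at hR
    obtain ⟨i₀, hi₀⟩ := hR
    obtain ⟨x, hx, y, hy, hxy⟩ := T.connected (univ.filter R)
      ⟨z₀, by simpa [R] using fun h => absurd h hz₀⟩ (fun e => hi₀ (by
        have := e ▸ mem_univ i₀
        exact (mem_filter.1 this).2))
    simp only [mem_filter, mem_univ, true_and] at hx hy
    have hne : x ≠ y := fun e => hy (e ▸ hx)
    have hp := pos_of_ne hne hxy
    refine hy fun hy2 => ?_
    by_cases hyin : Inner T y
    swap
    · exact ⟨fun _ => y, 0, ⟨fun a ha b hb _ => by omega, fun _ _ => hy2, fun a ha => by omega⟩,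
        hyin, fun q h1 h2 => by omega, rfl⟩
    obtain ⟨f, k, hf, hf0, hfin, rfl⟩ := hx (hyin.2 x (by rwa [a_symm]))
    by_cases hyf : ∃ q ≤ k, f q = y
    · obtain ⟨q, hq, hqy⟩ := hyf
      exact ⟨f, q, ⟨fun a ha b hb e => hf.inj a (by omega) b (by omega) e,
        fun a ha => hf.two a (by omega), fun a ha => hf.edge a (by omega)⟩, hf0,
        fun r h1 h2 => hfin r h1 (by omega), hqy⟩
    push Not at hyf
    refine ⟨fun q => if q ≤ k then f q else y, k + 1, ?_, by simpa using hf0, ?_, by simp⟩
    · exact
        { inj := fun a ha b hb e => by
            split_ifs at e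
            · exact hf.inj _ (by omega) _ (by omega) e
            · exact absurd e (hyf _ (by omega))
            · exact absurd e.symm (hyf _ (by omega))
            · omega
          two := fun a ha => by
            split_ifs <;> first | exact hf.two _ (by omega) | exact hy2
          edge := fun a ha => by
            simp only [show a ≤ k by omega, if_true]
            split_ifs with h1
            · exact hf.edge a (by omega)
            · rw [show a = k by omega]; exact hp }
    · intro q h1 h2
      simp only; split_ifs with hq
      · exact hfin q h1 hq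
      · exact hyin
  have hu : ∀ i, T.IsMinusTwo i → uu T i ≤ 64 * B := by
    intro i hi
    obtain ⟨f, k, hf, hf0, hfin, rfl⟩ := hR i hi
    have hu0 := hb _ (hf.two 0 (by omega)) hf0
    have hB0 : 0 ≤ B := le_trans (uu_pos _).le hu0
    rcases Nat.lt_or_ge k 7 with hk | hk
    · have key : ∀ q ≤ k, uu T (f q) ≤ 2 ^ q * B := by
        intro q hq
        induction q with
        | zero => simpa using hu0
        | succ q ih =>
          have := uu_step (hf.two q (by omega)) (hf.edge q (by omega))
          rw [pow_succ]; linarith [ih (by omega)]
      refine (key k le_rfl).trans (mul_le_mul_of_nonneg_right ?_ hB0)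
      calc (2 : ℤ) ^ k ≤ 2 ^ 6 := pow_le_pow_right₀ (by norm_num) (by omega)
        _ = 64 := by norm_num
    · have := long_path_bound hf hk hfin hJ hb hf0
      linarith
  by_cases hj : T.IsMinusTwo j
  · have h1 := hu j hj
    have key : T.m i * |T.a i j| ≤ 2 * uu T j := by
      rcases eq_or_ne i j with rfl | hne
      · rw [hj.2, abs_of_nonpos (by have := T.w_pos i; linarith)]
        simp only [uu]; linarith
      · rw [abs_of_nonneg (T.offDiag_nonneg i j hne), a_symm]
        have := row1 hj hne
        simp only [uu]; linarith
    omega
  · obtain ⟨-, -, h2, h3⟩ := bounds_of_not_minusTwo T hn hmin hg j hj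
    rcases eq_or_ne i j with rfl | hne
    · omega
    · rw [abs_of_nonneg (T.offDiag_nonneg i j hne)]
      have := h3 i
      omega

end Groth.Agent.NumType
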