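import Groth.Agent.NumType.Rows

/-! # Statement-shaped wrappers for chains and branched trees given by embeddings -/

namespace Groth.Agent.NumType

open Finset

variable {n : ℕ} {T : Models.NumericalType n}

/-- A chain with `t` vertices and an extra vertex (numbered `t`) attached to vertex `s`. -/
theorem branch_fin {t : ℕ} (v : Fin (t + 1) ↪ Fin n) (hv : ∀ j, T.IsMinusTwo (v j))
    (hn : t + 1 < n) {s : ℕ} (hs : 1 ≤ s) (hst : s + 1 < t)
    (he : ∀ j j' : Fin (t + 1), j'.val = j.val + 1 → j'.val < t → T.a (v j) (v j') ≠ 0)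
    (hx : ∀ j j' : Fin (t + 1), j.val = s → j'.val = t → T.a (v j) (v j') ≠ 0) :
    ∃ w : ℤ, 0 < w ∧ (∀ j, T.w (v j) = w) ∧
      (∀ j j' : Fin (t + 1), j'.val = j.val + 1 → j'.val < t → T.a (v j) (v j') = w) ∧
      (∀ j j' : Fin (t + 1), j.val = s → j'.val = t → T.a (v j) (v j') = w) ∧
      (∀ j k : Fin (t + 1), j.val < k.val → ¬ (k.val = j.val + 1 ∧ k.val < t) →
        ¬ (j.val = s ∧ k.val = t) → T.a (v j) (v k) = 0) := by
  have hp := isPath_ofFin (T := T) v (L := t) (by omega) hv he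
  have eq : ∀ {q : ℕ} (hq : q < t + 1), ofFin v q = v ⟨q, hq⟩ := fun hq => ofFin_eq v hq
  obtain ⟨hw, ha, hax, h0⟩ := branch hp hs hst hn (v ⟨t, by omega⟩) (hv _)
    (fun i hi => by rw [eq (by omega)]; exact v.injective.ne (by simp; omega))
    (by
      rw [eq (by omega), a_symm]
      exact pos_of_ne (v.injective.ne (by simp; omega)) (hx _ _ rfl rfl))
  refine ⟨T.w (v ⟨t, by omega⟩), T.w_pos _, fun j => ?_, fun j j' e h => ?_, fun j j' e e' => ?_,
    fun j k hjk h1 h2 => ?_⟩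
  · rcases Nat.lt_or_ge j.val t with h | h
    · have := hw j.val h; rwa [eq j.isLt] at this
    · rw [show j = ⟨t, by omega⟩ from Fin.ext (by simp; omega)]
  · have := ha j.val (by omega)
    rw [eq j.isLt, eq (show j.val + 1 < t + 1 by omega)] at this
    rwa [show j' = ⟨j.val + 1, by omega⟩ from Fin.ext e]
  · rw [eq (show s < t + 1 by omega), a_symm] at hax
    have es : (⟨s, by omega⟩ : Fin (t + 1)) = j := Fin.ext e.symm
    have et : (⟨t, by omega⟩ : Fin (t + 1)) = j' := Fin.ext e'.symm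
    convert hax using 1
    rw [es, et]
  · by_cases hk : k.val < t
    · have := chord_eq_zero hp (by omega) (i := j.val) (j := k.val) (by omega) hk
      rwa [eq j.isLt, eq k.isLt] at this
    · have hkt : k.val = t := by omega
      have := h0 j.val (by omega) (fun e => h2 ⟨e, hkt⟩)
      rw [eq j.isLt, a_symm] at this
      rwa [show k = ⟨t, by omega⟩ from Fin.ext hkt]

/-- `chain_form` for an embedding, expressed on `Fin`. -/
theorem chain_fin {t : ℕ} (v : Fin (t + 1) ↪ Fin n) (hv : ∀ j, T.IsMinusTwo (v j))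
    (ht : 2 ≤ t) (hn : t + 1 < n)
    (he : ∀ j j' : Fin (t + 1), j'.val = j.val + 1 → T.a (v j) (v j') ≠ 0) :
    ∃ (u : ℕ → Fin n) (w : ℤ), 0 < w ∧ IsPath T u (t + 1) ∧
      ((∀ j : Fin (t + 1), u j.val = v j) ∨ ∀ j : Fin (t + 1), u j.val = v (Fin.rev j)) ∧
      (∀ j k : Fin (t + 1), j.val + 1 < k.val → T.a (v j) (v k) = 0) ∧
      (((∀ j < t + 1, T.w (u j) = w) ∧ ∀ j < t, T.a (u j) (u (j + 1)) = w) ∨
        ((∀ j < t, T.w (u j) = w) ∧ T.w (u t) = 2 * w ∧
          (∀ j, j + 1 < t → T.a (u j) (u (j + 1)) = w) ∧ T.a (u (t - 1)) (u t) = 2 * w) ∨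
        ((∀ j < t, T.w (u j) = 2 * w) ∧ T.w (u t) = w ∧
          ∀ j < t, T.a (u j) (u (j + 1)) = 2 * w) ∨
        (t = 3 ∧ T.w (u 0) = w ∧ T.w (u 1) = w ∧ T.w (u 2) = 2 * w ∧ T.w (u 3) = 2 * w ∧
          T.a (u 0) (u 1) = w ∧ T.a (u 1) (u 2) = 2 * w ∧ T.a (u 2) (u 3) = 2 * w)) := by
  have hp := isPath_ofFin (T := T) v (L := t + 1) le_rfl hv fun j j' e _ => he j j' e
  obtain ⟨u, w, hu, hor, hform⟩ := chain_form hp (by omega) hn
  refine ⟨u, w, ?_, hu, ?_, fun j k hjk => ?_, ?_⟩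
  · have h0 := T.w_pos (u 0)
    rcases hform with ⟨h, -⟩ | ⟨h, -⟩ | ⟨h, -⟩ | ⟨-, h, -⟩
    · rw [h 0 (by omega)] at h0; exact h0
    · rw [h 0 (by omega)] at h0; exact h0
    · rw [h 0 (by omega)] at h0; omega
    · rw [h] at h0; exact h0
  · refine hor.imp (fun h j => ?_) fun h j => ?_
    · rw [h _ j.isLt, ofFin_eq _ j.isLt]
    · rw [h _ j.isLt, ofFin_eq _ (show t + 1 - 1 - j.val < t + 1 by omega)]
      congr 1; ext; simp [Fin.val_rev]; try omega
  · have := chord_eq_zero hp hn (i := j.val) (j := k.val) hjk k.isLt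
    rwa [ofFin_eq _ j.isLt, ofFin_eq _ k.isLt] at this
  · simpa only [Nat.add_sub_cancel, Nat.add_lt_add_iff_right, Nat.add_right_cancel_iff,
      show t + 1 - 2 = t - 1 by omega, show t + 1 = 4 ↔ t = 3 by omega,
      show ∀ j, j + 2 < t + 1 ↔ j + 1 < t by omega] using hform

theorem isPath_shift {u : ℕ → Fin n} {t : ℕ} (h : IsPath T u t) (j : ℕ) (hj : j + 1 < t) :
    0 < T.a (u j) (u (j + 1)) := h.edge j hj

/-- The inequality at an interior vertex of a path. -/
theorem path_row2 {u : ℕ → Fin n} {t : ℕ} (h : IsPath T u t) (j : ℕ) (hj : j + 2 < t) :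
    T.a (u j) (u (j + 1)) * T.m (u j) + T.a (u (j + 1)) (u (j + 2)) * T.m (u (j + 2)) ≤
      2 * T.w (u (j + 1)) * T.m (u (j + 1)) := by
  have := row2 (h.two (j + 1) (by omega)) (h.ne (i := j) (by omega) (by omega) (by omega))
    (h.ne (i := j + 2) (by omega) (by omega) (by omega))
    (h.ne (i := j) (j := j + 2) (by omega) (by omega) (by omega))
  rwa [a_symm T (u (j + 1)) (u j)] at this

/-- The inequalities at the two ends of a path. -/
theorem path_row_ends {u : ℕ → Fin n} {t : ℕ} (h : IsPath T u t) (ht : 2 ≤ t) :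
    T.a (u 0) (u 1) * T.m (u 1) ≤ 2 * T.w (u 0) * T.m (u 0) ∧
      T.a (u (t - 2)) (u (t - 1)) * T.m (u (t - 2)) ≤ 2 * T.w (u (t - 1)) * T.m (u (t - 1)) := by
  refine ⟨row1 (h.two 0 (by omega)) (h.ne (by omega) (by omega) (by omega)), ?_⟩
  have := row1 (h.two (t - 1) (by omega)) (h.ne (i := t - 2) (by omega) (by omega) (by omega))
  rwa [a_symm T (u (t - 1)) (u (t - 2))] at this

end Groth.Agent.NumType
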