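import Groth.Agent.NumType.Shapes
import Mathlib.Tactic.NormNum.Prime

/-! # Chains and trees of `(-2)`-indices in a proper subset of the indices -/

namespace Groth.Agent.NumType

open Finset

variable {n : ℕ} {T : Models.NumericalType n}

/-- A proper configuration of simple edges with a sub-null natural vector is impossible. -/
theorem small_tree {k : ℕ} [NeZero k] (v : Fin k → Fin n) (hv : Function.Injective v)
    (h2 : ∀ p, T.IsMinusTwo (v p)) (hn : k < n) (E : List (Fin k × Fin k))
    (hE : ∀ e ∈ E, 0 < T.a (v e.1) (v e.2)) (y : Fin k → ℕ) (hy : ∀ p, 0 < y p)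
    (hloop : ∀ p, (p, p) ∉ E)
    (hrow : ∀ p, 2 * y p ≤ ∑ q, if (p, q) ∈ E ∨ (q, p) ∈ E then y q else 0) : False := by
  refine small v hv h2 hn (fun p => (y p : ℝ)) (fun p => by exact_mod_cast hy p)
    (fun p q => if (p, q) ∈ E ∨ (q, p) ∈ E then 1 else 0) (fun p => by simp [hloop p]) ?_ ?_
  · intro p q hpq
    refine ite_le_nEntry (hv.ne hpq) ?_
    rintro (h | h)
    · exact one_le_nEntry T (hE _ h)
    · rw [nEntry_symm]; exact one_le_nEntry T (hE _ h)
  · intro p
    have h : ((2 * y p : ℕ) : ℝ) ≤ ((∑ q, if (p, q) ∈ E ∨ (q, p) ∈ E then y q else 0 : ℕ) : ℝ) := by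
      exact_mod_cast hrow p
    push_cast at h
    simpa [ite_mul] using h

theorem pos_of_ne {i j : Fin n} (hne : i ≠ j) (h : T.a i j ≠ 0) : 0 < T.a i j :=
  lt_of_le_of_ne (T.offDiag_nonneg i j hne) (Ne.symm h)

/-- Extend a finite family to a function on `ℕ`. -/
def ofFin {t : ℕ} (v : Fin (t + 1) → Fin n) (q : ℕ) : Fin n :=
  if h : q < t + 1 then v ⟨q, h⟩ else v 0

theorem ofFin_eq {t : ℕ} (v : Fin (t + 1) → Fin n) {q : ℕ} (h : q < t + 1) :
    ofFin v q = v ⟨q, h⟩ := dif_pos h

theorem two_eq_of {i j : Fin n} (hne : i ≠ j) (h : nProd T i j = 2) :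
    (T.w j = 2 * T.w i ∧ T.a i j = 2 * T.w i) ∨ (T.w i = 2 * T.w j ∧ T.a i j = 2 * T.w j) := by
  simpa using eq_of_nProd_prime T hne (q := 2) Nat.prime_two (by simpa using h)

theorem no_G2 {f : ℕ → Fin n} (h : IsPath T f 3) (hn : 3 < n) (h3 : 3 ≤ nProd T (f 0) (f 1)) :
    False := by
  have hs : Real.sqrt 3 * Real.sqrt 3 = 3 := Real.mul_self_sqrt (by norm_num)
  have hs0 : 0 < Real.sqrt 3 := by positivity
  refine small (fun p : Fin 3 => f p.val) h.injective (fun p => h.two _ p.isLt) hn
    ![Real.sqrt 3, 2, 1] ?_ ![![0, Real.sqrt 3, 0], ![Real.sqrt 3, 0, 1], ![0, 1, 0]] ?_ ?_ ?_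
  · intro p; fin_cases p <;> simp
  · intro p; fin_cases p <;> simp
  · have a01 := sqrt_three_le (h.ne (i := 0) (j := 1) (by omega) (by omega) (by omega)) h3
    have a12 := one_le_nEntry T (h.edge 1 (by omega))
    have a10 : Real.sqrt 3 ≤ nEntry T (f 1) (f 0) := by rw [nEntry_symm]; exact a01
    have a21 : 1 ≤ nEntry T (f 2) (f 1) := by rw [nEntry_symm]; exact a12
    have a02 := nEntry_nonneg T (h.ne (i := 0) (j := 2) (by omega) (by omega) (by omega))
    have a20 := nEntry_nonneg T (h.ne (i := 2) (j := 0) (by omega) (by omega) (by omega))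
    intro p q hpq
    fin_cases p <;> fin_cases q <;> first | exact absurd rfl hpq | simpa
  · intro p; fin_cases p <;> simp [Fin.sum_univ_three] <;> nlinarith

theorem nProd_le_two {f : ℕ → Fin n} {t : ℕ} (h : IsPath T f t) (ht : 3 ≤ t) (hn : t < n) {i : ℕ}
    (hi : i + 1 < t) : nProd T (f i) (f (i + 1)) ≤ 2 := by
  by_contra h3
  by_cases hl : i + 2 < t
  · refine no_G2 (h.segment (i := i) (L := 3) (by omega)) (by omega) ?_
    simp only [add_zero]; omega
  · refine no_G2 ((h.segment (i := i - 1) (L := 3) (by omega)).rev) (by omega) ?_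
    simp only [show i - 1 + (3 - 1 - 0) = i + 1 by omega, show i - 1 + (3 - 1 - 1) = i by omega]
    rw [nProd_symm]; omega

theorem nProd_cases {f : ℕ → Fin n} {t : ℕ} (h : IsPath T f t) (ht : 3 ≤ t) (hn : t < n) {i : ℕ}
    (hi : i + 1 < t) : nProd T (f i) (f (i + 1)) = 1 ∨ nProd T (f i) (f (i + 1)) = 2 := by
  have := nProd_le_two h ht hn hi
  have := nProd_pos T (h.edge i hi)
  omega

theorem at_most_one_double {f : ℕ → Fin n} {t : ℕ} (h : IsPath T f t) (hn : t < n) {i j : ℕ}
    (hij : i < j) (hj : j + 1 < t) (h1 : 2 ≤ nProd T (f i) (f (i + 1)))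
    (h2 : 2 ≤ nProd T (f j) (f (j + 1))) : False := by
  refine no_shapeC (h.segment (i := i) (L := j + 2 - i) (by omega)) (by omega) (by omega)
    (by simpa using h1) ?_
  simp only [show i + (j + 2 - i - 2) = j by omega, show i + (j + 2 - i - 1) = j + 1 by omega]
  exact h2

theorem no_F4 {f : ℕ → Fin n} (h : IsPath T f 5) (hn : 5 < n) (h2 : 2 ≤ nProd T (f 2) (f 3)) :
    False := by
  have hs := sqrt_two_mul
  have hs1 := one_le_sqrt_two
  refine small (fun p : Fin 5 => f p.val) h.injective (fun p => h.two _ p.isLt) hn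
    ![Real.sqrt 2, 2 * Real.sqrt 2, 3 * Real.sqrt 2, 4, 2] ?_
    ![![0, 1, 0, 0, 0], ![1, 0, 1, 0, 0], ![0, 1, 0, Real.sqrt 2, 0],
      ![0, 0, Real.sqrt 2, 0, 1], ![0, 0, 0, 1, 0]] ?_ ?_ ?_
  · intro p; fin_cases p <;> simp
  · intro p; fin_cases p <;> simp
  · intro p q hpq
    have nn := nEntry_nonneg T (h.injective.ne hpq)
    have a01 := one_le_nEntry T (h.edge 0 (by omega))
    have a12 := one_le_nEntry T (h.edge 1 (by omega))
    have a34 := one_le_nEntry T (h.edge 3 (by omega))
    have a23 := sqrt_two_le (h.ne (i := 2) (j := 3) (by omega) (by omega) (by omega)) h2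
    simp only [Nat.reduceAdd] at a01 a12 a34
    fin_cases p <;> fin_cases q <;>
      first
      | exact absurd rfl hpq
      | simpa using nn
      | simpa using a01
      | simpa using a12
      | simpa using a23
      | simpa using a34
      | simpa [nEntry_symm T (f 1) (f 0)] using a01
      | simpa [nEntry_symm T (f 2) (f 1)] using a12
      | simpa [nEntry_symm T (f 3) (f 2)] using a23
      | simpa [nEntry_symm T (f 4) (f 3)] using a34
  · intro p; fin_cases p <;> simp [Fin.sum_univ_five] <;> nlinarith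

theorem double_at_end {f : ℕ → Fin n} {t : ℕ} (h : IsPath T f t) (ht : 5 ≤ t) (hn : t < n) {i : ℕ}
    (hi : i + 1 < t) (h2 : 2 ≤ nProd T (f i) (f (i + 1))) : i = 0 ∨ i + 2 = t := by
  by_contra hne
  push Not at hne
  rcases Nat.lt_or_ge i 2 with hi2 | hi2
  · obtain rfl : i = 1 := by omega
    refine no_F4 ((h.segment (i := 0) (L := 5) (by omega)).rev) (by omega) ?_
    simp only [zero_add, Nat.reduceSub]
    rw [nProd_symm]; exact h2
  · refine no_F4 (h.segment (i := i - 2) (L := 5) (by omega)) (by omega) ?_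
    simp only [show i - 2 + 2 = i by omega, show i - 2 + 3 = i + 1 by omega]
    exact h2

/-- Along simple edges `w` is constant and equal to the entries. -/
theorem w_const {f : ℕ → Fin n} {t : ℕ} (h : IsPath T f t) {a b : ℕ} (hab : a ≤ b) (hb : b < t)
    (h1 : ∀ i, a ≤ i → i < b → nProd T (f i) (f (i + 1)) = 1) :
    (∀ i, a ≤ i → i ≤ b → T.w (f i) = T.w (f a)) ∧
      ∀ i, a ≤ i → i < b → T.a (f i) (f (i + 1)) = T.w (f a) := by
  have hw : ∀ i, a ≤ i → i ≤ b → T.w (f i) = T.w (f a) := by
    intro i hai hib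
    induction i, hai using Nat.le_induction with
    | base => rfl
    | succ i hai ih =>
      rw [← ih (by omega)]
      exact (eq_of_nProd_one T (h.ne (by omega) (by omega) (by omega)) (h1 i hai (by omega))).2
  refine ⟨hw, fun i hai hib => ?_⟩
  rw [← hw i hai hib.le]
  exact (eq_of_nProd_one T (h.ne (by omega) (by omega) (by omega)) (h1 i hai hib)).1

/-- The possible shapes of a chain, up to reversal. -/
theorem chain_form {f : ℕ → Fin n} {t : ℕ} (h : IsPath T f t) (ht : 3 ≤ t) (hn : t < n) :
    ∃ (u : ℕ → Fin n) (w : ℤ), IsPath T u t ∧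
      ((∀ j < t, u j = f j) ∨ ∀ j < t, u j = f (t - 1 - j)) ∧
      (((∀ j < t, T.w (u j) = w) ∧ ∀ j, j + 1 < t → T.a (u j) (u (j + 1)) = w) ∨
        ((∀ j, j + 1 < t → T.w (u j) = w) ∧ T.w (u (t - 1)) = 2 * w ∧
          (∀ j, j + 2 < t → T.a (u j) (u (j + 1)) = w) ∧ T.a (u (t - 2)) (u (t - 1)) = 2 * w) ∨
        ((∀ j, j + 1 < t → T.w (u j) = 2 * w) ∧ T.w (u (t - 1)) = w ∧
          ∀ j, j + 1 < t → T.a (u j) (u (j + 1)) = 2 * w) ∨
        (t = 4 ∧ T.w (u 0) = w ∧ T.w (u 1) = w ∧ T.w (u 2) = 2 * w ∧ T.w (u 3) = 2 * w ∧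
          T.a (u 0) (u 1) = w ∧ T.a (u 1) (u 2) = 2 * w ∧ T.a (u 2) (u 3) = 2 * w)) := by
  by_cases hall : ∀ i, i + 1 < t → nProd T (f i) (f (i + 1)) = 1
  · obtain ⟨hw, ha⟩ := w_const h (a := 0) (b := t - 1) (by omega) (by omega)
      fun i _ hi => hall i (by omega)
    exact ⟨f, T.w (f 0), h, Or.inl fun _ _ => rfl,
      Or.inl ⟨fun j hj => hw j (by omega) (by omega), fun j hj => ha j (by omega) (by omega)⟩⟩
  push Not at hall
  obtain ⟨i₀, hi₀, hd₀⟩ := hall
  have hd₀' : 2 ≤ nProd T (f i₀) (f (i₀ + 1)) := two_le_of_one_lt (h.edge _ hi₀) hd₀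
  -- move the double edge to the last position whenever it is at an end
  have key : ∀ u : ℕ → Fin n, IsPath T u t → 2 ≤ nProd T (u (t - 2)) (u (t - 1)) →
      ∃ w, ((∀ j, j + 1 < t → T.w (u j) = w) ∧ T.w (u (t - 1)) = 2 * w ∧
          (∀ j, j + 2 < t → T.a (u j) (u (j + 1)) = w) ∧ T.a (u (t - 2)) (u (t - 1)) = 2 * w) ∨
        ((∀ j, j + 1 < t → T.w (u j) = 2 * w) ∧ T.w (u (t - 1)) = w ∧
          ∀ j, j + 1 < t → T.a (u j) (u (j + 1)) = 2 * w) := by
    intro u hu hd
    have e1 : t - 2 + 1 = t - 1 := by omega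
    have hsimple : ∀ i, 0 ≤ i → i < t - 2 → nProd T (u i) (u (i + 1)) = 1 := by
      intro i _ hi
      by_contra hne
      exact at_most_one_double hu hn hi (by omega)
        (two_le_of_one_lt (hu.edge i (by omega)) hne) (by rw [e1]; exact hd)
    obtain ⟨hw, ha⟩ := w_const hu (Nat.zero_le (t - 2)) (by omega) hsimple
    have h2 : nProd T (u (t - 2)) (u (t - 1)) = 2 := by
      have := nProd_le_two hu ht hn (i := t - 2) (by omega)
      rw [e1] at this; omega
    have hlast := hw (t - 2) (by omega) le_rfl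
    rcases two_eq_of (hu.ne (by omega) (by omega) (by omega)) h2 with ⟨ew, ea⟩ | ⟨ew, ea⟩
    · exact ⟨T.w (u 0), Or.inl ⟨fun j hj => hw j (by omega) (by omega), by rw [ew, hlast],
        fun j hj => ha j (by omega) (by omega), by rw [ea, hlast]⟩⟩
    · refine ⟨T.w (u (t - 1)), Or.inr ⟨fun j hj => ?_, rfl, fun j hj => ?_⟩⟩
      · rw [hw j (by omega) (by omega), ← hlast, ew]
      · rcases Nat.lt_or_ge j (t - 2) with hj' | hj'
        · rw [ha j (by omega) hj', ← hlast, ew]
        · rw [show j = t - 2 by omega, e1, ea]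
  by_cases hlast : i₀ + 2 = t
  · obtain ⟨w, hw⟩ := key f h (by
      rw [show t - 2 = i₀ by omega, show t - 1 = i₀ + 1 by omega]; exact hd₀')
    exact ⟨f, w, h, Or.inl fun _ _ => rfl, by tauto⟩
  by_cases hfirst : i₀ = 0
  · obtain ⟨w, hw⟩ := key _ h.rev (by
      simp only [show t - 1 - (t - 2) = 1 by omega, Nat.sub_self, nProd_symm T (f 1)]
      subst hfirst; exact hd₀')
    exact ⟨_, w, h.rev, Or.inr fun _ _ => rfl, by tauto⟩
  obtain rfl : t = 4 := by
    by_contra ht4
    have := double_at_end h (by omega) hn hi₀ hd₀'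
    omega
  obtain rfl : i₀ = 1 := by omega
  have h01 : nProd T (f 0) (f 1) = 1 := by
    by_contra hne
    exact at_most_one_double h hn (show 0 < 1 by omega) (by omega)
      (two_le_of_one_lt (h.edge 0 (by omega)) hne) hd₀'
  have h23 : nProd T (f 2) (f 3) = 1 := by
    by_contra hne
    exact at_most_one_double h hn (show 1 < 2 by omega) (by omega) hd₀'
      (two_le_of_one_lt (h.edge 2 (by omega)) hne)
  have h12 : nProd T (f 1) (f 2) = 2 := by
    rcases nProd_cases h ht hn hi₀ with e | e
    · exact absurd e hd₀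
    · exact e
  obtain ⟨a01, w01⟩ := eq_of_nProd_one T (h.ne (by omega) (by omega) (by omega)) h01
  obtain ⟨a23, w23⟩ := eq_of_nProd_one T (h.ne (by omega) (by omega) (by omega)) h23
  rcases two_eq_of (h.ne (by omega) (by omega) (by omega)) h12 with ⟨ew, ea⟩ | ⟨ew, ea⟩
  · exact ⟨f, T.w (f 0), h, Or.inl fun _ _ => rfl, Or.inr <| Or.inr <| Or.inr
      ⟨rfl, rfl, w01, by rw [ew, w01], by rw [w23, ew, w01], a01, by rw [ea, w01],
        by rw [a23, ew, w01]⟩⟩
  · refine ⟨_, T.w (f 2), h.rev, Or.inr fun _ _ => rfl, Or.inr <| Or.inr <| Or.inr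
      ⟨rfl, ?_, ?_, ?_, ?_, ?_, ?_, ?_⟩⟩ <;> simp only [Nat.reduceSub]
    · exact w23
    · exact ew
    · rw [← w01, ew]
    · rw [a_symm, a23]
    · rw [a_symm, ea]
    · rw [a_symm, a01, ← w01, ew]

/-- A tree with one branch point of valence three has only simple edges and no further ones. -/
theorem branch {f : ℕ → Fin n} {t : ℕ} (h : IsPath T f t) {s : ℕ} (hs : 1 ≤ s) (hst : s + 1 < t)
    (hn : t + 1 < n) (x : Fin n) (hx : T.IsMinusTwo x) (hxf : ∀ i < t, x ≠ f i)
    (hxe : 0 < T.a x (f s)) :
    (∀ i < t, T.w (f i) = T.w x) ∧ (∀ i, i + 1 < t → T.a (f i) (f (i + 1)) = T.w x) ∧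
      T.a x (f s) = T.w x ∧ ∀ i < t, i ≠ s → T.a x (f i) = 0 := by
  have mkx : ∀ y : Fin n, T.IsMinusTwo y → ∀ r : Fin 2, T.IsMinusTwo (![x, y] r) := by
    intro y hy r; fin_cases r
    · exact hx
    · exact hy
  have hpair : ∀ y : Fin n, x ≠ y → Function.Injective ![x, y] := by
    intro y hy a b e
    fin_cases a <;> fin_cases b <;> simp_all [eq_comm]
  have hsimple : ∀ i, i + 1 < t → nProd T (f i) (f (i + 1)) = 1 := by
    intro i hi
    by_contra hne
    have hd := two_le_of_one_lt (h.edge i hi) hne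
    rcases Nat.lt_or_ge i s with his | his
    · refine no_shapeB (L := s - i) ((h.segment (i := i) (L := s - i + 1) (by omega)).rev)
        (by omega) (by omega) ?_ ![x, f (s + 1)] (hpair _ (hxf _ (by omega)))
        (mkx _ (h.two _ hst)) ?_ ?_
      · simp only [show i + (s - i + 1 - 1 - (s - i - 1)) = i + 1 by omega,
          show i + (s - i + 1 - 1 - (s - i)) = i by omega]
        rw [nProd_symm]; exact hd
      · intro r q hq
        fin_cases r
        · exact hxf _ (by omega)
        · exact h.ne hst (by omega) (by omega)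
      · intro r
        fin_cases r <;> simp only [show i + (s - i + 1 - 1 - 0) = s by omega]
        · simpa using hxe
        · simpa [a_symm T (f (s + 1))] using h.edge s hst
    · refine no_shapeB (L := i + 1 - s) (h.segment (i := s) (L := i + 1 - s + 1) (by omega))
        (by omega) (by omega) ?_ ![x, f (s - 1)] (hpair _ (hxf _ (by omega)))
        (mkx _ (h.two _ (by omega))) ?_ ?_
      · simp only [show s + (i + 1 - s - 1) = i by omega, show s + (i + 1 - s) = i + 1 by omega]
        exact hd
      · intro r q hq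
        fin_cases r
        · exact hxf _ (by omega)
        · exact h.ne (by omega) (by omega) (by omega)
      · intro r
        fin_cases r
        · simpa using hxe
        · simpa [show s - 1 + 1 = s by omega] using h.edge (s - 1) (by omega)
  have hxs : nProd T x (f s) = 1 := by
    by_contra hne
    have hd := two_le_of_one_lt hxe hne
    let g : ℕ → Fin n := fun q => if q = 0 then f s else x
    have hg : IsPath T g (1 + 1) :=
      { inj := fun a ha b hb e => by
          have := hxf s (by omega)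
          simp only [g] at e
          split_ifs at e <;> first | omega | exact absurd e this | exact absurd e.symm this
        two := fun a ha => by
          simp only [g]; split_ifs <;> first | exact hx | exact h.two _ (by omega)
        edge := fun a ha => by
          obtain rfl : a = 0 := by omega
          simp only [g, Nat.reduceAdd, if_true, one_ne_zero, if_false]
          rw [a_symm]; exact hxe }
    refine no_shapeB hg le_rfl (by omega) (by simpa [g, nProd_symm T (f s)] using hd)
      ![f (s - 1), f (s + 1)] ?_ ?_ ?_ ?_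
    · intro a b e
      have := h.ne (i := s - 1) (j := s + 1) (by omega) hst (by omega)
      fin_cases a <;> fin_cases b <;> simp_all [eq_comm]
    · intro r; fin_cases r <;> exact h.two _ (by omega)
    · intro r q hq
      simp only [g]
      fin_cases r <;> split_ifs <;>
        first | exact (hxf _ (by omega)).symm | exact h.ne (by omega) (by omega) (by omega)
    · intro r
      fin_cases r
      · simpa [g, show s - 1 + 1 = s by omega] using h.edge (s - 1) (by omega)
      · simpa [g, a_symm T (f (s + 1))] using h.edge s hst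
  obtain ⟨hw, ha⟩ := w_const h (a := 0) (b := t - 1) (by omega) (by omega)
    fun i _ hi => hsimple i (by omega)
  obtain ⟨axs, wxs⟩ := eq_of_nProd_one T (hxf s (by omega)) hxs
  have h0 : T.w (f 0) = T.w x := (hw s (by omega) (by omega)).symm.trans wxs
  refine ⟨fun i hi => (hw i (by omega) (by omega)).trans h0,
    fun i hi => (ha i (by omega) (by omega)).trans h0, axs, fun i hi his => ?_⟩
  by_contra hne
  have hp := pos_of_ne (hxf i hi) hne
  -- otherwise `x` closes a cycle with the path between `i` and `s`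
  have hcyc : ∀ a b : ℕ, a < b → b < t → 0 < T.a x (f a) → 0 < T.a x (f b) → False := by
    intro a b hab hb hpa hpb
    let g : ℕ → Fin n := fun q => if q ≤ b - a then f (a + q) else x
    have hg : IsPath T g (b - a + 2) :=
      { inj := fun p hp q hq e => by
          simp only [g] at e
          split_ifs at e
          · have := h.inj _ (by omega) _ (by omega) e; omega
          · exact absurd e.symm (hxf _ (by omega))
          · exact absurd e (hxf _ (by omega))
          · omega
        two := fun p hp => by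
          simp only [g]; split_ifs <;> first | exact hx | exact h.two _ (by omega)
        edge := fun p hp => by
          simp only [g]
          rcases Nat.lt_or_ge p (b - a) with hpl | hpl
          · rw [if_pos (by omega), if_pos (by omega)]
            simpa [add_assoc] using h.edge (a + p) (by omega)
          · rw [if_pos (by omega), if_neg (by omega), show a + p = b by omega, a_symm]
            exact hpb }
    refine no_cycle hg (by omega) (by omega) ?_
    simp only [g, Nat.zero_le, if_true, add_zero]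
    rw [if_neg (by omega)]
    exact hpa
  rcases Nat.lt_or_ge i s with his' | his'
  · exact hcyc i s his' (by omega) hp hxe
  · exact hcyc s i (by omega) hi hxe hp

end Groth.Agent.NumType
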