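import Groth.Agent.NumType.Chains
import Groth.Agent.NumType.Genus
import Mathlib.Logic.Equiv.Fintype

/-! # Data of the affine diagrams and the ways to recognise them -/

namespace Groth.Agent.NumType

open Finset

variable {n : ℕ} {T : Models.NumericalType n}

/-- `T` has, after relabelling, multiplicities `M * m`, weights `W * w` and entries `A * w`. -/
def Fits (T : Models.NumericalType n) (M W : ℕ → ℤ) (A : ℕ → ℕ → ℤ) : Prop :=
  ∃ (σ : Equiv.Perm (Fin n)) (m w : ℤ), ∀ i : Fin n, T.m (σ i) = M i.val * m ∧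
    T.w (σ i) = W i.val * w ∧ ∀ j : Fin n, i.val < j.val → T.a (σ i) (σ j) = A i.val j.val * w

theorem fits_of (g : ℕ → Fin n) (hg : ∀ i < n, ∀ j < n, g i = g j → i = j) (M W : ℕ → ℤ)
    (A : ℕ → ℕ → ℤ) (m w : ℤ) (hm : ∀ i < n, T.m (g i) = M i * m)
    (hw : ∀ i < n, T.w (g i) = W i * w)
    (ha : ∀ i j, i < j → j < n → T.a (g i) (g j) = A i j * w) : Fits T M W A := by
  have hinj : Function.Injective fun p : Fin n => g p.val :=
    fun p q e => Fin.ext (hg p.val p.isLt q.val q.isLt e)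
  exact ⟨Equiv.ofBijective _ ⟨hinj, Finite.surjective_of_injective hinj⟩, m, w, fun i =>
    ⟨hm _ i.isLt, hw _ i.isLt, fun j hij => ha _ _ hij j.isLt⟩⟩

/-- Relabel the vertices of the target data. -/
theorem Fits.relabel {M W : ℕ → ℤ} {A : ℕ → ℕ → ℤ} (h : Fits T M W A) (M' W' : ℕ → ℤ)
    (A' : ℕ → ℕ → ℤ) (τ : Fin n → Fin n)
    (hτ : (∀ i j, τ i = τ j → i = j) ∧ ∀ i : Fin n, M' i.val = M (τ i).val ∧ W' i.val = W (τ i).val ∧
      ∀ j : Fin n, i.val < j.val → A' i.val j.val =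
        if (τ i).val < (τ j).val then A (τ i).val (τ j).val else A (τ j).val (τ i).val) :
    Fits T M' W' A' := by
  obtain ⟨σ, m, w, h⟩ := h
  obtain ⟨hinj, hτ⟩ := hτ
  refine ⟨(Equiv.ofBijective τ ⟨fun i j => hinj i j, Finite.surjective_of_injective fun i j => hinj i j⟩).trans σ,
    m, w, fun i => ⟨?_, ?_, fun j hij => ?_⟩⟩
  · simp [(h _).1, (hτ i).1]
  · simp [(h _).2.1, (hτ i).2.1]
  · simp only [Equiv.trans_apply, Equiv.ofBijective_apply]
    rw [(hτ i).2.2 j hij]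
    split_ifs with hlt
    · exact (h _).2.2 _ hlt
    · have hne : τ i ≠ τ j := fun e => hij.ne (congrArg Fin.val (hinj i j e))
      rw [a_symm]
      exact (h _).2.2 _ (lt_of_le_of_ne (not_lt.1 hlt) fun e => hne (Fin.ext e.symm))

/-- Cycle. -/
def MA : ℕ → ℤ := fun _ => 1
/-- Cycle. -/
def AA (n : ℕ) : ℕ → ℕ → ℤ := fun i j => if j = i + 1 ∨ (i = 0 ∧ j + 1 = n) then 1 else 0
/-- First `C`-type. -/
def MC1 (n : ℕ) : ℕ → ℤ := fun i => if i + 1 < n then 2 else 1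
/-- First `C`-type. -/
def WC1 (n : ℕ) : ℕ → ℤ := fun i => if i = 0 then 1 else if i + 1 < n then 2 else 4
/-- First `C`-type. -/
def AC1 (n : ℕ) : ℕ → ℕ → ℤ := fun i j => if j = i + 1 then (if j + 1 < n then 2 else 4) else 0
/-- Second `C`-type. -/
def WC2 (n : ℕ) : ℕ → ℤ := fun i => if i = 0 ∨ i + 1 = n then 1 else 2
/-- Second `C`-type. -/
def AC2 : ℕ → ℕ → ℤ := fun i j => if j = i + 1 then 2 else 0
/-- Third `C`-type. -/
def MC3 (n : ℕ) : ℕ → ℤ := fun i => if i = 0 ∨ i + 1 = n then 1 else 2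
/-- Third `C`-type. -/
def WC3 (n : ℕ) : ℕ → ℤ := fun i => if i = 0 ∨ i + 1 = n then 2 else 1
/-- Third `C`-type. -/
def AC3 (n : ℕ) : ℕ → ℕ → ℤ := fun i j =>
  if j = i + 1 then (if i = 0 ∨ j + 1 = n then 2 else 1) else 0
/-- First `B`-type. -/
def MB1 (n : ℕ) : ℕ → ℤ := fun i => if i ≠ 0 ∧ i + 2 < n then 2 else 1
/-- First `B`-type. -/
def WB1 : ℕ → ℤ := fun i => if i = 0 then 2 else 1
/-- First `B`-type. -/
def AB1 (n : ℕ) : ℕ → ℕ → ℤ := fun i j =>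
  if (j = i + 1 ∧ j + 2 ≤ n) ∨ (i + 3 = n ∧ j + 1 = n) then (if i = 0 ∧ j = 1 then 2 else 1) else 0
/-- Second `B`-type. -/
def MB2 (n : ℕ) : ℕ → ℤ := fun i => if i + 2 < n then 2 else 1
/-- Second `B`-type. -/
def WB2 : ℕ → ℤ := fun i => if i = 0 then 1 else 2
/-- Second `B`-type. -/
def AB2 (n : ℕ) : ℕ → ℕ → ℤ := fun i j =>
  if (j = i + 1 ∧ j + 2 ≤ n) ∨ (i + 3 = n ∧ j + 1 = n) then 2 else 0
/-- `D`-type. -/
def MD (n : ℕ) : ℕ → ℤ := fun i => if 2 ≤ i ∧ i + 2 < n then 2 else 1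
/-- `D`-type. -/
def AD (n : ℕ) : ℕ → ℕ → ℤ := fun i j =>
  if (i = 0 ∧ j = 2) ∨ (i = 1 ∧ j = 2) ∨ (j = i + 1 ∧ 2 ≤ i ∧ j + 2 ≤ n) ∨ (i + 3 = n ∧ j + 1 = n)
    then 1 else 0
/-- Values given by a list. -/
def vec (l : List ℤ) : ℕ → ℤ := fun i => l.getD i 0
/-- Entries given by a list of edges. -/
def edges (l : List (ℕ × ℕ × ℤ)) : ℕ → ℕ → ℤ := fun i j =>
  match l.find? (fun e => e.1 == i && e.2.1 == j) with
  | some e => e.2.2
  | none => 0

theorem zero_of_not_pos {i j : Fin n} (hne : i ≠ j) (h : ¬ 0 < T.a i j) : T.a i j = 0 :=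
  le_antisymm (not_lt.1 h) (T.offDiag_nonneg i j hne)

theorem pic_row {i : Fin n} (hi : T.IsMinusTwo i) (S : Finset (Fin n)) (hS : i ∉ S)
    (hnb : ∀ y, 0 < T.a i y → y ∈ S) :
    ∑ j ∈ S, T.picMatrix i j * T.m j = 2 * T.m i := by
  classical
  have h := neg_diag_mul T i
  rw [hi.2] at h
  apply mul_left_cancel₀ (T.w_pos i).ne'
  rw [Finset.mul_sum, show T.w i * (2 * T.m i) = -(-2 * T.w i) * T.m i by ring, h]
  simp only [← mul_assoc, w_mul_pic]
  refine Finset.sum_subset (fun j hj => mem_erase.2 ⟨fun e => hS (e ▸ hj), mem_univ _⟩)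
    fun j hj hj' => ?_
  rw [zero_of_not_pos (ne_of_mem_erase hj).symm (fun hp => hj' (hnb j hp)), zero_mul]

theorem pic_row1 {i a : Fin n} (hi : T.IsMinusTwo i) (ha : a ≠ i)
    (hnb : ∀ y, 0 < T.a i y → y = a) : T.picMatrix i a * T.m a = 2 * T.m i := by
  simpa using pic_row hi {a} (by simpa using ha.symm) (fun y hy => by simpa using hnb y hy)

theorem pic_row2 {i a b : Fin n} (hi : T.IsMinusTwo i) (ha : a ≠ i) (hb : b ≠ i) (hab : a ≠ b)
    (hnb : ∀ y, 0 < T.a i y → y = a ∨ y = b) :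
    T.picMatrix i a * T.m a + T.picMatrix i b * T.m b = 2 * T.m i := by
  simpa [Finset.sum_pair hab] using
    pic_row hi {a, b} (by simp [ha.symm, hb.symm]) (fun y hy => by simpa using hnb y hy)

theorem pic_row3 {i a b c : Fin n} (hi : T.IsMinusTwo i) (ha : a ≠ i) (hb : b ≠ i) (hc : c ≠ i)
    (hab : a ≠ b) (hac : a ≠ c) (hbc : b ≠ c)
    (hnb : ∀ y, 0 < T.a i y → y = a ∨ y = b ∨ y = c) :
    T.picMatrix i a * T.m a + T.picMatrix i b * T.m b + T.picMatrix i c * T.m c = 2 * T.m i := by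
  simpa [Finset.sum_insert (show a ∉ ({b, c} : Finset (Fin n)) by simp [hab, hac]),
    Finset.sum_pair hbc, add_assoc] using
    pic_row hi {a, b, c} (by simp [ha.symm, hb.symm, hc.symm]) (fun y hy => by simpa using hnb y hy)

theorem simple_pic {i j : Fin n} (hne : i ≠ j) (h : nProd T i j = 1) :
    T.picMatrix i j = 1 ∧ T.picMatrix j i = 1 := by
  rcases Int.eq_one_or_neg_one_of_mul_eq_one' h with h' | h'
  · exact h'
  · have := pic_nonneg T hne; omega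

theorem nProd_eq_of_nEntry {i j : Fin n} {k : ℕ} (h : nEntry T i j = Real.sqrt k) :
    nProd T i j = k := by
  have := nEntry_sq T i j
  rw [h, Real.sq_sqrt (Nat.cast_nonneg k)] at this
  exact_mod_cast this.symm

theorem nProd_one_of_nEntry {i j : Fin n} (h : nEntry T i j = 1) : nProd T i j = 1 := by
  simpa using nProd_eq_of_nEntry (k := 1) (by simpa using h)

theorem nProd_two_of_nEntry {i j : Fin n} (h : nEntry T i j = Real.sqrt 2) : nProd T i j = 2 := by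
  simpa using nProd_eq_of_nEntry (k := 2) (by simpa using h)

theorem sqrt_w_m_ratio {κ : Type*} {v : κ → Fin n} {y : κ → ℝ} {c : ℝ}
    (h : ∀ p, Real.sqrt (T.w (v p)) * T.m (v p) = c * y p) (hy : ∀ p, 0 < y p) (p q : κ)
    {w Wp Wq Mp Mq : ℤ} (hp : T.w (v p) = Wp * w) (hq : T.w (v q) = Wq * w)
    (hM : 0 ≤ Mp) (hM' : 0 ≤ Mq)
    (hrat : ((Wp * Mp ^ 2 : ℤ) : ℝ) * y q ^ 2 = ((Wq * Mq ^ 2 : ℤ) : ℝ) * y p ^ 2) :
    T.m (v p) * Mq = T.m (v q) * Mp := by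
  have sp : (T.w (v p) : ℝ) * (T.m (v p) : ℝ) ^ 2 = c ^ 2 * y p ^ 2 := by
    have := congrArg (· ^ 2) (h p)
    simpa [mul_pow, Real.sq_sqrt (show (0 : ℝ) ≤ T.w (v p) by exact_mod_cast (T.w_pos _).le)] using this
  have sq : (T.w (v q) : ℝ) * (T.m (v q) : ℝ) ^ 2 = c ^ 2 * y q ^ 2 := by
    have := congrArg (· ^ 2) (h q)
    simpa [mul_pow, Real.sq_sqrt (show (0 : ℝ) ≤ T.w (v q) by exact_mod_cast (T.w_pos _).le)] using this
  rw [hp] at sp; rw [hq] at sq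
  push_cast at sp sq hrat
  have hW : (Wp : ℝ) * Wq * w ≠ 0 := by
    have hp0 : T.w (v p) ≠ 0 := (T.w_pos _).ne'
    have hq0 : T.w (v q) ≠ 0 := (T.w_pos _).ne'
    rw [hp] at hp0; rw [hq] at hq0
    have h1 := left_ne_zero_of_mul hp0
    have h2 := left_ne_zero_of_mul hq0
    have h3 := right_ne_zero_of_mul hp0
    positivity
  have key : ((Wp : ℝ) * Wq * w) * ((T.m (v p) * Mq) ^ 2 - (T.m (v q) * Mp) ^ 2 : ℝ) = 0 := by
    linear_combination (Wq : ℝ) * (Mq : ℝ) ^ 2 * sp - (Wp : ℝ) * (Mp : ℝ) ^ 2 * sq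
      - c ^ 2 * hrat
  have := (mul_eq_zero.1 key).resolve_left hW
  have e : (T.m (v p) * Mq) ^ 2 = (T.m (v q) * Mp) ^ 2 := by exact_mod_cast sub_eq_zero.1 this
  exact pow_left_injective₀_int (mul_nonneg (T.m_pos _).le hM') (mul_nonneg (T.m_pos _).le hM) e
where
  pow_left_injective₀_int {a b : ℤ} (ha : 0 ≤ a) (hb : 0 ≤ b) (e : a ^ 2 = b ^ 2) : a = b :=
    (pow_left_inj₀ ha hb two_ne_zero).1 e

end Groth.Agent.NumType
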