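import Groth.Agent.NumType.ClassData

/-! # Recognising the spanning affine shapes -/

namespace Groth.Agent.NumType

open Finset

variable {n : ℕ} {T : Models.NumericalType n}

theorem card_eq_of_surj {k : ℕ} {v : Fin k → Fin n} (hv : Function.Injective v)
    (hs : Function.Surjective v) : k = n := by
  have h1 := Fintype.card_le_of_injective v hv
  have h2 := Fintype.card_le_of_surjective v hs
  simp at h1 h2; omega

theorem simple_edge {i j : Fin n} (hne : i ≠ j) (h : nEntry T i j = 1) :
    T.a i j = T.w i ∧ T.w j = T.w i :=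
  eq_of_nProd_one T hne (nProd_one_of_nEntry h)

theorem fits_cycle {f : ℕ → Fin n} {L : ℕ} (h : IsPath T f L) (hL : 3 ≤ L)
    (hclose : 0 < T.a (f (L - 1)) (f 0)) : L = n ∧ Fits T MA MA (AA n) := by
  obtain ⟨hs, hex, c, hc, hy⟩ := cycle h hL hclose
  obtain rfl : L = n := card_eq_of_surj h.injective hs
  refine ⟨rfl, ?_⟩
  have hone : ∀ i, i + 1 < L → nProd T (f i) (f (i + 1)) = 1 := by
    intro i hi
    have := hex ⟨i, by omega⟩ ⟨i + 1, hi⟩ (by simp)
    rw [if_pos (Or.inl rfl)] at this
    exact nProd_one_of_nEntry this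
  obtain ⟨hw, ha⟩ := w_const h (a := 0) (b := L - 1) (by omega) (by omega) fun i _ hi => hone i (by omega)
  have hwi : ∀ i < L, T.w (f i) = 1 * T.w (f 0) := fun i hi => by rw [one_mul, hw i (by omega) (by omega)]
  refine fits_of f h.inj MA MA (AA L) (T.m (f 0)) (T.w (f 0)) (fun i hi => ?_) hwi fun i j hij hj => ?_
  · have := sqrt_w_m_ratio (v := fun p : Fin L => f p.val) (fun p => hy p) (fun _ => one_pos)
      ⟨i, hi⟩ ⟨0, by omega⟩ (Mp := 1) (Mq := 1) (hwi i hi) (hwi 0 (by omega)) zero_le_one zero_le_one rfl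
    simpa [MA] using this
  · have e := hex ⟨i, by omega⟩ ⟨j, hj⟩ (by simp; omega)
    simp only at e
    simp only [AA]
    split_ifs with h'
    · rw [if_pos (by omega)] at e
      rw [(simple_edge (h.ne (by omega) hj (by omega)) e).1, hw i (by omega) (by omega), one_mul]
    · rw [if_neg (by omega)] at e
      rw [a_eq_zero_of_nEntry T e, zero_mul]

theorem fits_C {f : ℕ → Fin n} {L : ℕ} (h : IsPath T f L) (hL : 3 ≤ L)
    (h0 : 2 ≤ nProd T (f 0) (f 1)) (h1 : 2 ≤ nProd T (f (L - 2)) (f (L - 1))) :
    L = n ∧ (Fits T (MC1 n) (WC1 n) (AC1 n) ∨ Fits T MA (WC2 n) AC2 ∨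
      Fits T (MC3 n) (WC3 n) (AC3 n)) := by
  obtain ⟨hs, hex, c, hc, hy⟩ := shapeC h hL h0 h1
  obtain rfl : L = n := card_eq_of_surj h.injective hs
  refine ⟨rfl, ?_⟩
  clear hex hy hc c hs
  -- the four orientations
  have core : ∀ g : ℕ → Fin L, IsPath T g L → 2 ≤ nProd T (g 0) (g 1) →
      2 ≤ nProd T (g (L - 2)) (g (L - 1)) →
      (T.w (g 1) = 2 * T.w (g 0) ∨ T.w (g (L - 1)) = 2 * T.w (g (L - 2))) →
      Fits T (MC1 L) (WC1 L) (AC1 L) ∨ Fits T MA (WC2 L) AC2 ∨ Fits T (MC3 L) (WC3 L) (AC3 L) := by
    intro g hg g0 g1 hor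
    obtain ⟨-, hex, c, hc, hy⟩ := shapeC hg hL g0 g1
    have hz : ∀ i j, i + 1 < j → j < L → T.a (g i) (g j) = 0 := by
      intro i j hij hj
      have := hex ⟨i, by omega⟩ ⟨j, hj⟩ (by simp; omega)
      simp only at this
      rw [if_neg (by omega)] at this
      exact a_eq_zero_of_nEntry T this
    have e01 : nProd T (g 0) (g 1) = 2 := by
      have := hex ⟨0, by omega⟩ ⟨1, by omega⟩ (by simp)
      simp only at this
      rw [if_pos (by first | omega | simp | (simp; omega)), if_pos (by first | omega | simp | (simp; omega))] at this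
      exact nProd_two_of_nEntry this
    have eL : nProd T (g (L - 2)) (g (L - 1)) = 2 := by
      have := hex ⟨L - 2, by omega⟩ ⟨L - 1, by omega⟩ (by simp; omega)
      simp only at this
      rw [if_pos (by first | omega | simp | (simp; omega)), if_pos (by first | omega | simp | (simp; omega))] at this
      exact nProd_two_of_nEntry this
    have hmid : ∀ i, 1 ≤ i → i < L - 2 → nProd T (g i) (g (i + 1)) = 1 := by
      intro i hi hi'
      have := hex ⟨i, by omega⟩ ⟨i + 1, by omega⟩ (by simp)
      simp only at this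
      rw [if_pos (by first | omega | simp | (simp; omega)), if_neg (by first | omega | simp | (simp; omega))] at this
      exact nProd_one_of_nEntry this
    obtain ⟨hw, ha⟩ := w_const hg (a := 1) (b := L - 2) (by omega) (by omega) hmid
    have hwl := hw (L - 2) (by omega) le_rfl
    have hA : ∀ (A : ℕ → ℕ → ℤ) (w : ℤ), (∀ i j, i + 1 < j → A i j = 0) →
        T.a (g 0) (g 1) = A 0 1 * w → (∀ i, 1 ≤ i → i < L - 2 → T.w (g 1) = A i (i + 1) * w) →
        T.a (g (L - 2)) (g (L - 1)) = A (L - 2) (L - 1) * w →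
        ∀ i j, i < j → j < L → T.a (g i) (g j) = A i j * w := by
      intro A w hA0 hfirst hm hlast i j hij hj
      rcases Nat.lt_or_ge (i + 1) j with hij' | hij'
      · rw [hz i j hij' hj, hA0 i j hij', zero_mul]
      obtain rfl : j = i + 1 := by omega
      by_cases i0 : i = 0
      · subst i0; exact hfirst
      by_cases il : i = L - 2
      · subst il; rwa [show L - 2 + 1 = L - 1 by omega]
      · rw [ha i (by omega) (by omega)]; exact hm i (by omega) (by omega)
    have hypos : ∀ p : Fin L, (0 : ℝ) < if p.val = 0 ∨ p.val + 1 = L then 1 else Real.sqrt 2 :=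
      fun p => by split <;> linarith [one_le_sqrt_two]
    rcases two_eq_of (hg.ne (by omega) (by omega) (by omega)) e01 with ⟨w01, a01⟩ | ⟨w01, a01⟩
    · rcases two_eq_of (hg.ne (by omega) (by omega) (by omega)) eL with ⟨wL, aL⟩ | ⟨wL, aL⟩
      · -- `1, 2, …, 2, 4`
        have hwi : ∀ i < L, T.w (g i) = WC1 L i * T.w (g 0) := by
          intro i hi
          simp only [WC1]
          split_ifs with i0 il
          · rw [i0, one_mul]
          · rw [hw i (by omega) (by omega), w01]
          · rw [show i = L - 1 by omega, wL, hwl, w01]; ring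
        refine Or.inl (fits_of g hg.inj _ _ _ (T.m (g (L - 1))) (T.w (g 0)) (fun i hi => ?_) hwi
          (hA _ _ (fun i j h => by simp [AC1]; omega) ?_ (fun i hi hi' => ?_) ?_))
        · have := sqrt_w_m_ratio (v := fun p : Fin L => g p.val) (fun p => hy p) hypos ⟨i, hi⟩ ⟨L - 1, by omega⟩ (Mp := MC1 L i) (Mq := 1) (hwi i hi)
            (hwi (L - 1) (by omega)) (by simp only [MC1]; split <;> norm_num) zero_le_one (by
              simp only [MC1, WC1, show L - 1 + 1 = L by omega]
              split_ifs <;> first | omega | (norm_num; done) | (exfalso; simp_all; done) | (simp at *; omega))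
          rw [mul_one] at this; rw [this]; ring
        · simp [AC1, a01, show (1 : ℕ) + 1 < L by omega]
        · simp [AC1, show i + 1 + 1 < L by omega, w01]
        · rw [aL, hwl, w01]
          simp [AC1, show L - 2 + 1 = L - 1 by omega, show ¬ L - 1 + 1 < L by omega]
          ring
      · -- `1, 2, …, 2, 1`
        have hwi : ∀ i < L, T.w (g i) = WC2 L i * T.w (g 0) := by
          intro i hi
          simp only [WC2]
          split_ifs with il
          · rcases il with il | il
            · rw [il, one_mul]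
            · rw [show i = L - 1 by omega]; omega
          · rw [hw i (by omega) (by omega), w01]
        refine Or.inr (Or.inl (fits_of g hg.inj _ _ _ (T.m (g 0)) (T.w (g 0)) (fun i hi => ?_) hwi
          (hA _ _ (fun i j h => by simp [AC2]; omega) ?_ (fun i hi hi' => ?_) ?_)))
        · have := sqrt_w_m_ratio (v := fun p : Fin L => g p.val) (fun p => hy p) hypos ⟨i, hi⟩ ⟨0, by omega⟩ (Mp := 1) (Mq := 1) (hwi i hi) (hwi 0 (by omega))
            zero_le_one zero_le_one (by
              simp only [WC2]
              split_ifs <;> first | omega | (norm_num; done) | (exfalso; simp_all; done) | (simp at *; omega))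
          simpa [MA] using this
        · simp [AC2, a01]
        · simp [AC2, w01]
        · simp only [AC2, show L - 2 + 1 = L - 1 by omega, if_true]; omega
    · rcases hor with e | wL
      · exact absurd e (by have := T.w_pos (g 0); omega)
      · -- `2, 1, …, 1, 2`
        have aL : T.a (g (L - 2)) (g (L - 1)) = 2 * T.w (g (L - 2)) := by
          rcases two_eq_of (hg.ne (by omega) (by omega) (by omega)) eL with ⟨-, e⟩ | ⟨e, -⟩
          · exact e
          · have := T.w_pos (g (L - 2)); omega
        have hwi : ∀ i < L, T.w (g i) = WC3 L i * T.w (g 1) := by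
          intro i hi
          simp only [WC3]
          split_ifs with il
          · rcases il with il | il
            · rw [il, w01]
            · rw [show i = L - 1 by omega, wL, hwl]
          · rw [hw i (by omega) (by omega), one_mul]
        refine Or.inr (Or.inr (fits_of g hg.inj _ _ _ (T.m (g 0)) (T.w (g 1)) (fun i hi => ?_) hwi
          (hA _ _ (fun i j h => by simp [AC3]; omega) ?_ (fun i hi hi' => ?_) ?_)))
        · have := sqrt_w_m_ratio (v := fun p : Fin L => g p.val) (fun p => hy p) hypos ⟨i, hi⟩ ⟨0, by omega⟩ (Mp := MC3 L i) (Mq := 1) (hwi i hi) (hwi 0 (by omega))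
            (by simp only [MC3]; split <;> norm_num) zero_le_one (by
              simp only [MC3, WC3]
              split_ifs <;> first | omega | (norm_num; done) | (exfalso; simp_all; done) | (simp at *; omega))
          rw [mul_one] at this; rw [this]; ring
        · simp [AC3, a01]
        · simp [AC3, show i ≠ 0 by omega, show i + 1 + 1 ≠ L by omega]
        · rw [aL, hwl]
          simp [AC3, show L - 2 + 1 = L - 1 by omega, show L - 1 + 1 = L by omega]
  by_cases hor : T.w (f 1) = 2 * T.w (f 0) ∨ T.w (f (L - 1)) = 2 * T.w (f (L - 2))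
  · exact core f h h0 h1 hor
  push Not at hor
  refine core _ h.rev ?_ ?_ (Or.inl ?_) <;>
    simp only [Nat.sub_zero, Nat.sub_self, show L - 1 - (L - 2) = 1 by omega,
      show L - 1 - 1 = L - 2 by omega]
  · rwa [nProd_symm]
  · rwa [nProd_symm]
  · obtain ⟨-, hex, -⟩ := shapeC h hL h0 h1
    have := hex ⟨L - 2, by omega⟩ ⟨L - 1, by omega⟩ (by simp; omega)
    simp only at this
    rw [if_pos (by first | omega | simp | (simp; omega)), if_pos (by first | omega | simp | (simp; omega))] at this
    rcases two_eq_of (h.ne (by omega) (by omega) (by omega)) (nProd_two_of_nEntry this) with ⟨e, -⟩ | ⟨e, -⟩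
    · exact absurd e hor.2
    · exact e

theorem fits_B {f : ℕ → Fin n} {L : ℕ} (h : IsPath T f (L + 1)) (hL : 1 ≤ L)
    (hd : 2 ≤ nProd T (f (L - 1)) (f L)) (x : Fin 2 → Fin n) (hx : Function.Injective x)
    (hx2 : ∀ s, T.IsMinusTwo (x s)) (hxf : ∀ s, ∀ i ≤ L, x s ≠ f i)
    (hxe : ∀ s, 0 < T.a (x s) (f 0)) :
    L + 3 = n ∧ (Fits T (MB1 n) WB1 (AB1 n) ∨ Fits T (MB2 n) WB2 (AB2 n)) := by
  obtain ⟨hs, hex, c, hc, hy⟩ := shapeB h hL hd x hx hx2 hxf hxe
  let e' : Fin 2 ⊕ Fin (L + 1) → Fin n := Sum.elim x fun p : Fin (L + 1) => f p.val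
  have hinj : Function.Injective e' := hx.sumElim h.injective fun s p => hxf s p.val (by omega)
  obtain rfl : L + 3 = n := by
    have h1 := Fintype.card_le_of_injective e' hinj
    have h2 := Fintype.card_le_of_surjective e' hs
    simp at h1 h2; omega
  refine ⟨rfl, ?_⟩
  -- numbering: the double end first, the two leaves last
  let idx : ℕ → Fin 2 ⊕ Fin (L + 1) := fun q =>
    if hq : q ≤ L then .inr ⟨L - q, by omega⟩ else if q = L + 1 then .inl 0 else .inl 1
  let g : ℕ → Fin (L + 3) := fun q => e' (idx q)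
  have idx_inj : ∀ i < L + 3, ∀ j < L + 3, idx i = idx j → i = j := by
    intro i hi j hj e
    simp only [idx] at e
    split_ifs at e <;> simp at e <;> omega
  have hg : ∀ i < L + 3, ∀ j < L + 3, g i = g j → i = j := fun i hi j hj e =>
    idx_inj i hi j hj (hinj e)
  have hone : ∀ i, 0 ≤ i → i < L - 1 → nProd T (f i) (f (i + 1)) = 1 := by
    intro i _ hi
    have := hex (.inr ⟨i, by omega⟩) (.inr ⟨i + 1, by omega⟩) (by simp)
    simp only [Sum.elim_inr] at this
    rw [if_pos (by first | omega | simp | (simp; omega)), if_neg (by first | omega | simp | (simp; omega))] at this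
    exact nProd_one_of_nEntry this
  obtain ⟨hw, ha⟩ := w_const h (a := 0) (b := L - 1) (by omega) (by omega) hone
  have hxw : ∀ s, T.w (x s) = T.w (f 0) ∧ T.a (x s) (f 0) = T.w (f 0) := by
    intro s
    have := hex (.inl s) (.inr ⟨0, by omega⟩) (by simp)
    simp only [Sum.elim_inl, Sum.elim_inr, if_true] at this
    obtain ⟨e1, e2⟩ := simple_edge (hxf s 0 (by omega)) this
    exact ⟨e2.symm, e1.trans e2.symm⟩
  have hLw := hw (L - 1) (by omega) le_rfl
  have hN : nProd T (f (L - 1)) (f L) = 2 := by
    have := hex (.inr ⟨L - 1, by omega⟩) (.inr ⟨L, by omega⟩) (by simp; omega)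
    simp only [Sum.elim_inr] at this
    rw [if_pos (by first | omega | simp | (simp; omega)), if_pos (by first | omega | simp | (simp; omega))] at this
    exact nProd_two_of_nEntry this
  -- entries in the new numbering
  have key : ∀ (A : ℕ → ℕ → ℤ) (w : ℤ),
      (∀ i j, i < j → ¬ ((j = i + 1 ∧ j + 2 ≤ L + 3) ∨ (i + 3 = L + 3 ∧ j + 1 = L + 3)) → A i j = 0) →
      T.a (f (L - 1)) (f L) = A 0 1 * w →
      (∀ i, 1 ≤ i → i < L → T.w (f 0) = A i (i + 1) * w) →
      T.w (f 0) = A L (L + 1) * w → T.w (f 0) = A L (L + 2) * w →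
      ∀ i j, i < j → j < L + 3 → T.a (g i) (g j) = A i j * w := by
    intro A w hA0 hdbl hm hl1 hl2 i j hij hj
    by_cases hjL : j ≤ L
    · simp only [g, idx, e', dif_pos hjL, dif_pos (show i ≤ L by omega), Sum.elim_inr]
      by_cases hadj : j = i + 1
      · subst hadj
        rw [a_symm]
        by_cases i0 : i = 0
        · subst i0; simpa [show L - 0 = L by omega] using hdbl
        · have := ha (L - (i + 1)) (by omega) (by omega)
          rw [show L - (i + 1) + 1 = L - i by omega] at this
          rw [this, hm i (by omega) (by omega)]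
      · have := hex (.inr ⟨L - i, by omega⟩) (.inr ⟨L - j, by omega⟩) (by simp; omega)
        simp only [Sum.elim_inr] at this
        rw [if_neg (by omega)] at this
        rw [a_eq_zero_of_nEntry T this, hA0 i j hij (by omega), zero_mul]
    · obtain ⟨s, hsj⟩ : ∃ s, idx j = .inl s := by
        simp only [idx, dif_neg hjL]; split <;> exact ⟨_, rfl⟩
      by_cases hiL : i ≤ L
      · simp only [g, hsj]
        simp only [idx, e', dif_pos hiL, Sum.elim_inr, Sum.elim_inl]
        rw [a_symm]
        by_cases iL : i = L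
        · subst iL
          rw [Nat.sub_self, (hxw s).2]
          rcases (show j = i + 1 ∨ j = i + 2 by omega) with rfl | rfl
          · exact hl1
          · exact hl2
        · have := hex (.inl s) (.inr ⟨L - i, by omega⟩) (by simp)
          simp only [Sum.elim_inl, Sum.elim_inr] at this
          rw [if_neg (by omega)] at this
          rw [a_eq_zero_of_nEntry T this, hA0 i j hij (by omega), zero_mul]
      · obtain rfl : i = L + 1 := by omega
        have := hex (idx (L + 1)) (idx j) (fun e => by have := idx_inj _ (by omega) j hj e; omega)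
        simp only [idx, dif_neg hjL, dif_neg hiL, if_true, if_neg (show j ≠ L + 1 by omega)] at this
        simp only [g, idx, e', dif_neg hjL, dif_neg hiL, if_true, if_neg (show j ≠ L + 1 by omega)]
        rw [a_eq_zero_of_nEntry T this, hA0 (L + 1) j hij (by omega), zero_mul]
  have hypos : ∀ p : Fin 2 ⊕ Fin (L + 1), (0 : ℝ) <
      Sum.elim (fun _ => 1) (fun p : Fin (L + 1) => if p.val = L then Real.sqrt 2 else 2) p := by
    rintro (s | p) <;> simp only [Sum.elim_inl, Sum.elim_inr]
    · norm_num
    · split <;> linarith [one_le_sqrt_two]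
  have hWf : ∀ i, i < L → T.w (f i) = T.w (f 0) := fun i hi => hw i (by omega) (by omega)
  have gw : ∀ (W : ℕ → ℤ) (w : ℤ), T.w (f L) = W 0 * w →
      (∀ i, 1 ≤ i → T.w (f 0) = W i * w) → ∀ i < L + 3, T.w (g i) = W i * w := by
    intro W w h0 h1 i hi
    by_cases i0 : i = 0
    · subst i0; simpa [g, idx, e'] using h0
    · by_cases hiL : i ≤ L
      · simp only [g, idx, e', dif_pos hiL, Sum.elim_inr]
        rw [hWf _ (by omega)]; exact h1 i (by omega)
      · simp only [g, idx, e', dif_neg hiL]
        split <;> simp only [Sum.elim_inl] <;> rw [(hxw _).1] <;> exact h1 i (by omega)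
  have hyidx : ∀ i, Sum.elim (fun _ => (1 : ℝ))
      (fun p : Fin (L + 1) => if p.val = L then Real.sqrt 2 else 2) (idx i) =
      if i = 0 then Real.sqrt 2 else if i ≤ L then 2 else 1 := by
    intro i
    by_cases hiL : i ≤ L
    · simp only [idx, dif_pos hiL, Sum.elim_inr]
      split_ifs <;> first | rfl | omega
    · simp only [idx, dif_neg hiL]
      split_ifs <;> first | rfl | omega
  rcases two_eq_of (h.ne (by omega) (by omega) (by omega)) hN with ⟨wd, ad⟩ | ⟨wd, ad⟩
  · refine Or.inl ?_
    have hwi := gw WB1 (T.w (f 0)) (by simp [WB1, wd, hLw]) (fun i hi => by simp [WB1, show i ≠ 0 by omega])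
    refine fits_of g hg _ _ _ (T.m (g (L + 1))) (T.w (f 0)) (fun i hi => ?_) hwi (key _ _ ?_ ?_ ?_ ?_ ?_)
    · have := sqrt_w_m_ratio (v := e') (fun p => hy p) hypos (idx i) (idx (L + 1))
        (Mp := MB1 (L + 3) i) (Mq := 1) (hwi i hi) (hwi (L + 1) (by omega))
        (by simp only [MB1]; split <;> norm_num) zero_le_one (by
          simp only [hyidx, MB1, WB1]
          split_ifs <;> first | omega | (norm_num; done) | (exfalso; simp_all; done) | (simp at *; omega))
      rw [mul_one] at this; simp only [g, this]; ring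
    · intro i j _ h'; simp only [AB1]; rw [if_neg h']
    · simp [AB1, ad, hLw, show (1 : ℕ) + 2 ≤ L + 3 by omega]
    · intro i h1 h2; simp [AB1, show i ≠ 0 by omega, show i + 1 + 2 ≤ L + 3 by omega]
    · simp [AB1, show L ≠ 0 by omega]
    · simp [AB1, show L ≠ 0 by omega]
  · refine Or.inr ?_
    have h20 : T.w (f 0) = 2 * T.w (f L) := by omega
    have hwi := gw WB2 (T.w (f L)) (by simp [WB2]) (fun i hi => by simp [WB2, show i ≠ 0 by omega, h20])
    refine fits_of g hg _ _ _ (T.m (g (L + 1))) (T.w (f L)) (fun i hi => ?_) hwi (key _ _ ?_ ?_ ?_ ?_ ?_)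
    · have := sqrt_w_m_ratio (v := e') (fun p => hy p) hypos (idx i) (idx (L + 1))
        (Mp := MB2 (L + 3) i) (Mq := 1) (hwi i hi) (hwi (L + 1) (by omega))
        (by simp only [MB2]; split <;> norm_num) zero_le_one (by
          simp only [hyidx, MB2, WB2]
          split_ifs <;> first | omega | (norm_num; done) | exact False.elim (by assumption))
      rw [mul_one] at this; simp only [g, this]; ring
    · intro i j _ h'; simp only [AB2]; rw [if_neg h']
    · simp [AB2, ad, show (1 : ℕ) + 2 ≤ L + 3 by omega]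
    · intro i h1 h2; simp [AB2, show i + 1 + 2 ≤ L + 3 by omega, h20]
    · simp [AB2, h20]
    · simp [AB2, h20]

theorem fits_D {f : ℕ → Fin n} {L : ℕ} (h : IsPath T f (L + 1)) (hL : 1 ≤ L)
    (x : Fin 2 ⊕ Fin 2 → Fin n) (hx : Function.Injective x) (hx2 : ∀ s, T.IsMinusTwo (x s))
    (hxf : ∀ s, ∀ i ≤ L, x s ≠ f i)
    (hxe : ∀ s, 0 < T.a (x (.inl s)) (f 0)) (hxe' : ∀ s, 0 < T.a (x (.inr s)) (f L)) :
    L + 5 = n ∧ Fits T (MD n) MA (AD n) := by
  obtain ⟨hs, hex, c, hc, hy⟩ := shapeD h hL x hx hx2 hxf hxe hxe'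
  let e' : (Fin 2 ⊕ Fin 2) ⊕ Fin (L + 1) → Fin n := Sum.elim x fun p : Fin (L + 1) => f p.val
  have hinj : Function.Injective e' := hx.sumElim h.injective fun s p => hxf s p.val (by omega)
  obtain rfl : L + 5 = n := by
    have h1 := Fintype.card_le_of_injective e' hinj
    have h2 := Fintype.card_le_of_surjective e' hs
    simp at h1 h2; omega
  refine ⟨rfl, ?_⟩
  let idx : ℕ → (Fin 2 ⊕ Fin 2) ⊕ Fin (L + 1) := fun q =>
    if q = 0 then .inl (.inl 0) else if q = 1 then .inl (.inl 1) else
    if hq : q ≤ L + 2 then .inr ⟨q - 2, by omega⟩ else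
    if q = L + 3 then .inl (.inr 0) else .inl (.inr 1)
  have idx_inj : ∀ i < L + 5, ∀ j < L + 5, idx i = idx j → i = j := by
    intro i hi j hj e
    simp only [idx] at e
    split_ifs at e <;> simp at e <;> omega
  let g : ℕ → Fin (L + 5) := fun q => e' (idx q)
  have hw : ∀ p, T.w (e' p) = T.w (f 0) := by
    have hone : ∀ i, 0 ≤ i → i < L → nProd T (f i) (f (i + 1)) = 1 := by
      intro i _ hi
      have := hex (.inr ⟨i, by omega⟩) (.inr ⟨i + 1, by omega⟩) (by simp)
      simp only [Sum.elim_inr] at this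
      rw [if_pos (by first | omega | simp)] at this
      exact nProd_one_of_nEntry this
    obtain ⟨hw, -⟩ := w_const h (a := 0) (b := L) (by omega) (by omega) hone
    rintro ((s | s) | p)
    · have := hex (.inl (.inl s)) (.inr ⟨0, by omega⟩) (by simp)
      simp only [Sum.elim_inl, Sum.elim_inr, if_true] at this
      exact (simple_edge (hxf _ 0 (by omega)) this).2.symm
    · have := hex (.inl (.inr s)) (.inr ⟨L, by omega⟩) (by simp)
      simp only [Sum.elim_inl, Sum.elim_inr, if_true] at this
      exact (simple_edge (hxf _ L le_rfl) this).2.symm.trans (hw L (by omega) le_rfl)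
    · exact hw p.val (by omega) (by omega)
  have hyidx : ∀ i, Sum.elim (fun _ => (1 : ℝ)) (fun _ => 2) (idx i) =
      if 2 ≤ i ∧ i ≤ L + 2 then 2 else 1 := by
    intro i
    by_cases i0 : i = 0
    · simp [idx, i0]
    by_cases i1 : i = 1
    · simp [idx, i1]
    by_cases i2 : i ≤ L + 2
    · simp [idx, i0, i1, i2, show 2 ≤ i by omega]
    · simp only [idx, if_neg i0, if_neg i1, dif_neg i2]
      split_ifs <;> first | omega | rfl
  refine fits_of g (fun i hi j hj e => idx_inj i hi j hj (hinj e)) _ _ _ (T.m (g 0)) (T.w (f 0))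
    (fun i hi => ?_) (fun i hi => by simp [g, hw, MA]) fun i j hij hj => ?_
  · have hypos : ∀ p : (Fin 2 ⊕ Fin 2) ⊕ Fin (L + 1),
        (0 : ℝ) < Sum.elim (fun _ => 1) (fun _ => 2) p := by rintro (s | p) <;> norm_num
    have := sqrt_w_m_ratio (v := e') (fun p => hy p) hypos (idx i) (idx 0)
      (Mp := MD (L + 5) i) (Mq := 1) (w := T.w (f 0)) (Wp := 1) (Wq := 1) (by simp [hw]) (by simp [hw])
      (by simp only [MD]; split <;> norm_num) zero_le_one (by
        simp only [hyidx, MD]
        split_ifs <;> first | omega | (norm_num; done) | (exfalso; simp_all; done) | (simp at *; omega))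
    rw [mul_one] at this; simp only [g, this]; ring
  · have hne : idx i ≠ idx j := fun e => by have := idx_inj i (by omega) j hj e; omega
    have e := hex (idx i) (idx j) hne
    have hne' : g i ≠ g j := hinj.ne hne
    simp only [AD]
    split_ifs with hadj
    · have : nEntry T (g i) (g j) = 1 := by
        simp only [g, e', idx] at e ⊢
        rw [e]
        split_ifs <;> simp only [Sum.elim_inl, Sum.elim_inr] <;>
          first | omega | (rw [if_pos]; omega) | (exfalso; omega)
      rw [(simple_edge hne' this).1, one_mul]; exact hw _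
    · have : nEntry T (g i) (g j) = 0 := by
        simp only [g, e', idx] at e ⊢
        rw [e]
        split_ifs <;> simp only [Sum.elim_inl, Sum.elim_inr] <;>
          first | omega | rfl | (rw [if_neg]; omega)
      rw [a_eq_zero_of_nEntry T this, zero_mul]

theorem exact_tree {k : ℕ} [NeZero k] (v : Fin k → Fin n) (hv : Function.Injective v)
    (h2 : ∀ p, T.IsMinusTwo (v p)) (E : List (Fin k × Fin k))
    (hE : ∀ e ∈ E, 0 < T.a (v e.1) (v e.2)) (y : Fin k → ℕ) (hy : ∀ p, 0 < y p)
    (hloop : ∀ p, (p, p) ∉ E)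
    (hrow : ∀ p, 2 * y p ≤ ∑ q, if (p, q) ∈ E ∨ (q, p) ∈ E then y q else 0) (o : Fin k) (ho : y o = 1)
    (hwc : ∀ W : Fin k → ℤ, (∀ e ∈ E, W e.1 = W e.2) → ∀ p, W p = W o) :
    k = n ∧ Fits T (fun i => if h : i < k then (y ⟨i, h⟩ : ℤ) else 0) MA
      (fun i j => if h : i < k ∧ j < k then
        (if (⟨i, h.1⟩, ⟨j, h.2⟩) ∈ E ∨ (⟨j, h.2⟩, ⟨i, h.1⟩) ∈ E then 1 else 0) else 0) := by
  obtain ⟨hs, hex, c, hc, hyv⟩ := config_rows T v hv h2 (fun p => (y p : ℝ))
    (fun p => by exact_mod_cast hy p) (fun p q => if (p, q) ∈ E ∨ (q, p) ∈ E then 1 else 0)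
    (fun p => by simp [hloop p]) (by
      intro p q hpq
      refine ite_le_nEntry (hv.ne hpq) ?_
      rintro (h | h)
      · exact one_le_nEntry T (hE _ h)
      · rw [nEntry_symm]; exact one_le_nEntry T (hE _ h))
    (fun p => by
      have h : ((2 * y p : ℕ) : ℝ) ≤
          ((∑ q, if (p, q) ∈ E ∨ (q, p) ∈ E then y q else 0 : ℕ) : ℝ) := by exact_mod_cast hrow p
      push_cast at h
      simpa [ite_mul] using h)
  obtain rfl : k = n := card_eq_of_surj hv hs
  refine ⟨rfl, ?_⟩
  have hw : ∀ p, T.w (v p) = T.w (v o) := hwc (fun p => T.w (v p)) fun e he => by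
    have hne : e.1 ≠ e.2 := fun h => hloop e.1 (by
      have : e = (e.1, e.1) := Prod.ext rfl h.symm
      exact this ▸ he)
    have := hex e.1 e.2 hne
    rw [if_pos (Or.inl he)] at this
    exact ((simple_edge (hv.ne hne) this).2).symm
  refine fits_of (fun q => if h : q < k then v ⟨q, h⟩ else v o) ?_ _ _ _ (T.m (v o)) (T.w (v o))
    (fun i hi => ?_) (fun i hi => by simp [MA, hi, hw]) fun i j hij hj => ?_
  · intro i hi j hj e
    simp only [hi, hj, dif_pos] at e
    simpa using hv e
  · have := sqrt_w_m_ratio hyv (fun p => by exact_mod_cast hy p) ⟨i, hi⟩ o (Mp := y ⟨i, hi⟩) (Mq := 1)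
      (w := T.w (v o)) (Wp := 1) (Wq := 1) (by rw [hw, one_mul]) (one_mul _).symm (by positivity)
      zero_le_one (by rw [ho]; push_cast; ring)
    rw [mul_one] at this
    simp only [hi, dif_pos, this]; ring
  · have hik : i < k := by omega
    simp only [hik, hj, and_self, dif_pos]
    have := hex ⟨i, hik⟩ ⟨j, hj⟩ (by simp; omega)
    split_ifs at this ⊢
    · rw [(simple_edge (hv.ne (by simp; omega)) this).1, hw, one_mul]
    · rw [a_eq_zero_of_nEntry T this, zero_mul]

end Groth.Agent.NumType
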