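import Groth.Agent.NumType.ClassShapes

/-! # `G2~`, `F4~` and the finite-type contradictions -/

namespace Groth.Agent.NumType

open Finset

variable {n : ℕ} {T : Models.NumericalType n}

theorem fits_G2 {f : ℕ → Fin n} (h : IsPath T f 3) (h3 : 3 ≤ nProd T (f 0) (f 1)) :
    3 = n ∧ (Fits T (vec [1, 2, 1]) (vec [3, 1, 1]) (edges [(0, 1, 3), (1, 2, 1)]) ∨
      Fits T (vec [3, 2, 1]) (vec [1, 3, 3]) (edges [(0, 1, 3), (1, 2, 3)])) := by
  have hs : Real.sqrt 3 * Real.sqrt 3 = 3 := Real.mul_self_sqrt (by norm_num)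
  have hs0 : 0 < Real.sqrt 3 := by positivity
  have a01 := sqrt_three_le (h.ne (i := 0) (j := 1) (by omega) (by omega) (by omega)) h3
  have a12 := one_le_nEntry T (h.edge 1 (by omega))
  have a10 : Real.sqrt 3 ≤ nEntry T (f 1) (f 0) := by rw [nEntry_symm]; exact a01
  have a21 : 1 ≤ nEntry T (f 2) (f 1) := by rw [nEntry_symm]; exact a12
  have a02 := nEntry_nonneg T (h.ne (i := 0) (j := 2) (by omega) (by omega) (by omega))
  have a20 := nEntry_nonneg T (h.ne (i := 2) (j := 0) (by omega) (by omega) (by omega))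
  obtain ⟨hsur, hex, c, hc, hy⟩ := config_rows T (fun p : Fin 3 => f p.val) h.injective
    (fun p => h.two _ p.isLt) ![Real.sqrt 3, 2, 1] (fun p => by fin_cases p <;> simp)
    ![![0, Real.sqrt 3, 0], ![Real.sqrt 3, 0, 1], ![0, 1, 0]] (fun p => by fin_cases p <;> simp)
    (fun p q hpq => by fin_cases p <;> fin_cases q <;> first | exact absurd rfl hpq | simpa)
    (fun p => by fin_cases p <;> simp [Fin.sum_univ_three] <;> nlinarith)
  obtain rfl : 3 = n := card_eq_of_surj h.injective hsur
  refine ⟨rfl, ?_⟩
  have e01 : nEntry T (f 0) (f 1) = Real.sqrt 3 := by simpa using hex 0 1 (by decide)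
  have e12 : nEntry T (f 1) (f 2) = 1 := by simpa using hex 1 2 (by decide)
  have e02 : nEntry T (f 0) (f 2) = 0 := by simpa using hex 0 2 (by decide)
  have z02 := a_eq_zero_of_nEntry T e02
  have n01 : nProd T (f 0) (f 1) = 3 := by
    simpa using nProd_eq_of_nEntry (k := 3) (by simpa using e01)
  have n12 := nProd_one_of_nEntry e12
  obtain ⟨ea, ew⟩ := eq_of_nProd_one T (h.ne (by omega) (by omega) (by omega)) n12
  obtain ⟨p12, p21⟩ := simple_pic (h.ne (by omega) (by omega) (by omega)) n12
  have r2 := pic_row1 (h.two 2 (by omega)) (h.ne (i := 1) (j := 2) (by omega) (by omega) (by omega))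
    (fun y hy => by
      obtain ⟨p, rfl⟩ := hsur y
      fin_cases p
      · simp [a_symm T (f 2) (f 0), z02] at hy
      · rfl
      · exact absurd rfl (ne_of_pos T hy))
  rw [p21, one_mul] at r2
  have r0 := pic_row1 (h.two 0 (by omega)) (h.ne (i := 1) (j := 0) (by omega) (by omega) (by omega))
    (fun y hy => by
      obtain ⟨p, rfl⟩ := hsur y
      fin_cases p
      · exact absurd rfl (ne_of_pos T hy)
      · rfl
      · simp [z02] at hy)
  rcases eq_of_nProd_prime T (h.ne (i := 0) (j := 1) (by omega) (by omega) (by omega)) (q := 3)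
    Nat.prime_three (by simpa using n01) with ⟨w1, a1⟩ | ⟨w1, a1⟩
  · refine Or.inr (fits_of f h.inj _ _ _ (T.m (f 2)) (T.w (f 0)) ?_ ?_ ?_)
    · have : T.picMatrix (f 0) (f 1) = 3 :=
        Int.ediv_eq_of_eq_mul_left (T.w_pos _).ne' (by push_cast at a1; linarith)
      rw [this] at r0
      intro i hi; interval_cases i <;> simp [vec] <;> omega
    · intro i hi; interval_cases i <;> simp [vec] <;> omega
    · intro i j hij hj
      interval_cases j <;> interval_cases i <;> simp [edges] <;> omega
  · refine Or.inl (fits_of f h.inj _ _ _ (T.m (f 2)) (T.w (f 1)) ?_ ?_ ?_)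
    · have : T.picMatrix (f 0) (f 1) = 1 :=
        Int.ediv_eq_of_eq_mul_left (T.w_pos _).ne' (by omega)
      rw [this] at r0
      intro i hi; interval_cases i <;> simp [vec] <;> omega
    · intro i hi; interval_cases i <;> simp [vec] <;> omega
    · intro i j hij hj
      interval_cases j <;> interval_cases i <;> simp [edges] <;> omega

theorem fits_F4 {f : ℕ → Fin n} (h : IsPath T f 5) (h2 : 2 ≤ nProd T (f 2) (f 3)) :
    5 = n ∧ (Fits T (vec [1, 2, 3, 4, 2]) (vec [2, 2, 2, 1, 1])
        (edges [(0, 1, 2), (1, 2, 2), (2, 3, 2), (3, 4, 1)]) ∨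
      Fits T (vec [1, 2, 3, 2, 1]) (vec [1, 1, 1, 2, 2])
        (edges [(0, 1, 1), (1, 2, 1), (2, 3, 2), (3, 4, 2)])) := by
  have hs := sqrt_two_mul
  have hs1 := one_le_sqrt_two
  obtain ⟨hsur, hex, c, hc, hy⟩ := config_rows T (fun p : Fin 5 => f p.val) h.injective
    (fun p => h.two _ p.isLt) ![Real.sqrt 2, 2 * Real.sqrt 2, 3 * Real.sqrt 2, 4, 2]
    (fun p => by fin_cases p <;> simp)
    ![![0, 1, 0, 0, 0], ![1, 0, 1, 0, 0], ![0, 1, 0, Real.sqrt 2, 0],
      ![0, 0, Real.sqrt 2, 0, 1], ![0, 0, 0, 1, 0]] (fun p => by fin_cases p <;> simp)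
    (fun p q hpq => by
      have nn := nEntry_nonneg T (h.injective.ne hpq)
      have a01 := one_le_nEntry T (h.edge 0 (by omega))
      have a12 := one_le_nEntry T (h.edge 1 (by omega))
      have a34 := one_le_nEntry T (h.edge 3 (by omega))
      have a23 := sqrt_two_le (h.ne (i := 2) (j := 3) (by omega) (by omega) (by omega)) h2
      simp only [Nat.reduceAdd] at a01 a12 a34
      fin_cases p <;> fin_cases q <;>
        first
        | exact absurd rfl hpq
        | simpa using nn
        | simpa using a01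
        | simpa using a12
        | simpa using a23
        | simpa using a34
        | simpa [nEntry_symm T (f 1) (f 0)] using a01
        | simpa [nEntry_symm T (f 2) (f 1)] using a12
        | simpa [nEntry_symm T (f 3) (f 2)] using a23
        | simpa [nEntry_symm T (f 4) (f 3)] using a34)
    (fun p => by fin_cases p <;> simp [Fin.sum_univ_five] <;> nlinarith)
  obtain rfl : 5 = n := card_eq_of_surj h.injective hsur
  refine ⟨rfl, ?_⟩
  have z : ∀ i j, i + 1 < j → j < 5 → T.a (f i) (f j) = 0 := by
    intro i j hij hj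
    have := hex ⟨i, by omega⟩ ⟨j, hj⟩ (by simp; omega)
    apply a_eq_zero_of_nEntry
    have hi5 : i < 5 := by omega
    interval_cases i <;> interval_cases j <;> first | omega | simpa using this
  obtain ⟨a01, w01⟩ := simple_edge (h.ne (i := 0) (j := 1) (by omega) (by omega) (by omega))
    (by simpa using hex 0 1 (by decide))
  obtain ⟨a12, w12⟩ := simple_edge (h.ne (i := 1) (j := 2) (by omega) (by omega) (by omega))
    (by simpa using hex 1 2 (by decide))
  obtain ⟨a34, w34⟩ := simple_edge (h.ne (i := 3) (j := 4) (by omega) (by omega) (by omega))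
    (by simpa using hex 3 4 (by decide))
  have n23 : nProd T (f 2) (f 3) = 2 := nProd_two_of_nEntry (by simpa using hex 2 3 (by decide))
  have hypos : ∀ p : Fin 5,
      (0 : ℝ) < ![Real.sqrt 2, 2 * Real.sqrt 2, 3 * Real.sqrt 2, 4, 2] p :=
    fun p => by fin_cases p <;> simp
  rcases two_eq_of (h.ne (i := 2) (j := 3) (by omega) (by omega) (by omega)) n23 with
    ⟨w23, a23⟩ | ⟨w23, a23⟩
  · have hwi : ∀ i < 5, T.w (f i) = vec [1, 1, 1, 2, 2] i * T.w (f 0) := by
      intro i hi; interval_cases i <;> simp [vec] <;> omega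
    refine Or.inr (fits_of f h.inj _ _ _ (T.m (f 0)) (T.w (f 0)) (fun i hi => ?_) hwi ?_)
    · have := sqrt_w_m_ratio (v := fun p : Fin 5 => f p.val) (fun p => hy p) hypos ⟨i, hi⟩ ⟨0, by omega⟩
        (Mp := vec [1, 2, 3, 2, 1] i) (Mq := 1) (hwi i hi) (hwi 0 (by omega))
        (by interval_cases i <;> simp [vec]) zero_le_one
        (by interval_cases i <;> simp [vec, mul_pow] <;> norm_num)
      rw [mul_one] at this; rw [this]; ring
    · intro i j hij hj
      rcases Nat.lt_or_ge (i + 1) j with hij' | hij'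
      · rw [z i j hij' hj]
        have hi5 : i < 5 := by omega
        interval_cases i <;> interval_cases j <;> first | omega | simp [edges]
      · obtain rfl : j = i + 1 := by omega
        have hi5 : i < 4 := by omega
        interval_cases i <;> simp [edges] <;> omega
  · have hwi : ∀ i < 5, T.w (f i) = vec [2, 2, 2, 1, 1] i * T.w (f 3) := by
      intro i hi; interval_cases i <;> simp [vec] <;> omega
    refine Or.inl (fits_of f h.inj _ _ _ (T.m (f 0)) (T.w (f 3)) (fun i hi => ?_) hwi ?_)
    · have := sqrt_w_m_ratio (v := fun p : Fin 5 => f p.val) (fun p => hy p) hypos ⟨i, hi⟩ ⟨0, by omega⟩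
        (Mp := vec [1, 2, 3, 4, 2] i) (Mq := 1) (hwi i hi) (hwi 0 (by omega))
        (by interval_cases i <;> simp [vec]) zero_le_one
        (by interval_cases i <;> simp [vec, mul_pow] <;> norm_num)
      rw [mul_one] at this; rw [this]; ring
    · intro i j hij hj
      rcases Nat.lt_or_ge (i + 1) j with hij' | hij'
      · rw [z i j hij' hj]
        have hi5 : i < 5 := by omega
        interval_cases i <;> interval_cases j <;> first | omega | simp [edges]
      · obtain rfl : j = i + 1 := by omega
        have hi5 : i < 4 := by omega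
        interval_cases i <;> simp [edges] <;> omega

/-- No spanning chordless path with only simple edges, one end edge possibly double. -/
theorem no_line {f : ℕ → Fin n} (h : IsPath T f n) (hn : 3 ≤ n)
    (hnb : ∀ i < n, ∀ y, 0 < T.a (f i) y → ∃ j < n, y = f j ∧ (j + 1 = i ∨ j = i + 1))
    (hone : ∀ i, i + 2 < n → nProd T (f i) (f (i + 1)) = 1)
    (hlast : nProd T (f (n - 2)) (f (n - 1)) ≤ 2) : False := by
  have p : ∀ i, i + 2 < n → T.picMatrix (f i) (f (i + 1)) = 1 ∧ T.picMatrix (f (i + 1)) (f i) = 1 :=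
    fun i hi => simple_pic (h.ne (by omega) (by omega) (by omega)) (hone i hi)
  have hrow : ∀ i, i + 2 < n →
      T.picMatrix (f (i + 1)) (f i) * T.m (f i) + T.picMatrix (f (i + 1)) (f (i + 2)) * T.m (f (i + 2))
        = 2 * T.m (f (i + 1)) := fun i hi =>
    pic_row2 (h.two _ (by omega)) (h.ne (by omega) (by omega) (by omega))
      (h.ne (by omega) (by omega) (by omega)) (h.ne (by omega) (by omega) (by omega)) fun y hy => by
        obtain ⟨j, hj', rfl, e | e⟩ := hnb (i + 1) (by omega) y hy
        · left; rw [show j = i by omega]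
        · right; rw [show j = i + 2 by omega]
  have hlin : ∀ i, i + 1 < n → T.m (f i) = ((i : ℤ) + 1) * T.m (f 0) := by
    intro i
    induction i using Nat.strong_induction_on with
    | _ i ih =>
      intro hi
      match i, ih, hi with
      | 0, _, _ => simp
      | 1, _, hi =>
        have e := pic_row1 (h.two 0 (by omega)) (h.ne (i := 1) (by omega) (by omega) (by omega))
          fun y hy => by
            obtain ⟨j, hj', rfl, e | e⟩ := hnb 0 (by omega) y hy
            · omega
            · rw [show j = 1 by omega]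
        rw [(p 0 (by omega)).1] at e
        push_cast; linarith
      | i + 2, ih, hi =>
        have e := hrow i (by omega)
        rw [(p i (by omega)).2, show i + 2 = i + 1 + 1 from rfl, (p (i + 1) (by omega)).1] at e
        have e1 := ih i (by omega) (by omega)
        have e2 := ih (i + 1) (by omega) (by omega)
        push_cast at e2 ⊢
        linarith
  obtain ⟨k, rfl⟩ : ∃ k, n = k + 3 := ⟨n - 3, by omega⟩
  simp only [show k + 3 - 2 = k + 1 by omega, show k + 3 - 1 = k + 2 by omega] at hlast
  have eA := hrow k (by omega)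
  rw [(p k (by omega)).2, one_mul] at eA
  have eB := pic_row1 (h.two (k + 2) (by omega))
    (h.ne (i := k + 1) (by omega) (by omega) (by omega)) fun y hy => by
      obtain ⟨j, hj, rfl, e | e⟩ := hnb (k + 2) (by omega) y hy
      · rw [show j = k + 1 by omega]
      · omega
  have h1 := hlin (k + 1) (by omega)
  have h0 := hlin k (by omega)
  push_cast at h1
  have key : (4 - nProd T (f (k + 1)) (f (k + 2))) * T.m (f (k + 1)) = 2 * T.m (f k) := by
    simp only [nProd]
    linear_combination (-T.picMatrix (f (k + 1)) (f (k + 2))) * eB - 2 * eA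
  have hm0 := T.m_pos (f 0)
  have h4 := mul_le_mul_of_nonneg_right (show (2 : ℤ) ≤ 4 - nProd T (f (k + 1)) (f (k + 2)) by linarith)
    (T.m_pos (f (k + 1))).le
  rw [key, h1, h0] at h4
  linarith

/-- The chain `1 - 2 = 3 - 4` is of finite type. -/
theorem no_mid {f : ℕ → Fin n} (h : IsPath T f 4)
    (hnb : ∀ i < 4, ∀ y, 0 < T.a (f i) y → ∃ j < 4, y = f j ∧ (j + 1 = i ∨ j = i + 1))
    (h0 : nProd T (f 0) (f 1) = 1) (h1 : nProd T (f 1) (f 2) = 2) (h2 : nProd T (f 2) (f 3) = 1) :
    False := by
  obtain ⟨p01, p10⟩ := simple_pic (h.ne (i := 0) (j := 1) (by omega) (by omega) (by omega)) h0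
  obtain ⟨p23, p32⟩ := simple_pic (h.ne (i := 2) (j := 3) (by omega) (by omega) (by omega)) h2
  have r0 := pic_row1 (h.two 0 (by omega)) (h.ne (i := 1) (by omega) (by omega) (by omega))
    fun y hy => by
      obtain ⟨j, hj', rfl, e | e⟩ := hnb 0 (by omega) y hy
      · omega
      · rw [show j = 1 by omega]
  have r3 := pic_row1 (h.two 3 (by omega)) (h.ne (i := 2) (by omega) (by omega) (by omega))
    fun y hy => by
      obtain ⟨j, hj', rfl, e | e⟩ := hnb 3 (by omega) y hy
      · rw [show j = 2 by omega]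
      · omega
  have r1 := pic_row2 (h.two 1 (by omega)) (h.ne (i := 0) (by omega) (by omega) (by omega))
    (h.ne (i := 2) (by omega) (by omega) (by omega))
    (h.ne (i := 0) (j := 2) (by omega) (by omega) (by omega)) fun y hy => by
      obtain ⟨j, hj', rfl, e | e⟩ := hnb 1 (by omega) y hy
      · left; rw [show j = 0 by omega]
      · right; rw [show j = 2 by omega]
  have r2 := pic_row2 (h.two 2 (by omega)) (h.ne (i := 1) (by omega) (by omega) (by omega))
    (h.ne (i := 3) (by omega) (by omega) (by omega))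
    (h.ne (i := 1) (j := 3) (by omega) (by omega) (by omega)) fun y hy => by
      obtain ⟨j, hj', rfl, e | e⟩ := hnb 2 (by omega) y hy
      · left; rw [show j = 1 by omega]
      · right; rw [show j = 3 by omega]
  rw [p01, one_mul] at r0; rw [p32, one_mul] at r3
  rw [p10, one_mul] at r1; rw [p23, one_mul] at r2
  simp only [nProd] at h1
  have key : 9 * T.m (f 1) = 8 * T.m (f 1) := by
    linear_combination (-6 : ℤ) * r1 + (-3 : ℤ) * r0
      + (-4 * T.picMatrix (f 1) (f 2)) * r2 + (-2 * T.picMatrix (f 1) (f 2)) * r3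
      + (4 * T.m (f 1)) * h1
  have := T.m_pos (f 1)
  omega

end Groth.Agent.NumType
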