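import Groth.Agent.NumType.ClassSmall
import Mathlib.Data.Nat.Find

/-! # Minimal numerical types of genus one -/

namespace Groth.Agent.NumType

open Finset

variable {n : ℕ} {T : Models.NumericalType n}

/-- The affine diagrams on at least three vertices. -/
inductive Affine (T : Models.NumericalType n) : Prop
  | cyc (h : Fits T MA MA (AA n))
  | c1 (h : Fits T (MC1 n) (WC1 n) (AC1 n))
  | c2 (h : Fits T MA (WC2 n) AC2)
  | c3 (h : Fits T (MC3 n) (WC3 n) (AC3 n))
  | b1 (hn : 4 ≤ n) (h : Fits T (MB1 n) WB1 (AB1 n))
  | b2 (hn : 4 ≤ n) (h : Fits T (MB2 n) WB2 (AB2 n))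
  | d (hn : 6 ≤ n) (h : Fits T (MD n) MA (AD n))
  | d4 (hn : n = 5) (h : Fits T (vec [2, 1, 1, 1, 1]) MA
      (edges [(0, 1, 1), (0, 2, 1), (0, 3, 1), (0, 4, 1)]))
  | g2a (hn : n = 3) (h : Fits T (vec [1, 2, 1]) (vec [3, 1, 1]) (edges [(0, 1, 3), (1, 2, 1)]))
  | g2b (hn : n = 3) (h : Fits T (vec [3, 2, 1]) (vec [1, 3, 3]) (edges [(0, 1, 3), (1, 2, 3)]))
  | f4a (hn : n = 5) (h : Fits T (vec [1, 2, 3, 4, 2]) (vec [2, 2, 2, 1, 1])
      (edges [(0, 1, 2), (1, 2, 2), (2, 3, 2), (3, 4, 1)]))
  | f4b (hn : n = 5) (h : Fits T (vec [1, 2, 3, 2, 1]) (vec [1, 1, 1, 2, 2])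
      (edges [(0, 1, 1), (1, 2, 1), (2, 3, 2), (3, 4, 2)]))
  | e6 (hn : n = 7) (h : Fits T (vec [1, 2, 3, 2, 1, 2, 1]) MA
      (edges [(0, 1, 1), (1, 2, 1), (2, 3, 1), (3, 4, 1), (2, 5, 1), (5, 6, 1)]))
  | e7 (hn : n = 8) (h : Fits T (vec [1, 2, 3, 4, 3, 2, 1, 2]) MA
      (edges [(0, 1, 1), (1, 2, 1), (2, 3, 1), (3, 4, 1), (4, 5, 1), (5, 6, 1), (3, 7, 1)]))
  | e8 (hn : n = 9) (h : Fits T (vec [2, 4, 6, 5, 4, 3, 2, 1, 3]) MA
      (edges [(0, 1, 1), (1, 2, 1), (2, 3, 1), (3, 4, 1), (4, 5, 1), (5, 6, 1), (6, 7, 1), (2, 8, 1)]))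

/-- Minimal of genus one on several indices: all indices are `(-2)`-indices. -/
theorem all_minusTwo (hn : 1 < n) (hmin : T.IsMinimal) (hg : T.genus = 1) (i : Fin n) :
    T.IsMinusTwo i := by
  refine isMinusTwo_of_contrib_zero T hn i ?_
  have h := two_mul_genus T
  rw [hg] at h
  exact (Finset.sum_eq_zero_iff_of_nonneg fun j _ => contrib_nonneg T hn hmin j).1
    (by omega : ∑ j, contrib T j = 0) i (mem_univ i)

theorem affine_of_path {t : ℕ} (T : Models.NumericalType t) {f : ℕ → Fin t} (hn : 3 ≤ t)
    (hf : IsPath T f t)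
    (hpath : ∀ i < t, ∀ j < t, 0 < T.a (f i) (f j) → j + 1 = i ∨ j = i + 1) : Affine T := by
  have hnb : ∀ i < t, ∀ y, 0 < T.a (f i) y → ∃ j < t, y = f j ∧ (j + 1 = i ∨ j = i + 1) := by
    intro i hi y hy
    obtain ⟨⟨j, hj⟩, rfl⟩ := Finite.surjective_of_injective hf.injective y
    exact ⟨j, hj, rfl, hpath i hi j hj hy⟩
  by_cases htwo : ∃ i j, i < j ∧ j + 1 < t ∧ 2 ≤ nProd T (f i) (f (i + 1)) ∧
      2 ≤ nProd T (f j) (f (j + 1))
  · obtain ⟨i, j, hij, hj, hi2, hj2⟩ := htwo
    rcases (fits_C (hf.segment (i := i) (L := j + 2 - i) (by omega)) (by omega) (by simpa using hi2) (by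
      simp only [show i + (j + 2 - i - 2) = j by omega, show i + (j + 2 - i - 1) = j + 1 by omega]
      exact hj2)).2 with h | h | h
    · exact .c1 h
    · exact .c2 h
    · exact .c3 h
  push Not at htwo
  by_cases hnone : ∀ i, i + 1 < t → nProd T (f i) (f (i + 1)) = 1
  · refine (no_line hf hn hnb (fun i hi => hnone i (by omega)) ?_).elim
    have := hnone (t - 2) (by omega)
    rw [show t - 2 + 1 = t - 1 by omega] at this
    omega
  push Not at hnone
  obtain ⟨i, hi, hne⟩ := hnone
  have hd := two_le_of_one_lt (hf.edge i hi) hne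
  have hother : ∀ j, j + 1 < t → j ≠ i → nProd T (f j) (f (j + 1)) = 1 := by
    intro j hj hji
    by_contra h1
    have h2 := two_le_of_one_lt (hf.edge j hj) h1
    rcases Nat.lt_or_ge i j with h | h
    · have := htwo i j h hj hd; omega
    · have := htwo j i (by omega) hi h2; omega
  by_cases hG : 3 ≤ nProd T (f i) (f (i + 1))
  · obtain ⟨h3n, hfit⟩ : 3 = t ∧ (Fits T (vec [1, 2, 1]) (vec [3, 1, 1]) (edges [(0, 1, 3), (1, 2, 1)]) ∨
        Fits T (vec [3, 2, 1]) (vec [1, 3, 3]) (edges [(0, 1, 3), (1, 2, 3)])) := by
      by_cases hl : i + 2 < t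
      · exact fits_G2 (hf.segment (i := i) (L := 3) (by omega)) (by simpa using hG)
      · refine fits_G2 ((hf.segment (i := i - 1) (L := 3) (by omega)).rev) ?_
        simp only [show i - 1 + (3 - 1 - 0) = i + 1 by omega, show i - 1 + (3 - 1 - 1) = i by omega]
        rwa [nProd_symm]
    rcases hfit with h | h
    · exact .g2a h3n.symm h
    · exact .g2b h3n.symm h
  have hN : nProd T (f i) (f (i + 1)) = 2 := by omega
  by_cases hlast : i + 2 = t
  · refine (no_line hf hn hnb (fun j hj => hother j (by omega) (by omega)) ?_).elim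
    rw [show t - 2 = i by omega, show t - 1 = i + 1 by omega]; omega
  by_cases hfirst : i = 0
  · subst hfirst
    refine (no_line hf.rev hn (fun j hj y hy => ?_) (fun j hj => ?_) ?_).elim
    · obtain ⟨q, hq, rfl, e⟩ := hnb _ (show t - 1 - j < t by omega) y hy
      exact ⟨t - 1 - q, by omega, by simp only [show t - 1 - (t - 1 - q) = q by omega], by omega⟩
    · rw [nProd_symm]
      have := hother (t - 1 - (j + 1)) (by omega) (by omega)
      rwa [show t - 1 - (j + 1) + 1 = t - 1 - j by omega] at this
    · simp only [show t - 1 - (t - 2) = 1 by omega, Nat.sub_self, nProd_symm T (f 1)]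
      simpa using hN.le
  by_cases h4 : t = 4
  · subst h4
    obtain rfl : i = 1 := by omega
    exact (no_mid hf hnb (hother 0 (by omega) (by omega)) hN (hother 2 (by omega) (by omega))).elim
  have h5 : 5 = t ∧ (Fits T (vec [1, 2, 3, 4, 2]) (vec [2, 2, 2, 1, 1])
        (edges [(0, 1, 2), (1, 2, 2), (2, 3, 2), (3, 4, 1)]) ∨
      Fits T (vec [1, 2, 3, 2, 1]) (vec [1, 1, 1, 2, 2])
        (edges [(0, 1, 1), (1, 2, 1), (2, 3, 2), (3, 4, 2)])) := by
    rcases Nat.lt_or_ge i 2 with hi2 | hi2
    · obtain rfl : i = 1 := by omega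
      refine fits_F4 ((hf.segment (i := 0) (L := 5) (by omega)).rev) ?_
      simp only [zero_add, Nat.reduceSub]
      rw [nProd_symm]; exact hd
    · refine fits_F4 (hf.segment (i := i - 2) (L := 5) (by omega)) ?_
      simp only [show i - 2 + 2 = i by omega, show i - 2 + 3 = i + 1 by omega]
      exact hd
  rcases h5 with ⟨h, hfit | hfit⟩
  · exact .f4a h.symm hfit
  · exact .f4b h.symm hfit

theorem affine_of_two_off {f : ℕ → Fin n} {t : ℕ} (hall : ∀ i, T.IsMinusTwo i) (hf : IsPath T f t)
    {u x : Fin n} {s r : ℕ} (hst : s < t) (hr : r < t) (huf : ∀ i < t, u ≠ f i)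
    (hxf : ∀ i < t, x ≠ f i) (hxu : x ≠ u) (hs1 : 1 ≤ s) (hs2 : s + 1 < t) (hr1 : 1 ≤ r)
    (hr2 : r + 1 < t) (hsu : 0 < T.a (f s) u) (hrx : 0 < T.a (f r) x) : Affine T := by
  by_cases hrs : r = s
  · subst hrs
    let v : Fin 5 → Fin n := ![f r, f (r - 1), f (r + 1), u, x]
    have hv : Function.Injective v := by
      have n01 := hf.ne (i := r) (j := r - 1) hr (by omega) (by omega)
      have n02 := hf.ne (i := r) (j := r + 1) hr hr2 (by omega)
      have n12 := hf.ne (i := r - 1) (j := r + 1) (by omega) hr2 (by omega)
      have n30 := huf r hr; have n31 := huf (r - 1) (by omega); have n32 := huf (r + 1) hr2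
      have n40 := hxf r hr; have n41 := hxf (r - 1) (by omega); have n42 := hxf (r + 1) hr2
      intro a b e
      fin_cases a <;> fin_cases b <;>
        first
        | rfl
        | exact absurd e n01 | exact absurd e.symm n01
        | exact absurd e n02 | exact absurd e.symm n02
        | exact absurd e n12 | exact absurd e.symm n12
        | exact absurd e n30 | exact absurd e.symm n30
        | exact absurd e n31 | exact absurd e.symm n31
        | exact absurd e n32 | exact absurd e.symm n32
        | exact absurd e n40 | exact absurd e.symm n40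
        | exact absurd e n41 | exact absurd e.symm n41
        | exact absurd e n42 | exact absurd e.symm n42
        | exact absurd e hxu | exact absurd e.symm hxu
    have e1 := hf.edge (r - 1) (by omega)
    rw [show r - 1 + 1 = r by omega, a_symm] at e1
    obtain ⟨h5, hfit⟩ := exact_tree v hv (fun p => hall _) [(0, 1), (0, 2), (0, 3), (0, 4)]
      (by simp [v, e1, hf.edge r hr2, hsu, hrx]) ![2, 1, 1, 1, 1] (by decide) (by decide) (by decide) 1 rfl
      (fun W hW p => by
        simp only [List.forall_mem_cons, List.not_mem_nil, false_imp_iff, implies_true, and_true] at hW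
        obtain ⟨q1, q2, q3, q4⟩ := hW
        fin_cases p <;> simp_all)
    subst h5
    exact .d4 rfl (hfit.relabel _ _ _ id (by decide))
  · have key : ∀ a b (za zb : Fin n), a < b → 1 ≤ a → b + 1 < t → za ≠ zb →
        (∀ i < t, za ≠ f i) → (∀ i < t, zb ≠ f i) → 0 < T.a (f a) za → 0 < T.a (f b) zb →
        Affine T := by
      intro a b za zb hab ha hb hzz hza hzb hpa hpb
      let x : Fin 2 ⊕ Fin 2 → Fin n := Sum.elim ![f (a - 1), za] ![f (b + 1), zb]
      obtain ⟨hL, hfit⟩ := fits_D (L := b - a) (hf.segment (i := a) (L := b - a + 1) (by omega))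
        (by omega) x (by
          have n1 := hza (a - 1) (by omega); have n2 := hza (b + 1) hb
          have n3 := hzb (a - 1) (by omega); have n4 := hzb (b + 1) hb
          have n5 := hf.ne (i := a - 1) (j := b + 1) (by omega) hb (by omega)
          rintro (p | p) (q | q) e <;> fin_cases p <;> fin_cases q <;>
            first
            | rfl
            | exact absurd e n1 | exact absurd e.symm n1
            | exact absurd e n2 | exact absurd e.symm n2
            | exact absurd e n3 | exact absurd e.symm n3
            | exact absurd e n4 | exact absurd e.symm n4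
            | exact absurd e n5 | exact absurd e.symm n5
            | exact absurd e hzz | exact absurd e.symm hzz)
        (fun p => hall _) (by
          rintro (p | p) q hq <;> fin_cases p <;>
            first
            | exact hf.ne (by omega) (by omega) (by omega)
            | exact hza _ (by omega)
            | exact hzb _ (by omega))
        (by
          intro p; fin_cases p
          · simpa [x, show a - 1 + 1 = a by omega] using hf.edge (a - 1) (by omega)
          · simpa [x, a_symm T za] using hpa)
        (by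
          intro p
          fin_cases p <;> simp only [show a + (b - a) = b by omega]
          · simpa [x, a_symm T (f (b + 1))] using hf.edge b hb
          · simpa [x, a_symm T zb] using hpb)
      exact .d (by omega) hfit
    rcases Nat.lt_or_gt_of_ne hrs with h | h
    · exact key r s x u h hr1 hs2 hxu hxf huf hrx hsu
    · exact key s r u x h hs1 hr2 (Ne.symm hxu) huf hxf hsu hrx

theorem affine_of_hanging {f : ℕ → Fin n} {t : ℕ} (hall : ∀ i, T.IsMinusTwo i) (hf : IsPath T f t)
    {u y : Fin n} {s : ℕ} (s2 : 2 ≤ s) (s2' : 2 ≤ t - 1 - s) (huf : ∀ i < t, u ≠ f i)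
    (hyf : ∀ i < t, y ≠ f i) (hyu : y ≠ u) (hsu : 0 < T.a (f s) u) (huy : 0 < T.a u y) : Affine T := by
  let v : Fin 7 → Fin n := fun p => if p.val < 5 then f (s - 2 + p.val) else if p.val = 5 then u else y
  have hv : Function.Injective v := by
    intro a b e
    simp only [v] at e
    split_ifs at e <;> first
      | (have := hf.inj _ (by omega) _ (by omega) e; exact Fin.ext (by omega))
      | exact Fin.ext (by omega)
      | exact absurd e hyu
      | exact absurd e.symm hyu
      | exact absurd e (hyf _ (by omega))
      | exact absurd e.symm (hyf _ (by omega))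
      | exact absurd e (huf _ (by omega))
      | exact absurd e.symm (huf _ (by omega))
  have key : ∀ p : ℕ, p < 4 → 0 < T.a (f (s - 2 + p)) (f (s - 2 + (p + 1))) :=
    fun p hp => hf.edge (s - 2 + p) (by omega)
  obtain ⟨h7, hfit⟩ := exact_tree v hv (fun p => hall _)
    [(0, 1), (1, 2), (2, 3), (3, 4), (2, 5), (5, 6)] (by
      simp only [List.forall_mem_cons, List.not_mem_nil, false_imp_iff, implies_true, and_true]
      exact ⟨key 0 (by omega), key 1 (by omega), key 2 (by omega), key 3 (by omega),
        by simpa [v, show s - 2 + 2 = s by omega] using hsu, huy⟩)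
    ![1, 2, 3, 2, 1, 2, 1] (by decide) (by decide) (by decide) 0 rfl
    (fun W hW p => by
      simp only [List.forall_mem_cons, List.not_mem_nil, false_imp_iff, implies_true, and_true] at hW
      obtain ⟨q1, q2, q3, q4, q5, q6⟩ := hW
      fin_cases p <;> simp_all)
  subst h7
  exact .e6 rfl (hfit.relabel _ _ _ id (by decide))

theorem finite_branch {g : ℕ → Fin n} {t r : ℕ} (hall : ∀ i, T.IsMinusTwo i)
    (hg : IsPath T g t) {u : Fin n} (hug : ∀ j < t, u ≠ g j) (hr1 : 1 ≤ r) (hr2 : r + 1 < t)
    (hsmall : r = 1 ∨ r = 2 ∧ 5 ≤ t ∧ t ≤ 7)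
    (hgp : ∀ i < t, ∀ j < t, 0 < T.a (g i) (g j) → j + 1 = i ∨ j = i + 1)
    (hgc : ∀ z, z = u ∨ ∃ i < t, z = g i) (hnbu : ∀ y, 0 < T.a u y → y = g r)
    (hone : ∀ i, i + 1 < t → nProd T (g i) (g (i + 1)) = 1) (hur : nProd T (g r) u = 1) :
    False := by
  -- finite type: linear equations without positive solutions
  have pu := simple_pic (hug r (by omega)).symm hur
  have p : ∀ i, i + 1 < t → T.picMatrix (g i) (g (i + 1)) = 1 ∧ T.picMatrix (g (i + 1)) (g i) = 1 :=
    fun i hi => simple_pic (hg.ne (by omega) hi (by omega)) (hone i hi)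
  have eu : T.m (g r) = 2 * T.m u := by
    have := pic_row1 (hall u) (hug r (by omega)).symm hnbu
    rw [pu.2, one_mul] at this; exact this
  have hnb : ∀ i < t, ∀ y, 0 < T.a (g i) y →
      (∃ j < t, y = g j ∧ (j + 1 = i ∨ j = i + 1)) ∨ (y = u ∧ i = r) := by
    intro i hi y hy
    rcases hgc y with rfl | ⟨j, hj, rfl⟩
    · refine Or.inr ⟨rfl, ?_⟩
      have := hnbu (g i) (by rwa [a_symm])
      exact hg.inj i hi r (by omega) this
    · exact Or.inl ⟨j, hj, rfl, hgp i hi j hj hy⟩
  have e0 : T.m (g 1) = 2 * T.m (g 0) := by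
    have := pic_row1 (hall (g 0)) (hg.ne (i := 1) (by omega) (by omega) (by omega)) fun y hy => by
      rcases hnb 0 (by omega) y hy with ⟨j, -, rfl, e | e⟩ | ⟨-, e⟩
      · omega
      · rw [show j = 1 by omega]
      · omega
    rw [(p 0 (by omega)).1, one_mul] at this; exact this
  have elast : T.m (g (t - 2)) = 2 * T.m (g (t - 1)) := by
    have := pic_row1 (hall (g (t - 1))) (hg.ne (i := t - 2) (by omega) (by omega) (by omega))
      fun y hy => by
        rcases hnb (t - 1) (by omega) y hy with ⟨j, hj, rfl, e | e⟩ | ⟨-, e⟩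
        · rw [show j = t - 2 by omega]
        · omega
        · omega
    have hp := (p (t - 2) (by omega)).2
    rw [show t - 2 + 1 = t - 1 by omega] at hp
    rw [hp, one_mul] at this; exact this
  have er : T.m (g (r - 1)) + T.m (g (r + 1)) + T.m u = 2 * T.m (g r) := by
    have := pic_row3 (hall (g r)) (hg.ne (i := r - 1) (by omega) (by omega) (by omega))
      (hg.ne (i := r + 1) hr2 (by omega) (by omega)) (hug r (by omega))
      (hg.ne (i := r - 1) (j := r + 1) (by omega) hr2 (by omega)) (hug _ (by omega)).symm
      (hug _ hr2).symm fun y hy => by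
        rcases hnb r (by omega) y hy with ⟨j, hj, rfl, e | e⟩ | ⟨e, -⟩
        · left; rw [show j = r - 1 by omega]
        · right; left; rw [show j = r + 1 by omega]
        · exact Or.inr (Or.inr e)
    have hp := (p (r - 1) (by omega)).2
    rw [show r - 1 + 1 = r by omega] at hp
    rw [hp, (p r hr2).1, pu.1] at this
    simpa using this
  have emid : ∀ i, i + 2 < t → i + 1 ≠ r → T.m (g i) + T.m (g (i + 2)) = 2 * T.m (g (i + 1)) := by
    intro i hi hir
    have := pic_row2 (hall (g (i + 1))) (hg.ne (i := i) (by omega) (by omega) (by omega))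
      (hg.ne (i := i + 2) hi (by omega) (by omega)) (hg.ne (i := i) (j := i + 2) (by omega) hi (by omega))
      fun y hy => by
        rcases hnb (i + 1) (by omega) y hy with ⟨j, hj, rfl, e | e⟩ | ⟨-, e⟩
        · left; rw [show j = i by omega]
        · right; rw [show j = i + 2 by omega]
        · omega
    rw [(p i (by omega)).2, show i + 2 = i + 1 + 1 from rfl, (p (i + 1) (by omega)).1] at this
    simpa using this
  have hpos := fun q => T.m_pos (g q)
  rcases (show r = 1 ∨ r = 2 by omega) with rfl | rfl
  · simp only [Nat.sub_self, Nat.reduceAdd] at er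
    have hflat : ∀ q, q + 2 < t + 1 → T.m (g (q + 1)) = T.m (g 1) := by
      intro q
      induction q using Nat.strong_induction_on with
      | _ q ih =>
        intro hq
        match q, ih, hq with
        | 0, _, _ => rfl
        | 1, _, _ => simp only [Nat.reduceAdd]; linarith
        | q + 2, ih, hq =>
          have a1 := ih q (by omega) (by omega)
          have a2 := ih (q + 1) (by omega) (by omega)
          have a3 := emid (q + 1) (by omega) (by omega)
          simp only [Nat.add_assoc, Nat.reduceAdd] at a1 a2 a3 ⊢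
          linarith
    have b1 := hflat (t - 2) (by omega)
    rw [show t - 2 + 1 = t - 1 by omega] at b1
    have b2 := hflat (t - 3) (by omega)
    rw [show t - 3 + 1 = t - 2 by omega] at b2
    have := hpos 1
    omega
  · simp only [Nat.reduceSub, Nat.reduceAdd] at er
    have c1 := emid 0 (by omega) (by omega)
    simp only [Nat.reduceAdd] at c1
    have := hpos 0
    rcases (show t = 5 ∨ t = 6 ∨ t = 7 by omega) with rfl | rfl | rfl
    · have c3 := emid 2 (by omega) (by omega)
      simp only [Nat.reduceSub, Nat.reduceAdd] at c3 elast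
      omega
    · have c3 := emid 2 (by omega) (by omega); have c4 := emid 3 (by omega) (by omega)
      simp only [Nat.reduceSub, Nat.reduceAdd] at c3 c4 elast
      omega
    · have c3 := emid 2 (by omega) (by omega); have c4 := emid 3 (by omega) (by omega)
      have c5 := emid 4 (by omega) (by omega)
      simp only [Nat.reduceSub, Nat.reduceAdd] at c3 c4 c5 elast
      omega

theorem affine_of_simple_branch {g : ℕ → Fin n} {t r : ℕ} (hall : ∀ i, T.IsMinusTwo i)
    (hg : IsPath T g t) {u : Fin n} (hug : ∀ j < t, u ≠ g j) (hr1 : 1 ≤ r) (hrr : r + r + 1 ≤ t)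
    (hr2 : r + 1 < t) (hgu : 0 < T.a (g r) u)
    (hgp : ∀ i < t, ∀ j < t, 0 < T.a (g i) (g j) → j + 1 = i ∨ j = i + 1)
    (hgc : ∀ z, z = u ∨ ∃ i < t, z = g i) (hnbu : ∀ y, 0 < T.a u y → y = g r)
    (hone : ∀ i, i + 1 < t → nProd T (g i) (g (i + 1)) = 1) (hur : nProd T (g r) u = 1) :
    Affine T := by
  by_cases hr3 : 3 ≤ r
  · let v : Fin 8 → Fin n := fun p => if p.val < 7 then g (r - 3 + p.val) else u
    have hv : Function.Injective v := by
      intro a b e
      simp only [v] at e
      split_ifs at e
      · have := hg.inj _ (by omega) _ (by omega) e; exact Fin.ext (by omega)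
      · exact absurd e.symm (hug _ (by omega))
      · exact absurd e (hug _ (by omega))
      · exact Fin.ext (by omega)
    have key : ∀ p : ℕ, p < 6 → 0 < T.a (g (r - 3 + p)) (g (r - 3 + (p + 1))) :=
      fun p hp => hg.edge (r - 3 + p) (by omega)
    obtain ⟨h8, hfit⟩ := exact_tree v hv (fun p => hall _)
      [(0, 1), (1, 2), (2, 3), (3, 4), (4, 5), (5, 6), (3, 7)] (by
        simp only [List.forall_mem_cons, List.not_mem_nil, false_imp_iff, implies_true, and_true]
        exact ⟨key 0 (by omega), key 1 (by omega), key 2 (by omega), key 3 (by omega), key 4 (by omega),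
          key 5 (by omega), by simpa [v, show r - 3 + 3 = r by omega] using hgu⟩)
      ![1, 2, 3, 4, 3, 2, 1, 2] (by decide) (by decide) (by decide) 0 rfl
      (fun W hW p => by
        simp only [List.forall_mem_cons, List.not_mem_nil, false_imp_iff, implies_true, and_true] at hW
        obtain ⟨q1, q2, q3, q4, q5, q6, q7⟩ := hW
        fin_cases p <;> simp_all)
    subst h8
    exact .e7 rfl (hfit.relabel _ _ _ id (by decide))
  by_cases h8 : r = 2 ∧ 8 ≤ t
  · obtain ⟨rfl, h8⟩ := h8
    let v : Fin 9 → Fin n := fun p => if p.val < 8 then g p.val else u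
    have hv : Function.Injective v := by
      intro a b e
      simp only [v] at e
      split_ifs at e
      · exact Fin.ext (hg.inj _ (by omega) _ (by omega) e)
      · exact absurd e.symm (hug _ (by omega))
      · exact absurd e (hug _ (by omega))
      · exact Fin.ext (by omega)
    obtain ⟨h9, hfit⟩ := exact_tree v hv (fun p => hall _)
      [(0, 1), (1, 2), (2, 3), (3, 4), (4, 5), (5, 6), (6, 7), (2, 8)] (by
        simp only [List.forall_mem_cons, List.not_mem_nil, false_imp_iff, implies_true, and_true]
        exact ⟨hg.edge 0 (by omega), hg.edge 1 (by omega), hg.edge 2 (by omega), hg.edge 3 (by omega),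
          hg.edge 4 (by omega), hg.edge 5 (by omega), hg.edge 6 (by omega), hgu⟩)
      ![2, 4, 6, 5, 4, 3, 2, 1, 3] (by decide) (by decide) (by decide) 7 rfl
      (fun W hW p => by
        simp only [List.forall_mem_cons, List.not_mem_nil, false_imp_iff, implies_true, and_true] at hW
        obtain ⟨q1, q2, q3, q4, q5, q6, q7, q8⟩ := hW
        fin_cases p <;> simp_all)
    subst h9
    exact .e8 rfl (hfit.relabel _ _ _ id (by decide))
  exact (finite_branch hall hg hug hr1 hr2 (by omega) hgp hgc hnbu hone hur).elim

theorem affine_classification (hn : 3 ≤ n) (hall : ∀ i, T.IsMinusTwo i) : Affine T := by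
  classical
  -- a longest path
  let P : ℕ → Prop := fun t => ∃ f, IsPath T f t
  have hle : ∀ t, P t → t ≤ n := by
    rintro t ⟨f, hf⟩
    simpa using Fintype.card_le_of_injective _ hf.injective
  have h3 : P 3 := by
    let o : Fin n := ⟨0, by omega⟩
    obtain ⟨p, hp, hop⟩ := exists_ne_a_ne_zero T (by omega) o
    have hS : ({o, p} : Finset (Fin n)) ≠ univ := fun e => by
      have := congrArg Finset.card e
      simp [Finset.card_pair (Ne.symm hp)] at this; omega
    obtain ⟨a, ha, b, hb, hab⟩ := T.connected {o, p} ⟨o, by simp⟩ hS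
    simp only [mem_insert, mem_singleton, not_or] at ha hb
    have mk : ∀ x y z : Fin n, x ≠ z → 0 < T.a x y → 0 < T.a y z → P 3 := by
      intro x y z hxz hxy hyz
      have h1 := ne_of_pos T hxy
      have h2 := ne_of_pos T hyz
      refine ⟨fun q => if q = 0 then x else if q = 1 then y else z, ?_, fun i _ => hall _, ?_⟩
      · intro i hi j hj e
        interval_cases i <;> interval_cases j <;> simp_all [eq_comm]
      · intro i hi
        rcases (show i = 0 ∨ i = 1 by omega) with rfl | rfl
        · simpa using hxy
        · simpa using hyz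
    rcases ha with rfl | rfl
    · exact mk p o b (Ne.symm hb.2) (by rwa [a_symm]) (pos_of_ne (Ne.symm hb.1) hab)
    · exact mk o a b (Ne.symm hb.1) hop (pos_of_ne (Ne.symm hb.2) hab)
  let t := Nat.findGreatest P n
  have ht : 3 ≤ t := Nat.le_findGreatest hn h3
  obtain ⟨f, hf⟩ : P t := Nat.findGreatest_spec hn h3
  have htn : t ≤ n := hle t ⟨f, hf⟩
  have hmax : ¬ P (t + 1) := fun h => by
    have := Nat.le_findGreatest (hle _ h) h
    simp only [t] at this ⊢; omega
  clear_value t
  clear h3
  -- a chord closes a cycle
  by_cases hcyc : ∃ i j, i + 1 < j ∧ j < t ∧ 0 < T.a (f i) (f j)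
  · obtain ⟨i, j, hij, hj, hp⟩ := hcyc
    exact .cyc (fits_cycle (hf.segment (i := i) (L := j - i + 1) (by omega)) (by omega) (by
      simp only [add_zero, show i + (j - i + 1 - 1) = j by omega]
      rwa [a_symm])).2
  push Not at hcyc
  have hpath : ∀ i < t, ∀ j < t, 0 < T.a (f i) (f j) → j + 1 = i ∨ j = i + 1 := by
    intro i hi j hj hp
    rcases Nat.lt_trichotomy i j with h | h | h
    · by_contra hne
      have := hcyc i j (by omega) hj; omega
    · subst h; exact absurd rfl (ne_of_pos T hp)
    · by_contra hne
      have := hcyc j i (by omega) hi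
      rw [a_symm] at hp; omega
  by_cases htn' : t = n
  · -- the whole type is a path
    subst htn'
    exact affine_of_path T ht hf hpath
  -- there is a vertex `u` off the path
  let I : Finset (Fin n) := (Finset.range t).image f
  obtain ⟨a, ha, u, hu, hau⟩ := T.connected I ⟨f 0, mem_image_of_mem f (mem_range.2 (by omega))⟩
    (fun e => by
      have := congrArg Finset.card e
      have := (Finset.card_image_le (s := Finset.range t) (f := f))
      simp [I] at *; omega)
  obtain ⟨s, hst, rfl⟩ := mem_image.1 ha
  rw [mem_range] at hst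
  have huf : ∀ i < t, u ≠ f i := fun i hi e => hu (mem_image.2 ⟨i, mem_range.2 hi, e.symm⟩)
  have hsu : 0 < T.a (f s) u := pos_of_ne (huf s hst).symm hau
  clear ha hau hu
  -- extending a path by one vertex at either end
  have hend : ∀ (g : ℕ → Fin n), IsPath T g t → ∀ z, (∀ i < t, z ≠ g i) →
      ¬ 0 < T.a (g (t - 1)) z := by
    intro g hg z hz hp
    refine hmax ⟨fun q => if q < t then g q else z, ?_, fun q _ => hall _, fun q hq => ?_⟩
    · intro a ha b hb e
      split_ifs at e
      · exact hg.inj _ (by omega) _ (by omega) e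
      · exact absurd e.symm (hz _ (by omega))
      · exact absurd e (hz _ (by omega))
      · omega
    · simp only [show q < t by omega, if_true]
      split_ifs with h
      · exact hg.edge q h
      · rw [show q = t - 1 by omega]; exact hp
  have hinner : ∀ z, (∀ i < t, z ≠ f i) → ∀ r < t, 0 < T.a (f r) z → 1 ≤ r ∧ r + 1 < t := by
    intro z hz r hr hp
    refine ⟨?_, ?_⟩
    · by_contra h
      exact hend _ hf.rev z (fun i hi => hz _ (by omega))
        (by simpa [show r = 0 by omega] using hp)
    · by_contra h
      exact hend f hf z hz (by rwa [show t - 1 = r by omega])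
  have honly : ∀ z, (∀ i < t, z ≠ f i) → ∀ a < t, ∀ b < t, 0 < T.a (f a) z → 0 < T.a (f b) z →
      a = b := by
    intro z hz a ha b hb hpa hpb
    by_contra hne
    wlog hab : a < b generalizing a b
    · exact this b hb a ha hpb hpa (Ne.symm hne) (by omega)
    have := hinner z hz a ha hpa
    have := hinner z hz b hb hpb
    let g : ℕ → Fin n := fun q => if q ≤ b - a then f (a + q) else z
    have hg : IsPath T g (b - a + 2) :=
      { inj := fun p hp q hq e => by
          simp only [g] at e
          split_ifs at e
          · have := hf.inj _ (by omega) _ (by omega) e; omega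
          · exact absurd e.symm (hz _ (by omega))
          · exact absurd e (hz _ (by omega))
          · omega
        two := fun p _ => hall _
        edge := fun p hp => by
          simp only [g]
          rcases Nat.lt_or_ge p (b - a) with hpl | hpl
          · rw [if_pos (by omega), if_pos (by omega)]
            simpa [add_assoc] using hf.edge (a + p) (by omega)
          · rw [if_pos (by omega), if_neg (by omega), show a + p = b by omega]
            exact hpb }
    have := (fits_cycle hg (by omega) (by
      simp only [g, Nat.zero_le, if_true, add_zero]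
      rw [if_neg (by omega), a_symm]
      exact hpa)).1
    omega
  obtain ⟨hs1, hs2⟩ := hinner u huf s hst hsu
  -- a second vertex next to the path
  by_cases hx : ∃ x r, r < t ∧ x ≠ u ∧ (∀ i < t, x ≠ f i) ∧ 0 < T.a (f r) x
  · obtain ⟨x, r, hr, hxu, hxf, hrx⟩ := hx
    obtain ⟨hr1, hr2⟩ := hinner x hxf r hr hrx
    exact affine_of_two_off hall hf hst hr huf hxf hxu hs1 hs2 hr1 hr2 hsu hrx
  push Not at hx
  -- a vertex hanging from `u`
  by_cases hy : ∃ y, y ≠ f s ∧ 0 < T.a u y
  · obtain ⟨y, hys, huy⟩ := hy
    have hyu : y ≠ u := (ne_of_pos T huy).symm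
    have hyf : ∀ i < t, y ≠ f i := by
      rintro i hi rfl
      exact hys (by rw [honly u huf s hst i hi hsu (by rwa [a_symm])])
    have hlong : ∀ g, IsPath T g t → ∀ r < t, g r = f s → (∀ i < t, u ≠ g i) → (∀ i < t, y ≠ g i) →
        2 ≤ r := by
      intro g hg r hr hgr hug hyg
      by_contra h
      refine hmax ⟨fun q => if q = 0 then y else if q = 1 then u else g (q - 1), ?_, fun q _ => hall _,
        fun q hq => ?_⟩
      · intro a ha b hb e
        split_ifs at e <;> first
          | omega
          | exact absurd e hyu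
          | exact absurd e.symm hyu
          | exact absurd e (hyg _ (by omega))
          | exact absurd e.symm (hyg _ (by omega))
          | exact absurd e (hug _ (by omega))
          | exact absurd e.symm (hug _ (by omega))
          | (have := hg.inj _ (by omega) _ (by omega) e; omega)
      · rcases Nat.lt_or_ge q 2 with hq2 | hq2
        · interval_cases q
          · simpa [a_symm T y] using huy
          · have hr1 : r = 1 := by
              by_contra hne
              exact hend _ hg.rev u (fun i hi => hug _ (by omega))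
                (by rw [show t - 1 - (t - 1) = r by omega, hgr]; exact hsu)
            show 0 < T.a u (g 1)
            rw [← hr1, hgr, a_symm]
            exact hsu
        · simp only [show q ≠ 0 by omega, show q ≠ 1 by omega, show q + 1 ≠ 0 by omega,
            show q + 1 ≠ 1 by omega, if_false, show q + 1 - 1 = q - 1 + 1 by omega]
          exact hg.edge (q - 1) (by omega)
    have s2 := hlong f hf s hst rfl huf hyf
    have s2' := hlong _ hf.rev (t - 1 - s) (by omega)
      (by simp only [show t - 1 - (t - 1 - s) = s by omega]) (fun i hi => huf _ (by omega))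
      (fun i hi => hyf _ (by omega))
    exact affine_of_hanging hall hf s2 s2' huf hyf hyu hsu huy
  push Not at hy
  -- now `n = t + 1`
  have hunb : ∀ y, 0 < T.a u y → y = f s := fun y h => by
    by_contra hne; have := hy y hne; omega
  have hcover : ∀ z, z = u ∨ ∃ i < t, z = f i := by
    intro z
    by_contra hz
    obtain ⟨a, ha, b, hb, hab⟩ := T.connected (insert u I) (insert_nonempty u I)
      (fun e => hz (by
        rcases mem_insert.1 (e ▸ mem_univ z) with h | h
        · exact Or.inl h
        · obtain ⟨i, hi, rfl⟩ := mem_image.1 h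
          exact Or.inr ⟨i, mem_range.1 hi, rfl⟩))
    simp only [mem_insert, not_or] at hb
    have hbf : ∀ i < t, b ≠ f i := fun i hi e => hb.2 (mem_image.2 ⟨i, mem_range.2 hi, e.symm⟩)
    rcases mem_insert.1 ha with rfl | h
    · exact hbf s hst (hunb b (pos_of_ne (Ne.symm hb.1) hab))
    · obtain ⟨i, hi, rfl⟩ := mem_image.1 h
      have := hx b i (mem_range.1 hi) hb.1 hbf
      have := pos_of_ne (hbf i (mem_range.1 hi)).symm hab
      omega
  have hn1 : n = t + 1 := by
    have h2 : n ≤ (insert u I).card := by
      rw [show insert u I = univ from Finset.eq_univ_of_forall fun z => by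
        rcases hcover z with h | ⟨i, hi, h⟩
        · exact mem_insert.2 (Or.inl h)
        · exact mem_insert_of_mem (mem_image.2 ⟨i, mem_range.2 hi, h.symm⟩)]
      simp
    have h3 := Finset.card_insert_le u I
    have h4 : I.card ≤ t := by simpa [I] using Finset.card_image_le (s := Finset.range t) (f := f)
    omega
  -- put the relevant edge, or the short arm, first
  have B : ∀ (g : ℕ → Fin n) (r i : ℕ), IsPath T g t → (∀ j < t, u ≠ g j) → r + 1 < t → i < r →
      0 < T.a (g r) u → 2 ≤ nProd T (g i) (g (i + 1)) → Affine T := by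
    intro g r i hg hug hr hir hru hd
    obtain ⟨hL, hfit⟩ := fits_B (L := r - i) ((hg.segment (i := i) (L := r - i + 1) (by omega)).rev)
      (by omega) (by
        simp only [show i + (r - i + 1 - 1 - (r - i - 1)) = i + 1 by omega,
          show i + (r - i + 1 - 1 - (r - i)) = i by omega]
        rwa [nProd_symm])
      ![u, g (r + 1)] (by
        intro a b e
        fin_cases a <;> fin_cases b <;>
          first | rfl | exact absurd e (hug _ hr) | exact absurd e.symm (hug _ hr))
      (fun p => hall _) (fun p q hq => by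
        fin_cases p
        · exact hug _ (by omega)
        · exact hg.ne hr (by omega) (by omega))
      (fun p => by
        fin_cases p <;> simp only [show i + (r - i + 1 - 1 - 0) = r by omega]
        · simpa [a_symm T u] using hru
        · simpa [a_symm T (g (r + 1))] using hg.edge r hr)
    rcases hfit with h | h
    · exact .b1 (by omega) h
    · exact .b2 (by omega) h
  by_cases hdbl : ∃ i, i + 1 < t ∧ nProd T (f i) (f (i + 1)) ≠ 1
  · obtain ⟨i, hi, hne⟩ := hdbl
    have hd := two_le_of_one_lt (hf.edge i hi) hne
    rcases Nat.lt_or_ge i s with his | his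
    · exact B f s i hf huf hs2 his hsu hd
    · refine B _ (t - 1 - s) (t - 2 - i) hf.rev (fun j hj => huf _ (by omega)) (by omega) (by omega) ?_ ?_
      · simpa [show t - 1 - (t - 1 - s) = s by omega] using hsu
      · simp only [show t - 1 - (t - 2 - i) = i + 1 by omega, show t - 1 - (t - 2 - i + 1) = i by omega]
        rwa [nProd_symm]
  push Not at hdbl
  by_cases hud : nProd T (f s) u = 1
  swap
  · let g : ℕ → Fin n := fun q => if q = 0 then f s else u
    have hg : IsPath T g (1 + 1) :=
      { inj := fun a ha b hb e => by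
          have := huf s hst
          simp only [g] at e
          split_ifs at e <;> first | omega | exact absurd e this | exact absurd e.symm this
        two := fun a _ => hall _
        edge := fun a ha => by
          obtain rfl : a = 0 := by omega
          simpa [g] using hsu }
    obtain ⟨hL, hfit⟩ := fits_B hg le_rfl (by simpa [g] using two_le_of_one_lt hsu hud)
      ![f (s - 1), f (s + 1)] (by
        intro a b e
        have := hf.ne (i := s - 1) (j := s + 1) (by omega) hs2 (by omega)
        fin_cases a <;> fin_cases b <;> first | rfl | exact absurd e this | exact absurd e.symm this)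
      (fun p => hall _) (fun p q hq => by
        simp only [g]
        fin_cases p <;> split_ifs <;>
          first | exact (huf _ (by omega)).symm | exact hf.ne (by omega) (by omega) (by omega))
      (fun p => by
        fin_cases p
        · simpa [g, show s - 1 + 1 = s by omega] using hf.edge (s - 1) (by omega)
        · simpa [g, a_symm T (f (s + 1))] using hf.edge s hs2)
    rcases hfit with h | h
    · exact .b1 (by omega) h
    · exact .b2 (by omega) h
  -- only simple edges
  have fin : ∀ (g : ℕ → Fin n) (r : ℕ), IsPath T g t → (∀ j < t, u ≠ g j) → 1 ≤ r → r + r + 1 ≤ t →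
      r + 1 < t → g r = f s →
      (∀ i < t, ∀ j < t, 0 < T.a (g i) (g j) → j + 1 = i ∨ j = i + 1) →
      (∀ z, z = u ∨ ∃ i < t, z = g i) → (∀ i, i + 1 < t → nProd T (g i) (g (i + 1)) = 1) →
      Affine T := fun g r hg hug hr1 hrr hr2 hgr hgp hgc hone =>
    affine_of_simple_branch hall hg hug hr1 hrr hr2 (hgr ▸ hsu) hgp hgc
      (fun y h => (hunb y h).trans hgr.symm) hone (hgr ▸ hud)
  rcases Nat.lt_or_ge (t - 1 - s) s with hlt | hge
  · refine fin _ (t - 1 - s) hf.rev (fun j hj => huf _ (by omega)) (by omega) (by omega) (by omega) ?_ ?_ ?_ ?_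
    · simp only [show t - 1 - (t - 1 - s) = s by omega]
    · intro i hi j hj h
      have := hpath _ (show t - 1 - i < t by omega) _ (show t - 1 - j < t by omega) h
      omega
    · intro z
      rcases hcover z with h | ⟨i, hi, h⟩
      · exact Or.inl h
      · exact Or.inr ⟨t - 1 - i, by omega, by simp only [show t - 1 - (t - 1 - i) = i by omega]; exact h⟩
    · intro i hi
      rw [nProd_symm]
      have := hdbl (t - 1 - (i + 1)) (by omega)
      rwa [show t - 1 - (i + 1) + 1 = t - 1 - i by omega] at this
  · exact fin f s hf huf hs1 (by omega) hs2 rfl hpath hcover hdbl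

end Groth.Agent.NumType
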