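import Groth.Agent.NumType.Basic
import Mathlib.Analysis.Real.Sqrt

/-! # Configurations inside a numerical type -/

namespace Groth.Agent.NumType

open Finset

variable {n : ℕ} (T : Models.NumericalType n)

/-- The normalised entry `a i j / √(w i w j)`. -/
noncomputable def nEntry (i j : Fin n) : ℝ :=
  (T.a i j : ℝ) / (Real.sqrt (T.w i) * Real.sqrt (T.w j))

/-- The product `(a i j / w i) * (a i j / w j)`. -/
def nProd (i j : Fin n) : ℤ := T.picMatrix i j * T.picMatrix j i

theorem sqrt_w_pos (i : Fin n) : (0 : ℝ) < Real.sqrt (T.w i) :=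
  Real.sqrt_pos.2 (by exact_mod_cast T.w_pos i)

theorem nEntry_nonneg {i j : Fin n} (h : i ≠ j) : 0 ≤ nEntry T i j :=
  div_nonneg (by exact_mod_cast T.offDiag_nonneg i j h)
    (mul_pos (sqrt_w_pos T i) (sqrt_w_pos T j)).le

theorem nEntry_symm (i j : Fin n) : nEntry T i j = nEntry T j i := by
  rw [nEntry, nEntry, a_symm, mul_comm (Real.sqrt (T.w i))]

theorem nProd_symm (i j : Fin n) : nProd T i j = nProd T j i := mul_comm _ _

theorem nEntry_sq (i j : Fin n) : nEntry T i j ^ 2 = (nProd T i j : ℝ) := by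
  have hi : (0 : ℝ) < T.w i := by exact_mod_cast T.w_pos i
  have hj : (0 : ℝ) < T.w j := by exact_mod_cast T.w_pos j
  rw [nEntry, div_pow, mul_pow, Real.sq_sqrt hi.le, Real.sq_sqrt hj.le, nProd]
  have e1 : (T.a i j : ℝ) = T.w i * T.picMatrix i j := by exact_mod_cast (w_mul_pic T i j).symm
  have e2 : (T.a i j : ℝ) = T.w j * T.picMatrix j i := by
    exact_mod_cast (a_symm T i j).trans (w_mul_pic T j i).symm
  rw [sq, div_eq_iff (by positivity)]
  push_cast
  linear_combination (T.a i j : ℝ) * e1 + (T.w i : ℝ) * (T.picMatrix i j : ℝ) * e2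

theorem nEntry_eq_sqrt {i j : Fin n} (h : i ≠ j) :
    nEntry T i j = Real.sqrt (nProd T i j) := by
  rw [← nEntry_sq, Real.sqrt_sq (nEntry_nonneg T h)]

theorem nProd_pos {i j : Fin n} (h : 0 < T.a i j) : 1 ≤ nProd T i j := by
  have h1 := pic_pos T h
  have h2 := pic_pos T (a_symm T i j ▸ h)
  exact Int.add_one_le_iff.2 (mul_pos h1 h2)

theorem nEntry_lb {i j : Fin n} (h : i ≠ j) {k : ℕ} (hk : (k : ℤ) ≤ nProd T i j) :
    Real.sqrt k ≤ nEntry T i j := by
  rw [nEntry_eq_sqrt T h]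
  exact Real.sqrt_le_sqrt (by exact_mod_cast hk)

theorem one_le_nEntry {i j : Fin n} (h : 0 < T.a i j) : 1 ≤ nEntry T i j := by
  simpa using nEntry_lb T (ne_of_pos T h) (k := 1) (by simpa using nProd_pos T h)

theorem a_pos_of_nEntry_pos {i j : Fin n} (h : 0 < nEntry T i j) : 0 < T.a i j := by
  have := (div_pos_iff.1 h).resolve_right fun h' =>
    absurd h'.2 (not_lt.2 (mul_pos (sqrt_w_pos T i) (sqrt_w_pos T j)).le)
  exact_mod_cast this.1

theorem a_eq_zero_of_nEntry {i j : Fin n} (h : nEntry T i j = 0) : T.a i j = 0 := by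
  rcases div_eq_zero_iff.1 h with h | h
  · exact_mod_cast h
  · exact absurd h (mul_pos (sqrt_w_pos T i) (sqrt_w_pos T j)).ne'

/-- Decoding an edge with `nProd = 1`. -/
theorem eq_of_nProd_one {i j : Fin n} (hne : i ≠ j) (h : nProd T i j = 1) :
    T.a i j = T.w i ∧ T.w j = T.w i := by
  rcases Int.eq_one_or_neg_one_of_mul_eq_one' h with ⟨h1, h2⟩ | ⟨h1, h2⟩
  · have e1 := w_mul_pic T i j
    have e2 := w_mul_pic T j i
    rw [h1, mul_one] at e1; rw [h2, mul_one, a_symm T j i] at e2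
    exact ⟨e1.symm, by omega⟩
  · have := pic_nonneg T hne; omega

/-- Decoding an edge with prime `nProd`. -/
theorem eq_of_nProd_prime {i j : Fin n} (hne : i ≠ j) {q : ℕ} (hq : q.Prime)
    (h : nProd T i j = q) :
    (T.w j = q * T.w i ∧ T.a i j = q * T.w i) ∨ (T.w i = q * T.w j ∧ T.a i j = q * T.w j) := by
  have e1 := w_mul_pic T i j
  have e2 := w_mul_pic T j i
  rw [a_symm T j i] at e2
  have p1 := pic_nonneg T hne
  have p2 := pic_nonneg T hne.symm
  obtain ⟨a, ha⟩ := Int.eq_ofNat_of_zero_le p1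
  obtain ⟨b, hb⟩ := Int.eq_ofNat_of_zero_le p2
  have hab : a * b = q := by
    unfold nProd at h; rw [ha, hb] at h; exact_mod_cast h
  rw [ha] at e1; rw [hb] at e2
  rcases hq.eq_one_or_self_of_dvd a ⟨b, hab.symm⟩ with rfl | rfl
  · refine Or.inr ?_
    simp only [one_mul] at hab; subst hab
    constructor <;> push_cast at e1 e2 <;> linarith
  · refine Or.inl ?_
    have : b = 1 := Nat.eq_of_mul_eq_mul_left hq.pos (by simpa using hab)
    subst this
    constructor <;> push_cast at e1 e2 <;> linarith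

/-- An affine (or bigger) configuration of `(-2)`-indices is the whole numerical type, exactly. -/
theorem config {κ : Type*} [Fintype κ] [DecidableEq κ] [Nonempty κ] (v : κ → Fin n)
    (hv : Function.Injective v) (h2 : ∀ p, T.IsMinusTwo (v p))
    (y : κ → ℝ) (hy : ∀ p, 0 < y p) (R : κ → κ → ℝ)
    (hR : ∀ p q, p ≠ q → R p q ≤ nEntry T (v p) (v q))
    (hQ : 2 * ∑ p, y p * y p ≤ ∑ p, ∑ q ∈ univ.erase p, R p q * (y p * y q)) :
    Function.Surjective v ∧ (∀ p q, p ≠ q → nEntry T (v p) (v q) = R p q) ∧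
      ∃ c : ℝ, 0 < c ∧ ∀ p, Real.sqrt (T.w (v p)) * T.m (v p) = c * y p := by
  classical
  have hs := sqrt_w_pos T
  let x : Fin n → ℝ := fun i => ∑ p, if v p = i then y p / Real.sqrt (T.w i) else 0
  have xv : ∀ p, x (v p) = y p / Real.sqrt (T.w (v p)) := fun p => by
    simp [x, hv.eq_iff, Finset.sum_ite_eq']
  have x0 : ∀ i, (∀ p, v p ≠ i) → x i = 0 := fun i hi => by simp [x, hi]
  have supp : ∀ f : Fin n → ℝ, (∀ i, (∀ p, v p ≠ i) → f i = 0) → ∑ i, f i = ∑ p, f (v p) := by
    intro f hf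
    rw [← Finset.sum_image (f := f) (g := v) hv.injOn]
    refine (Finset.sum_subset (subset_univ _) fun i _ hi => hf i fun p hp => hi ?_).symm
    exact mem_image.2 ⟨p, mem_univ _, hp⟩
  let t : κ → κ → ℝ := fun p q => nEntry T (v p) (v q) * (y p * y q)
  have tdiag : ∀ p, t p p = -2 * (y p * y p) := by
    intro p
    have hw : (0 : ℝ) < T.w (v p) := by exact_mod_cast T.w_pos (v p)
    have : nEntry T (v p) (v p) = -2 := by
      rw [nEntry, Real.mul_self_sqrt hw.le, (h2 p).2]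
      push_cast
      field_simp
    simp [t, this]
  have hQeq : ∑ i, ∑ j, (T.a i j : ℝ) * (x i * x j) = ∑ p, ∑ q, t p q := by
    rw [supp _ (fun i hi => Finset.sum_eq_zero fun j _ => by simp [x0 i hi])]
    refine Finset.sum_congr rfl fun p _ => ?_
    rw [supp _ (fun j hj => by simp [x0 j hj])]
    refine Finset.sum_congr rfl fun q _ => ?_
    rw [xv, xv]
    simp only [t, nEntry]
    field_simp
  have hsplit : ∑ p, ∑ q, t p q = (∑ p, ∑ q ∈ univ.erase p, t p q) - 2 * ∑ p, y p * y p := by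
    rw [Finset.mul_sum, ← Finset.sum_sub_distrib]
    refine Finset.sum_congr rfl fun p _ => ?_
    rw [← Finset.add_sum_erase _ _ (mem_univ p), tdiag]; ring
  have hge : ∀ p, ∀ q ∈ univ.erase p, R p q * (y p * y q) ≤ t p q := fun p q hq =>
    mul_le_mul_of_nonneg_right (hR p q (ne_of_mem_erase hq).symm) (mul_pos (hy p) (hy q)).le
  have hge' : ∑ p, ∑ q ∈ univ.erase p, R p q * (y p * y q) ≤ ∑ p, ∑ q ∈ univ.erase p, t p q :=
    Finset.sum_le_sum fun p _ => Finset.sum_le_sum (hge p)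
  have hle := (quad_real T x).1
  obtain ⟨c, hc⟩ := (quad_real T x).2 (by linarith)
  obtain ⟨p₀⟩ := (inferInstance : Nonempty κ)
  have hcpos : 0 < c := by
    have h := hc (v p₀)
    have hx : 0 < x (v p₀) := by rw [xv]; exact div_pos (hy p₀) (hs _)
    have hm : (0 : ℝ) < T.m (v p₀) := by exact_mod_cast T.m_pos _
    rw [h] at hx
    exact (mul_pos_iff_of_pos_right hm).1 hx
  refine ⟨fun i => ?_, fun p q hpq => ?_, c⁻¹, inv_pos.2 hcpos, fun p => ?_⟩
  · by_contra hi
    push Not at hi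
    have := hc i
    rw [x0 i hi] at this
    have hm : (0 : ℝ) < T.m i := by exact_mod_cast T.m_pos _
    nlinarith
  · have e : ∑ p, ∑ q ∈ univ.erase p, R p q * (y p * y q) =
        ∑ p, ∑ q ∈ univ.erase p, t p q := by linarith
    have e1 := (Finset.sum_eq_sum_iff_of_le fun p _ => Finset.sum_le_sum (hge p)).1 e p (mem_univ _)
    have e2 := (Finset.sum_eq_sum_iff_of_le (hge p)).1 e1 q (mem_erase.2 ⟨hpq.symm, mem_univ _⟩)
    exact (mul_right_cancel₀ (mul_pos (hy p) (hy q)).ne' e2).symm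
  · have := hc (v p)
    rw [xv, div_eq_iff (hs _).ne'] at this
    rw [this]
    field_simp

/-- Row inequality for a family of distinct indices. -/
theorem row_ineq {κ : Type*} [DecidableEq κ] {i : Fin n} (hi : T.IsMinusTwo i) (v : κ → Fin n)
    (hv : Function.Injective v) (s : Finset κ) (hs : ∀ p ∈ s, v p ≠ i) :
    ∑ p ∈ s, T.a i (v p) * T.m (v p) ≤ 2 * T.w i * T.m i := by
  classical
  have h := neg_diag_mul T i
  rw [hi.2] at h
  rw [show (2 : ℤ) * T.w i * T.m i = -(-2 * T.w i) * T.m i by ring, h,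
    ← Finset.sum_image (f := fun j => T.a i j * T.m j) (g := v) hv.injOn]
  refine Finset.sum_le_sum_of_subset_of_nonneg (fun j hj => ?_) (fun j hj _ => ?_)
  · obtain ⟨p, hp, rfl⟩ := mem_image.1 hj
    exact mem_erase.2 ⟨hs p hp, mem_univ _⟩
  · exact mul_nonneg (T.offDiag_nonneg i j (ne_of_mem_erase hj).symm) (T.m_pos j).le

end Groth.Agent.NumType
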