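import Groth.Agent.NumType.Genus
import Mathlib.LinearAlgebra.Quotient.Basic
import Mathlib.Algebra.BigOperators.Fin
import Mathlib.Tactic.NormNum

/-! # Contraction of a `(-1)`-index -/

namespace Groth.Agent.NumType

open Finset

variable {n : ℕ} (T : Models.NumericalType (n + 1))

/-- `a (i) (last) / w (last)`. -/
def bco (i : Fin n) : ℤ := T.a i.castSucc (Fin.last n) / T.w (Fin.last n)

/-- `a (i) (last) / w (i)`. -/
def pco (i : Fin n) : ℤ := T.a i.castSucc (Fin.last n) / T.w i.castSucc

/-- `w' i` -/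
def cw (i : Fin n) : ℤ :=
  if 2 ∣ bco T i ∧ ¬ 2 ∣ pco T i then T.w i.castSucc / 2 else T.w i.castSucc

/-- The ratio `w i / w' i`. -/
def cK (i : Fin n) : ℤ := if 2 ∣ bco T i ∧ ¬ 2 ∣ pco T i then 2 else 1

/-- `a' i j` -/
def ca (i j : Fin n) : ℤ := T.a i.castSucc j.castSucc + T.a i.castSucc (Fin.last n) * bco T j

/-- The correction term of the genus. -/
def cq (i : Fin n) : ℤ := cK T i * pco T i * (bco T i - 1) / 2

theorem w_mul_pco (i : Fin n) : T.w i.castSucc * pco T i = T.a i.castSucc (Fin.last n) :=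
  Int.mul_ediv_cancel' (T.w_dvd _ _)

theorem w_mul_bco (i : Fin n) : T.w (Fin.last n) * bco T i = T.a i.castSucc (Fin.last n) :=
  Int.mul_ediv_cancel' (w_dvd' T _ _)

theorem cK_mul_cw (i : Fin n) : cK T i * cw T i = T.w i.castSucc := by
  unfold cK cw
  split_ifs with h
  · refine Int.mul_ediv_cancel' ?_
    have h1 : (2 : ℤ) ∣ T.w i.castSucc * pco T i :=
      w_mul_pco T i ▸ w_mul_bco T i ▸ dvd_mul_of_dvd_right h.1 _
    exact even_iff_two_dvd.1 ((Int.even_mul.1 (even_iff_two_dvd.2 h1)).resolve_right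
      fun h' => h.2 (even_iff_two_dvd.1 h'))
  · exact one_mul _

theorem cK_cases (i : Fin n) : cK T i = 1 ∨ cK T i = 2 := by
  unfold cK; split_ifs <;> simp

theorem cw_pos (i : Fin n) : 0 < cw T i := by
  have h := cK_mul_cw T i
  have := T.w_pos i.castSucc
  rcases cK_cases T i with e | e <;> rw [e] at h <;> omega

theorem two_mul_cq (i : Fin n) : 2 * cq T i = cK T i * pco T i * (bco T i - 1) := by
  refine Int.mul_ediv_cancel' ?_
  unfold cK
  split_ifs with h
  · exact dvd_mul_of_dvd_left (dvd_mul_right _ _) _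
  · rw [one_mul]
    by_cases hp : (2 : ℤ) ∣ pco T i
    · exact dvd_mul_of_dvd_left hp _
    · refine dvd_mul_of_dvd_right ?_ _
      have := fun hb => h ⟨hb, hp⟩
      omega

theorem last_a_nonneg (i : Fin n) : 0 ≤ T.a i.castSucc (Fin.last n) :=
  T.offDiag_nonneg _ _ (Fin.castSucc_lt_last i).ne

theorem bco_nonneg (i : Fin n) : 0 ≤ bco T i :=
  Int.ediv_nonneg (last_a_nonneg T i) (T.w_pos _).le

theorem pco_nonneg (i : Fin n) : 0 ≤ pco T i :=
  Int.ediv_nonneg (last_a_nonneg T i) (T.w_pos _).le

variable {T}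

theorem last_diag (h : T.IsMinusOne (Fin.last n)) :
    T.a (Fin.last n) (Fin.last n) = -T.w (Fin.last n) := h.2

theorem ca_eq_formula (h : T.IsMinusOne (Fin.last n)) (i j : Fin n) :
    T.a i.castSucc j.castSucc - T.a i.castSucc (Fin.last n) * T.a j.castSucc (Fin.last n) /
      T.a (Fin.last n) (Fin.last n) = ca T i j := by
  rw [last_diag h, Int.ediv_neg, Int.mul_ediv_assoc _ (w_dvd' T _ _)]
  simp [ca, bco]

theorem genus_term (i : Fin n) :
    (T.a i.castSucc (Fin.last n) ^ 2 - T.w (Fin.last n) * T.a i.castSucc (Fin.last n)) /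
        (2 * cw T i * T.w (Fin.last n)) = cq T i := by
  have hne : 2 * cw T i * T.w (Fin.last n) ≠ 0 :=
    (mul_pos (mul_pos two_pos (cw_pos T i)) (T.w_pos _)).ne'
  refine Int.ediv_eq_of_eq_mul_left hne ?_
  have e1 := w_mul_bco T i
  have e2 := w_mul_pco T i
  have e3 := cK_mul_cw T i
  have e4 := two_mul_cq T i
  linear_combination
    -(T.a i.castSucc (Fin.last n)) * e1 - (cw T i * T.w (Fin.last n)) * e4
      - (T.w (Fin.last n) * pco T i * (bco T i - 1)) * e3
      + T.w (Fin.last n) * (1 - bco T i) * e2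

theorem w_div_cw (i : Fin n) : T.w i.castSucc / cw T i = cK T i :=
  Int.ediv_eq_of_eq_mul_left (cw_pos T i).ne' (cK_mul_cw T i).symm

theorem isContraction_iff (h : T.IsMinusOne (Fin.last n)) (T' : Models.NumericalType n) :
    T.IsContraction T' ↔ (∀ i, T'.m i = T.m i.castSucc) ∧ (∀ i j, T'.a i j = ca T i j) ∧
      (∀ i, T'.w i = cw T i) ∧
      ∀ i, T'.g i = cK T i * (T.g i.castSucc - 1) + 1 + cq T i := by
  constructor
  · rintro ⟨h1, h2, h3, h4⟩
    have h3' : ∀ i, T'.w i = cw T i := fun i => h3 i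
    exact ⟨h1, fun i j => (h2 i j).trans (ca_eq_formula h i j), h3', fun i => by
      rw [h4 i, h3' i, w_div_cw, genus_term]⟩
  · rintro ⟨h1, h2, h3, h4⟩
    exact ⟨h1, fun i j => (h2 i j).trans (ca_eq_formula h i j).symm, fun i => h3 i, fun i => by
      rw [h4 i, h3 i, w_div_cw, genus_term]⟩

theorem sum_last_mul (h : T.IsMinusOne (Fin.last n)) :
    ∑ i : Fin n, T.a i.castSucc (Fin.last n) * T.m i.castSucc =
      T.w (Fin.last n) * T.m (Fin.last n) := by
  have := col_sum T (Fin.last n)
  rw [Fin.sum_univ_castSucc, last_diag h] at this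
  linarith

theorem ca_symm (i j : Fin n) : ca T i j = ca T j i := by
  have e1 := w_mul_bco T i
  have e2 := w_mul_bco T j
  have : T.a i.castSucc (Fin.last n) * bco T j = T.a j.castSucc (Fin.last n) * bco T i := by
    rw [← e1, ← e2]; ring
  unfold ca; rw [this, a_symm]

theorem ca_offDiag {i j : Fin n} (hij : i ≠ j) :
    0 ≤ ca T i j ∧ (ca T i j = 0 → T.a i.castSucc j.castSucc = 0 ∧
      (T.a i.castSucc (Fin.last n) = 0 ∨ T.a j.castSucc (Fin.last n) = 0)) := by
  have h1 := T.offDiag_nonneg i.castSucc j.castSucc fun e => hij (Fin.castSucc_injective _ e)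
  have h2 := mul_nonneg (last_a_nonneg T i) (bco_nonneg T j)
  refine ⟨by unfold ca; omega, fun h0 => ?_⟩
  unfold ca at h0
  refine ⟨by omega, ?_⟩
  rcases mul_eq_zero.1 (show T.a i.castSucc (Fin.last n) * bco T j = 0 by omega) with h | h
  · exact Or.inl h
  · exact Or.inr (by rw [← w_mul_bco, h, mul_zero])

theorem n_pos (h : T.IsMinusOne (Fin.last n)) : 0 < n := by
  by_contra hn
  obtain rfl : n = 0 := by omega
  have h0 : T.a 0 0 = -T.w 0 := h.2
  have := T.w_pos 0
  have := a_eq_zero_of_one T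
  omega

theorem exists_contraction (h : T.IsMinusOne (Fin.last n)) :
    ∃ T' : Models.NumericalType n, T.IsContraction T' := by
  classical
  refine ⟨{ m := fun i => T.m i.castSucc
            a := fun i j => ca T i j
            w := cw T
            g := fun i => cK T i * (T.g i.castSucc - 1) + 1 + cq T i
            pos := n_pos h
            m_pos := fun i => T.m_pos _
            w_pos := cw_pos T
            g_nonneg := ?_
            symm := Matrix.IsSymm.ext fun i j => ca_symm j i
            offDiag_nonneg := fun i j hij => (ca_offDiag hij).1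
            connected := ?_
            mulVec_m := ?_
            w_dvd := ?_ }, (isContraction_iff h _).2
              ⟨fun _ => rfl, fun _ _ => rfl, fun _ => rfl, fun _ => rfl⟩⟩
  · intro i
    have hq := two_mul_cq T i
    have hg := T.g_nonneg i.castSucc
    have hp := pco_nonneg T i
    have hb := bco_nonneg T i
    by_cases hC : 2 ∣ bco T i ∧ ¬ 2 ∣ pco T i
    · have hK : cK T i = 2 := if_pos hC
      have hbne : bco T i ≠ 0 := by
        intro h0
        have e : T.w i.castSucc * pco T i = 0 := by rw [w_mul_pco, ← w_mul_bco, h0, mul_zero]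
        rcases mul_eq_zero.1 e with e | e
        · exact (T.w_pos _).ne' e
        · exact hC.2 (e ▸ dvd_zero _)
      have hb2 : 2 ≤ bco T i := by have := hC.1; omega
      have hp1 : 1 ≤ pco T i := by have := hC.2; omega
      rw [hK] at hq ⊢
      nlinarith
    · have hK : cK T i = 1 := if_neg hC
      rw [hK] at hq ⊢
      rcases hb.lt_or_eq with hb' | hb'
      · nlinarith
      · have e : T.w i.castSucc * pco T i = 0 := by rw [w_mul_pco, ← w_mul_bco, ← hb', mul_zero]
        rw [(mul_eq_zero.1 e).resolve_left (T.w_pos _).ne'] at hq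
        omega
  · intro I hI hIu
    by_contra hno
    push Not at hno
    obtain ⟨i₀, hi₀⟩ := hI
    obtain ⟨j₀, hj₀⟩ : ∃ j, j ∉ I := by
      by_contra hall; push Not at hall; exact hIu (Finset.eq_univ_of_forall hall)
    have hz : ∀ i ∈ I, ∀ j, j ∉ I → T.a i.castSucc j.castSucc = 0 ∧
        (T.a i.castSucc (Fin.last n) = 0 ∨ T.a j.castSucc (Fin.last n) = 0) :=
      fun i hi j hj => (ca_offDiag fun e : i = j => hj (e ▸ hi)).2 (hno i hi j hj)
    have hlast : ∀ S : Finset (Fin n), Fin.last n ∉ S.map Fin.castSuccEmb := fun S => by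
      simp [Fin.castSucc_ne_last]
    by_cases hA : ∀ i ∈ I, T.a i.castSucc (Fin.last n) = 0
    · obtain ⟨x, hx, y, hy, hxy⟩ := T.connected (I.map Fin.castSuccEmb) ⟨_, mem_map_of_mem _ hi₀⟩
        (fun e => hlast I (e ▸ mem_univ _))
      obtain ⟨i, hi, rfl⟩ := mem_map.1 hx
      induction y using Fin.lastCases with
      | last => exact hxy (hA i hi)
      | cast j => exact hxy (hz i hi j fun hj => hy (mem_map_of_mem _ hj)).1
    · push Not at hA
      obtain ⟨i₁, hi₁, hne₁⟩ := hA
      obtain ⟨x, hx, y, hy, hxy⟩ := T.connected (Iᶜ.map Fin.castSuccEmb)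
        ⟨_, mem_map_of_mem _ (mem_compl.2 hj₀)⟩ (fun e => hlast Iᶜ (e ▸ mem_univ _))
      obtain ⟨j, hj, rfl⟩ := mem_map.1 hx
      rw [mem_compl] at hj
      induction y using Fin.lastCases with
      | last => exact hxy ((hz i₁ hi₁ j hj).2.resolve_left hne₁)
      | cast i =>
        refine hxy ?_
        rw [a_symm]
        exact (hz i (by by_contra hi; exact hy (mem_map_of_mem _ (mem_compl.2 hi))) j hj).1
  · funext i
    have e1 : ∑ j : Fin n, T.a i.castSucc j.castSucc * T.m j.castSucc =
        -(T.a i.castSucc (Fin.last n) * T.m (Fin.last n)) := by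
      have := row_sum T i.castSucc
      rw [Fin.sum_univ_castSucc] at this
      linarith
    have e2 : ∑ j : Fin n, bco T j * T.m j.castSucc = T.m (Fin.last n) := by
      apply mul_left_cancel₀ (T.w_pos (Fin.last n)).ne'
      rw [Finset.mul_sum, ← sum_last_mul h]
      exact Finset.sum_congr rfl fun j _ => by rw [← w_mul_bco]; ring
    simp only [Matrix.mulVec, dotProduct, ca, Pi.zero_apply, add_mul, Finset.sum_add_distrib,
      mul_assoc, ← Finset.mul_sum, e1, e2]
    ring
  · intro i j
    have hd : cw T i ∣ T.w i.castSucc := Dvd.intro_left _ (cK_mul_cw T i)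
    exact dvd_add (hd.trans (T.w_dvd _ _)) (dvd_mul_of_dvd_left (hd.trans (T.w_dvd _ _)) _)

theorem contraction_genus (h : T.IsMinusOne (Fin.last n)) {T' : Models.NumericalType n}
    (hT' : T.IsContraction T') : T'.genus = T.genus := by
  obtain ⟨h1, h2, h3, h4⟩ := (isContraction_iff h T').1 hT'
  have e : ∑ i, contrib T' i =
      (∑ i : Fin n, contrib T i.castSucc) - ∑ i : Fin n, T.a i.castSucc (Fin.last n) * T.m i.castSucc := by
    rw [← Finset.sum_sub_distrib]
    refine Finset.sum_congr rfl fun i _ => ?_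
    simp only [contrib, h1, h2, h3, h4, ca]
    have e2 := w_mul_pco T i
    have e3 := cK_mul_cw T i
    have e4 := two_mul_cq T i
    linear_combination
      (T.m i.castSucc * (2 * (T.g i.castSucc - 1) + pco T i * (bco T i - 1))) * e3
        + T.m i.castSucc * cw T i * e4 + T.m i.castSucc * (bco T i - 1) * e2
  have hl : contrib T (Fin.last n) = -(T.w (Fin.last n) * T.m (Fin.last n)) := by
    rw [contrib, h.1, h.2]; ring
  have e' := Fin.sum_univ_castSucc (fun i => contrib T i)
  rw [sum_last_mul h, ← two_mul_genus] at e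
  rw [← two_mul_genus, hl] at e'
  omega

theorem pic_embeds (h : T.IsMinusOne (Fin.last n)) {T' : Models.NumericalType n}
    (hT' : T.IsContraction T') :
    ∃ f : T.Pic →+ T'.Pic, Function.Injective f ∧ ∀ y : T'.Pic, ∃ x : T.Pic, 2 • y = f x := by
  obtain ⟨-, h2, h3, -⟩ := (isContraction_iff h T').1 hT'
  let φ : (Fin (n + 1) → ℤ) →ₗ[ℤ] (Fin n → ℤ) :=
    { toFun := fun x i => cK T i * (x i.castSucc + pco T i * x (Fin.last n))
      map_add' := fun x y => funext fun i => by simp only [Pi.add_apply]; ring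
      map_smul' := fun c x => funext fun i => by
        simp only [Pi.smul_apply, smul_eq_mul, RingHom.id_apply]; ring }
  have hP' : ∀ i j, T'.picMatrix i j =
      cK T i * (T.picMatrix i.castSucc j.castSucc + pco T i * bco T j) := by
    intro i j
    refine Int.ediv_eq_of_eq_mul_left (T'.w_pos i).ne' ?_
    rw [h2, h3, ca, ← w_mul_pic T i.castSucc j.castSucc, ← w_mul_pco T i, ← cK_mul_cw T i]
    ring
  have hPl : ∀ j : Fin n, T.picMatrix (Fin.last n) j.castSucc = bco T j := fun j => by
    rw [Models.NumericalType.picMatrix, bco, a_symm]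
  have hPll : T.picMatrix (Fin.last n) (Fin.last n) = -1 := by
    refine Int.ediv_eq_of_eq_mul_left (T.w_pos _).ne' ?_
    rw [last_diag h]; ring
  have hφP : ∀ z, φ (T.picMatrix.mulVec z) = T'.picMatrix.mulVec (fun j => z j.castSucc) := by
    intro z
    funext i
    show cK T i * (T.picMatrix.mulVec z i.castSucc + pco T i * T.picMatrix.mulVec z (Fin.last n)) = _
    simp only [Matrix.mulVec, dotProduct, Fin.sum_univ_castSucc, hP', hPl, hPll]
    rw [show T.picMatrix i.castSucc (Fin.last n) = pco T i from rfl]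
    simp only [mul_add, Finset.mul_sum, add_mul, Finset.sum_add_distrib, mul_assoc]
    ring
  have hker : LinearMap.range (Matrix.mulVecLin T.picMatrix) =
      LinearMap.ker ((LinearMap.range (Matrix.mulVecLin T'.picMatrix)).mkQ ∘ₗ φ) := by
    ext x
    simp only [LinearMap.mem_range, LinearMap.mem_ker, LinearMap.comp_apply, Submodule.mkQ_apply,
      Submodule.Quotient.mk_eq_zero, Matrix.mulVecLin_apply]
    constructor
    · rintro ⟨z, rfl⟩
      exact ⟨_, (hφP z).symm⟩
    · rintro ⟨z', hz'⟩
      let z : Fin (n + 1) → ℤ := Fin.snoc z' 0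
      have hz : (fun j : Fin n => z j.castSucc) = z' := funext fun j => Fin.snoc_castSucc ..
      let d := x - T.picMatrix.mulVec z
      have hd : φ d = 0 := by simp only [d, map_sub, hφP, hz, hz', sub_self]
      refine ⟨z + Pi.single (Fin.last n) (-(d (Fin.last n))), ?_⟩
      rw [Matrix.mulVec_add]
      refine add_eq_of_eq_sub' ?_
      show T.picMatrix.mulVec (Pi.single (Fin.last n) (-(d (Fin.last n)))) = d
      funext i
      simp only [Matrix.mulVec, dotProduct, Pi.single_apply, mul_ite, mul_zero, Finset.sum_ite_eq',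
        mem_univ, if_true]
      induction i using Fin.lastCases with
      | last => rw [hPll]; ring
      | cast i =>
        have hi : cK T i * (d i.castSucc + pco T i * d (Fin.last n)) = 0 := congrFun hd i
        have hk : cK T i ≠ 0 := by rcases cK_cases T i with e | e <;> rw [e] <;> norm_num
        rw [show T.picMatrix i.castSucc (Fin.last n) = pco T i from rfl]
        linarith [(mul_eq_zero.1 hi).resolve_left hk]
  refine ⟨(Submodule.liftQ _ _ hker.le).toAddMonoidHom,
    LinearMap.ker_eq_bot.1 (Submodule.ker_liftQ_eq_bot _ _ hker.le hker.ge), fun y => ?_⟩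
  obtain ⟨y, rfl⟩ := Submodule.Quotient.mk_surjective _ y
  refine ⟨Submodule.Quotient.mk (Fin.snoc (fun i => 2 / cK T i * y i) 0), ?_⟩
  show Submodule.Quotient.mk (2 • y) = Submodule.Quotient.mk (φ _)
  congr 1
  funext i
  show 2 • y i = cK T i * (_ + pco T i * _)
  rw [Fin.snoc_castSucc, Fin.snoc_last, mul_zero, add_zero, ← mul_assoc,
    show cK T i * (2 / cK T i) = 2 by rcases cK_cases T i with e | e <;> rw [e] <;> rfl]
  simp

/-- The type with the indices permuted by `σ`. -/
def reindex {N : ℕ} (T : Models.NumericalType N) (σ : Equiv.Perm (Fin N)) :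
    Models.NumericalType N where
  m i := T.m (σ i)
  a := fun i j => T.a (σ i) (σ j)
  w i := T.w (σ i)
  g i := T.g (σ i)
  pos := T.pos
  m_pos i := T.m_pos _
  w_pos i := T.w_pos _
  g_nonneg i := T.g_nonneg _
  symm := Matrix.IsSymm.ext fun i j => a_symm T _ _
  offDiag_nonneg i j h := T.offDiag_nonneg _ _ (σ.injective.ne h)
  connected I hI hIu := by
    obtain ⟨x, hx, y, hy, hxy⟩ := T.connected (I.map σ.toEmbedding) hI.map
      (fun e => hIu (Finset.eq_univ_of_forall fun i => by
        have := e ▸ mem_univ (σ i)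
        simpa using this))
    obtain ⟨i, hi, rfl⟩ := mem_map.1 hx
    refine ⟨i, hi, σ.symm y, fun hj => hy ?_, ?_⟩
    · simpa using hj
    · simpa using hxy
  mulVec_m := funext fun i => by
    show ∑ j, T.a (σ i) (σ j) * T.m (σ j) = 0
    rw [Equiv.sum_comp σ fun j => T.a (σ i) j * T.m j]
    exact row_sum T _
  w_dvd i j := T.w_dvd _ _

theorem reindex_genus {N : ℕ} (T : Models.NumericalType N) (σ : Equiv.Perm (Fin N)) :
    (reindex T σ).genus = T.genus := by
  have e1 := two_mul_genus (reindex T σ)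
  have e2 := two_mul_genus T
  have e3 : ∑ i, contrib (reindex T σ) i = ∑ i, contrib T i := Equiv.sum_comp σ (contrib T)
  omega

theorem reindex_pic {N : ℕ} (T : Models.NumericalType N) (σ : Equiv.Perm (Fin N)) :
    Nonempty (T.Pic ≃ₗ[ℤ] (reindex T σ).Pic) := by
  refine ⟨Submodule.Quotient.equiv _ _ (LinearEquiv.funCongrLeft ℤ ℤ σ) ?_⟩
  ext x
  simp only [Submodule.mem_map, LinearMap.mem_range, Matrix.mulVecLin_apply]
  have key : ∀ z, (LinearEquiv.funCongrLeft ℤ ℤ σ) (T.picMatrix.mulVec z) =
      (reindex T σ).picMatrix.mulVec (fun j => z (σ j)) := fun z => funext fun i => by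
    show ∑ j, T.picMatrix (σ i) j * z j = ∑ j, T.picMatrix (σ i) (σ j) * z (σ j)
    rw [Equiv.sum_comp σ fun j => T.picMatrix (σ i) j * z j]
  constructor
  · rintro ⟨y, ⟨z, rfl⟩, rfl⟩
    exact ⟨_, (key z).symm⟩
  · rintro ⟨z, rfl⟩
    exact ⟨_, ⟨fun j => z (σ.symm j), rfl⟩, (key _).trans (by simp)⟩

/-- A non-minimal type injects its Picard group into that of a smaller type of the same genus. -/
theorem exists_step {N : ℕ} (T : Models.NumericalType N) (h : ¬ T.IsMinimal) :
    ∃ (M : ℕ) (T' : Models.NumericalType M), M < N ∧ T'.genus = T.genus ∧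
      ∃ f : T.Pic →+ T'.Pic, Function.Injective f := by
  simp only [Models.NumericalType.IsMinimal, not_forall, not_not] at h
  obtain ⟨i, hi⟩ := h
  obtain ⟨M, rfl⟩ : ∃ M, N = M + 1 := ⟨N - 1, by have := T.pos; omega⟩
  let σ := Equiv.swap i (Fin.last M)
  have h' : (reindex T σ).IsMinusOne (Fin.last M) := by
    show T.g (σ _) = 0 ∧ T.a (σ _) (σ _) = -T.w (σ _)
    rw [show σ (Fin.last M) = i from Equiv.swap_apply_right _ _]
    exact hi
  obtain ⟨T', hT'⟩ := exists_contraction h'
  obtain ⟨e⟩ := reindex_pic T σ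
  obtain ⟨f, hf, -⟩ := pic_embeds h' hT'
  exact ⟨M, T', Nat.lt_succ_self M, (contraction_genus h' hT').trans (reindex_genus T σ),
    f.comp e.toLinearMap.toAddMonoidHom, hf.comp e.injective⟩

end Groth.Agent.NumType
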