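import Groth.Agent.NumType.Classify

/-! # From fitting data to explicit conditions -/

namespace Groth.Agent.NumType

variable {n : ℕ} {T : Models.NumericalType n}

/-- Fitting data together with the diagonal. -/
theorem Fits.values {M W : ℕ → ℤ} {A : ℕ → ℕ → ℤ} (h : Fits T M W A)
    (hall : ∀ i, T.IsMinusTwo i) :
    ∃ (σ : Equiv.Perm (Fin n)) (m w : ℤ), (∀ i : Fin n, T.m (σ i) = M i.val * m) ∧
      (∀ i : Fin n, T.w (σ i) = W i.val * w) ∧
      (∀ i : Fin n, T.a (σ i) (σ i) = (-(2 * W i.val)) * w) ∧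
      ∀ i j : Fin n, i.val < j.val → T.a (σ i) (σ j) = A i.val j.val * w := by
  obtain ⟨σ, m, w, h⟩ := h
  refine ⟨σ, m, w, fun i => (h i).1, fun i => (h i).2.1, fun i => ?_, fun i j hij => (h i).2.2 j hij⟩
  rw [(hall (σ i)).2, (h i).2.1]; ring

/-- The genus-one classification. -/
theorem genus_one_affine (hn : 3 ≤ n) (hmin : T.IsMinimal) (hg : T.genus = 1) :
    (∀ i, T.IsMinusTwo i) ∧ Affine T :=
  have hall := all_minusTwo (by omega) hmin hg
  ⟨hall, affine_classification hn hall⟩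

end Groth.Agent.NumType
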