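import Groth.Agent.NumType.Chains

/-! # Row inequalities, pairs, and paths given by embeddings -/

namespace Groth.Agent.NumType

open Finset

variable {n : ℕ} {T : Models.NumericalType n}

theorem isPath_ofFin {t : ℕ} (v : Fin (t + 1) ↪ Fin n) {L : ℕ} (hL : L ≤ t + 1)
    (hv : ∀ j, T.IsMinusTwo (v j))
    (he : ∀ j j' : Fin (t + 1), j'.val = j.val + 1 → j'.val < L → T.a (v j) (v j') ≠ 0) :
    IsPath T (ofFin v) L where
  inj i hi j hj e := by
    rw [ofFin_eq _ (by omega), ofFin_eq _ (by omega)] at e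
    simpa using v.injective e
  two i hi := by rw [ofFin_eq _ (by omega)]; exact hv _
  edge i hi := by
    rw [ofFin_eq _ (by omega), ofFin_eq _ (by omega)]
    exact pos_of_ne (v.injective.ne (by simp)) (he ⟨i, by omega⟩ ⟨i + 1, by omega⟩ rfl hi)

theorem row1 {i j : Fin n} (hi : T.IsMinusTwo i) (hj : j ≠ i) :
    T.a i j * T.m j ≤ 2 * T.w i * T.m i := by
  simpa using row_ineq T hi (fun p : Fin 1 => ![j] p) (fun a b _ => Subsingleton.elim a b) univ
    (fun p _ => by fin_cases p; simpa using hj)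

theorem row2 {i j k : Fin n} (hi : T.IsMinusTwo i) (hj : j ≠ i) (hk : k ≠ i) (hjk : j ≠ k) :
    T.a i j * T.m j + T.a i k * T.m k ≤ 2 * T.w i * T.m i := by
  simpa [Fin.sum_univ_two] using row_ineq T hi ![j, k]
    (fun a b e => by fin_cases a <;> fin_cases b <;> simp_all [eq_comm]) univ
    (fun p _ => by fin_cases p <;> simp [hj, hk])

theorem row3 {i j k l : Fin n} (hi : T.IsMinusTwo i) (hj : j ≠ i) (hk : k ≠ i) (hl : l ≠ i)
    (hjk : j ≠ k) (hjl : j ≠ l) (hkl : k ≠ l) :
    T.a i j * T.m j + T.a i k * T.m k + T.a i l * T.m l ≤ 2 * T.w i * T.m i := by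
  simpa [Fin.sum_univ_three] using row_ineq T hi ![j, k, l]
    (fun a b e => by fin_cases a <;> fin_cases b <;> simp_all [eq_comm]) univ
    (fun p _ => by fin_cases p <;> simp [hj, hk, hl])

theorem le_of_mul_w {i : Fin n} {A B : ℤ} (h : T.w i * A ≤ T.w i * B) : A ≤ B :=
  le_of_mul_le_mul_left h (T.w_pos i)

/-- Two joined `(-2)`-indices among at least three indices. -/
theorem pair_form (hn : 2 < n) {i j : Fin n} (hi : T.IsMinusTwo i) (hj : T.IsMinusTwo j)
    (hpos : 0 < T.a i j) :
    (T.w j = T.w i ∧ T.a i j = T.w i) ∨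
      ((T.w j = 2 * T.w i ∧ T.a i j = 2 * T.w i) ∨ (T.w i = 2 * T.w j ∧ T.a i j = 2 * T.w j)) ∨
      ((T.w j = 3 * T.w i ∧ T.a i j = 3 * T.w i) ∨ (T.w i = 3 * T.w j ∧ T.a i j = 3 * T.w j)) := by
  have hne := ne_of_pos T hpos
  have h1 := nProd_pos T hpos
  have hle : nProd T i j ≤ 3 := by
    by_contra h4
    have h2 : (2 : ℝ) ≤ nEntry T i j := by
      have := nEntry_lb T hne (k := 4) (by omega)
      rwa [show Real.sqrt ((4 : ℕ) : ℝ) = 2 by
        rw [show ((4 : ℕ) : ℝ) = 2 ^ 2 by norm_num, Real.sqrt_sq (by norm_num)]] at this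
    refine small ![i, j] (fun a b e => by fin_cases a <;> fin_cases b <;> simp_all [eq_comm])
      (fun p => by fin_cases p <;> assumption) hn (fun _ => 1) (fun _ => one_pos)
      ![![0, 2], ![2, 0]] (fun p => by fin_cases p <;> simp) ?_ ?_
    · intro p q hpq
      fin_cases p <;> fin_cases q <;>
        first
        | exact absurd rfl hpq
        | simpa using h2
        | simpa [nEntry_symm T j i] using h2
    · intro p; fin_cases p <;> simp
  rcases (show nProd T i j = 1 ∨ nProd T i j = 2 ∨ nProd T i j = 3 by omega) with h | h | h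
  · exact Or.inl (eq_of_nProd_one T hne h).symm
  · exact Or.inr (Or.inl (two_eq_of hne h))
  · exact Or.inr (Or.inr (by simpa using eq_of_nProd_prime T hne (q := 3) Nat.prime_three (by simpa using h)))

end Groth.Agent.NumType
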