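import Groth.Agent.NumType.Config
import Mathlib.Algebra.BigOperators.Fin
import Mathlib.Tactic.FinCases
import Mathlib.Tactic.NormNum

/-! # Affine shapes inside a numerical type and their consequences -/

namespace Groth.Agent.NumType

open Finset

variable {n : ℕ} (T : Models.NumericalType n)

/-- `config` with the sub-null condition row by row. -/
theorem config_rows {κ : Type*} [Fintype κ] [DecidableEq κ] [Nonempty κ] (v : κ → Fin n)
    (hv : Function.Injective v) (h2 : ∀ p, T.IsMinusTwo (v p))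
    (y : κ → ℝ) (hy : ∀ p, 0 < y p) (R : κ → κ → ℝ) (hR0 : ∀ p, R p p = 0)
    (hR : ∀ p q, p ≠ q → R p q ≤ nEntry T (v p) (v q))
    (hrow : ∀ p, 2 * y p ≤ ∑ q, R p q * y q) :
    Function.Surjective v ∧ (∀ p q, p ≠ q → nEntry T (v p) (v q) = R p q) ∧
      ∃ c : ℝ, 0 < c ∧ ∀ p, Real.sqrt (T.w (v p)) * T.m (v p) = c * y p := by
  refine config T v hv h2 y hy R hR ?_
  rw [Finset.mul_sum]
  refine Finset.sum_le_sum fun p _ => ?_
  have := mul_le_mul_of_nonneg_left (hrow p) (hy p).le
  rw [Finset.mul_sum, ← Finset.add_sum_erase _ _ (mem_univ p), hR0, zero_mul, mul_zero,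
    zero_add] at this
  calc 2 * (y p * y p) = y p * (2 * y p) := by ring
    _ ≤ _ := this
    _ = _ := Finset.sum_congr rfl fun q _ => by ring

/-- A path of `(-2)`-indices `f 0, …, f (t-1)`. -/
structure IsPath (f : ℕ → Fin n) (t : ℕ) : Prop where
  inj : ∀ i < t, ∀ j < t, f i = f j → i = j
  two : ∀ i < t, T.IsMinusTwo (f i)
  edge : ∀ i, i + 1 < t → 0 < T.a (f i) (f (i + 1))

variable {T}

theorem IsPath.ne {f : ℕ → Fin n} {t : ℕ} (h : IsPath T f t) {i j : ℕ} (hi : i < t) (hj : j < t)
    (hij : i ≠ j) : f i ≠ f j := fun e => hij (h.inj i hi j hj e)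

theorem IsPath.segment {f : ℕ → Fin n} {t : ℕ} (h : IsPath T f t) {i L : ℕ} (hL : i + L ≤ t) :
    IsPath T (fun q => f (i + q)) L where
  inj a ha b hb e := by have := h.inj (i + a) (by omega) (i + b) (by omega) e; omega
  two a ha := h.two (i + a) (by omega)
  edge a ha := h.edge (i + a) (by omega)

theorem IsPath.rev {f : ℕ → Fin n} {t : ℕ} (h : IsPath T f t) :
    IsPath T (fun q => f (t - 1 - q)) t where
  inj a ha b hb e := by
    have := h.inj (t - 1 - a) (by omega) (t - 1 - b) (by omega) e; omega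
  two a ha := h.two _ (by omega)
  edge a ha := by
    have := h.edge (t - 1 - (a + 1)) (by omega)
    rw [show t - 1 - (a + 1) + 1 = t - 1 - a by omega] at this
    rwa [a_symm]

theorem IsPath.injective {f : ℕ → Fin n} {t : ℕ} (h : IsPath T f t) :
    Function.Injective fun p : Fin t => f p.val :=
  fun p q e => Fin.ext (h.inj p.val p.isLt q.val q.isLt e)

/-- Lower bound of a normalised entry given by `1` on an edge. -/
theorem ite_le_nEntry {i j : Fin n} (hne : i ≠ j) {P : Prop} [Decidable P] {r : ℝ}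
    (h : P → r ≤ nEntry T i j) : (if P then r else 0) ≤ nEntry T i j := by
  split
  · exact h (by assumption)
  · exact nEntry_nonneg T hne

theorem sum_ge_pair {κ : Type*} [Fintype κ] [DecidableEq κ] (F : κ → ℝ) (hF : ∀ q, 0 ≤ F q)
    {q₁ q₂ : κ} (h : q₁ ≠ q₂) : F q₁ + F q₂ ≤ ∑ q, F q := by
  rw [← Finset.sum_pair h]
  exact Finset.sum_le_sum_of_subset_of_nonneg (subset_univ _) fun q _ _ => hF q

theorem sum_ge_one {κ : Type*} [Fintype κ] (F : κ → ℝ) (hF : ∀ q, 0 ≤ F q) (q₁ : κ) :
    F q₁ ≤ ∑ q, F q := Finset.single_le_sum (fun q _ => hF q) (mem_univ q₁)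

theorem sqrt_two_le {i j : Fin n} (hne : i ≠ j) (h : 2 ≤ nProd T i j) :
    Real.sqrt 2 ≤ nEntry T i j := by
  simpa using nEntry_lb T hne (k := 2) (by exact_mod_cast h)

theorem sqrt_three_le {i j : Fin n} (hne : i ≠ j) (h : 3 ≤ nProd T i j) :
    Real.sqrt 3 ≤ nEntry T i j := by
  simpa using nEntry_lb T hne (k := 3) (by exact_mod_cast h)

theorem sqrt_two_mul : Real.sqrt 2 * Real.sqrt 2 = 2 := Real.mul_self_sqrt (by norm_num)

theorem one_le_sqrt_two : 1 ≤ Real.sqrt 2 := by
  simpa using Real.sqrt_le_sqrt (show (1 : ℝ) ≤ 2 by norm_num)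

theorem two_le_of_one_lt {i j : Fin n} (h : 0 < T.a i j) (h1 : nProd T i j ≠ 1) :
    2 ≤ nProd T i j := by
  have := nProd_pos T h; omega

/-- A cycle is the whole type, with no chord and only simple edges. -/
theorem cycle {f : ℕ → Fin n} {L : ℕ} (h : IsPath T f L) (hL : 3 ≤ L)
    (hclose : 0 < T.a (f (L - 1)) (f 0)) :
    Function.Surjective (fun p : Fin L => f p.val) ∧
      (∀ p q : Fin L, p ≠ q → nEntry T (f p.val) (f q.val) =
        if q.val = p.val + 1 ∨ p.val = q.val + 1 ∨ (p.val = 0 ∧ q.val + 1 = L) ∨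
          (q.val = 0 ∧ p.val + 1 = L) then (1 : ℝ) else 0) ∧
      ∃ c : ℝ, 0 < c ∧ ∀ p : Fin L, Real.sqrt (T.w (f p.val)) * T.m (f p.val) = c * 1 := by
  have : Nonempty (Fin L) := ⟨⟨0, by omega⟩⟩
  refine config_rows T _ h.injective (fun p => h.two _ p.isLt) (fun _ => 1) (fun _ => one_pos)
    (fun p q => if q.val = p.val + 1 ∨ p.val = q.val + 1 ∨ (p.val = 0 ∧ q.val + 1 = L) ∨
          (q.val = 0 ∧ p.val + 1 = L) then 1 else 0) (fun p => by rw [if_neg]; omega) ?_ ?_
  · intro p q hpq
    refine ite_le_nEntry (h.injective.ne hpq) ?_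
    rintro (e | e | ⟨e, e'⟩ | ⟨e, e'⟩)
    · rw [e]; exact one_le_nEntry T (h.edge _ (by omega))
    · rw [e, nEntry_symm]; exact one_le_nEntry T (h.edge _ (by omega))
    · rw [e, show q.val = L - 1 by omega, nEntry_symm]; exact one_le_nEntry T hclose
    · rw [e, show p.val = L - 1 by omega]; exact one_le_nEntry T hclose
  · intro p
    obtain ⟨a, ha⟩ : ∃ a : Fin L, a.val = if p.val + 1 = L then 0 else p.val + 1 :=
      ⟨⟨if p.val + 1 = L then 0 else p.val + 1, by split <;> omega⟩, rfl⟩
    obtain ⟨b, hb⟩ : ∃ b : Fin L, b.val = if p.val = 0 then L - 1 else p.val - 1 :=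
      ⟨⟨if p.val = 0 then L - 1 else p.val - 1, by split <;> omega⟩, rfl⟩
    have hne : a ≠ b := by
      intro e; rw [Fin.ext_iff, ha, hb] at e; split_ifs at e <;> omega
    refine le_trans ?_ (sum_ge_pair _ (fun q => ?_) hne)
    · rw [if_pos (by rw [ha]; split_ifs <;> omega), if_pos (by rw [hb]; split_ifs <;> omega)]
      norm_num
    · split <;> norm_num

theorem no_cycle {f : ℕ → Fin n} {L : ℕ} (h : IsPath T f L) (hL : 3 ≤ L) (hn : L < n)
    (hclose : 0 < T.a (f (L - 1)) (f 0)) : False := by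
  have := Fintype.card_le_of_surjective _ (cycle h hL hclose).1
  simp at this; omega

/-- Non-consecutive vertices of a path inside a proper subset are not joined. -/
theorem chord_eq_zero {f : ℕ → Fin n} {t : ℕ} (h : IsPath T f t) (hn : t < n) {i j : ℕ}
    (hij : i + 1 < j) (hj : j < t) : T.a (f i) (f j) = 0 := by
  by_contra hne
  have hpos : 0 < T.a (f i) (f j) :=
    lt_of_le_of_ne (T.offDiag_nonneg _ _ (h.ne (by omega) hj (by omega))) (Ne.symm hne)
  refine no_cycle (h.segment (i := i) (L := j - i + 1) (by omega)) (by omega) (by omega) ?_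
  simp only [add_zero, show i + (j - i + 1 - 1) = j by omega]
  rwa [a_symm]

/-- `C̃`: a path whose two extreme edges are at least double. -/
theorem shapeC {f : ℕ → Fin n} {L : ℕ} (h : IsPath T f L) (hL : 3 ≤ L)
    (h0 : 2 ≤ nProd T (f 0) (f 1)) (h1 : 2 ≤ nProd T (f (L - 2)) (f (L - 1))) :
    Function.Surjective (fun p : Fin L => f p.val) ∧
      (∀ p q : Fin L, p ≠ q → nEntry T (f p.val) (f q.val) =
        if q.val = p.val + 1 ∨ p.val = q.val + 1 then
          (if p.val = 0 ∨ q.val = 0 ∨ p.val + 1 = L ∨ q.val + 1 = L then Real.sqrt 2 else 1)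
        else 0) ∧
      ∃ c : ℝ, 0 < c ∧ ∀ p : Fin L, Real.sqrt (T.w (f p.val)) * T.m (f p.val) =
        c * (if p.val = 0 ∨ p.val + 1 = L then 1 else Real.sqrt 2) := by
  have : Nonempty (Fin L) := ⟨⟨0, by omega⟩⟩
  have hs := one_le_sqrt_two
  have hE : ∀ i, i + 1 < L → (if i = 0 ∨ i + 2 = L then Real.sqrt 2 else 1)
      ≤ nEntry T (f i) (f (i + 1)) := by
    intro i hi
    split_ifs with e
    · refine sqrt_two_le (h.ne (by omega) hi (by omega)) ?_
      rcases e with rfl | e
      · exact h0
      · rw [show i = L - 2 by omega, show L - 2 + 1 = L - 1 by omega]; exact h1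
    · exact one_le_nEntry T (h.edge i hi)
  refine config_rows T _ h.injective (fun p => h.two _ p.isLt)
    (fun p => if p.val = 0 ∨ p.val + 1 = L then 1 else Real.sqrt 2)
    (fun p => by split <;> linarith)
    (fun p q => if q.val = p.val + 1 ∨ p.val = q.val + 1 then
          (if p.val = 0 ∨ q.val = 0 ∨ p.val + 1 = L ∨ q.val + 1 = L then Real.sqrt 2 else 1)
        else 0) (fun p => by rw [if_neg]; omega) ?_ ?_
  · intro p q hpq
    refine ite_le_nEntry (h.injective.ne hpq) ?_
    rintro (e | e)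
    · rw [e]
      have := hE p.val (by omega)
      simp only [Nat.add_one_ne_zero, false_or] at this ⊢
      split_ifs at this ⊢ <;> first | exact this | omega
    · rw [e, nEntry_symm]
      have := hE q.val (by omega)
      simp only [Nat.add_one_ne_zero, false_or] at this ⊢
      split_ifs at this ⊢ <;> first | exact this | omega
  · intro p
    have hnn : ∀ q : Fin L, (0 : ℝ) ≤ (if q.val = p.val + 1 ∨ p.val = q.val + 1 then
          (if p.val = 0 ∨ q.val = 0 ∨ p.val + 1 = L ∨ q.val + 1 = L then Real.sqrt 2 else 1)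
        else 0) * (if q.val = 0 ∨ q.val + 1 = L then 1 else Real.sqrt 2) := fun q => by
      split_ifs <;> positivity
    by_cases p0 : p.val = 0
    · refine le_trans ?_ (sum_ge_one _ hnn ⟨1, by omega⟩)
      simp only [p0, Nat.zero_add, true_or, or_true, if_true, one_ne_zero, false_or]
      split_ifs <;> first | omega | linarith [sqrt_two_mul, one_le_sqrt_two]
    by_cases p1 : p.val + 1 = L
    · refine le_trans ?_ (sum_ge_one _ hnn ⟨L - 2, by omega⟩)
      simp only [Nat.add_one_ne_zero, true_or, or_true, false_or, or_false, if_true, if_false]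
      split_ifs <;> first | omega | linarith [sqrt_two_mul, one_le_sqrt_two]
    refine le_trans ?_ (sum_ge_pair _ hnn (q₁ := ⟨p.val + 1, by omega⟩)
      (q₂ := ⟨p.val - 1, by omega⟩) (by simp [Fin.ext_iff]; omega))
    rw [if_neg (show ¬(p.val = 0 ∨ p.val + 1 = L) by omega)]
    simp only [Nat.add_one_ne_zero, true_or, or_true, false_or, or_false, if_true, if_false]
    split_ifs <;> first | omega | linarith [sqrt_two_mul, one_le_sqrt_two]

theorem no_shapeC {f : ℕ → Fin n} {L : ℕ} (h : IsPath T f L) (hL : 3 ≤ L) (hn : L < n)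
    (h0 : 2 ≤ nProd T (f 0) (f 1)) (h1 : 2 ≤ nProd T (f (L - 2)) (f (L - 1))) : False := by
  have := Fintype.card_le_of_surjective _ (shapeC h hL h0 h1).1
  simp at this; omega

/-- `B̃`: a path `f 0, …, f L` whose last edge is at least double, with two further indices
`x`, `x'` attached to `f 0`. -/
theorem shapeB {f : ℕ → Fin n} {L : ℕ} (h : IsPath T f (L + 1)) (hL : 1 ≤ L)
    (hd : 2 ≤ nProd T (f (L - 1)) (f L)) (x : Fin 2 → Fin n) (hx : Function.Injective x)
    (hx2 : ∀ s, T.IsMinusTwo (x s)) (hxf : ∀ s, ∀ i ≤ L, x s ≠ f i)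
    (hxe : ∀ s, 0 < T.a (x s) (f 0)) :
    Function.Surjective (Sum.elim x (fun p : Fin (L + 1) => f p.val)) ∧
      (∀ p q : Fin 2 ⊕ Fin (L + 1), p ≠ q →
        nEntry T (Sum.elim x (fun p => f p.val) p) (Sum.elim x (fun p => f p.val) q) =
          match p, q with
          | .inl _, .inl _ => 0
          | .inl _, .inr b => if b.val = 0 then 1 else 0
          | .inr a, .inl _ => if a.val = 0 then 1 else 0
          | .inr a, .inr b => if b.val = a.val + 1 ∨ a.val = b.val + 1 then
              (if a.val = L ∨ b.val = L then Real.sqrt 2 else 1) else 0) ∧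
      ∃ c : ℝ, 0 < c ∧ ∀ p : Fin 2 ⊕ Fin (L + 1),
        Real.sqrt (T.w (Sum.elim x (fun p => f p.val) p)) * T.m (Sum.elim x (fun p => f p.val) p) =
          c * Sum.elim (fun _ => 1) (fun p : Fin (L + 1) => if p.val = L then Real.sqrt 2 else 2) p := by
  have hs := one_le_sqrt_two
  have hE : ∀ i, i < L → (if i + 1 = L then Real.sqrt 2 else 1) ≤ nEntry T (f i) (f (i + 1)) := by
    intro i hi
    split_ifs with e
    · subst e; exact sqrt_two_le (h.ne (by omega) (by omega) (by omega)) (by simpa using hd)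
    · exact one_le_nEntry T (h.edge i (by omega))
  have hinj : Function.Injective (Sum.elim x (fun p : Fin (L + 1) => f p.val)) :=
    hx.sumElim h.injective fun s p => hxf s p.val (by omega)
  refine config_rows T _ hinj ?_ (Sum.elim (fun _ => 1)
    (fun p : Fin (L + 1) => if p.val = L then Real.sqrt 2 else 2)) ?_ _ ?_ ?_ ?_
  · rintro (s | p)
    · exact hx2 s
    · exact h.two _ p.isLt
  · rintro (s | p) <;> simp only [Sum.elim_inl, Sum.elim_inr]
    · norm_num
    · split <;> linarith
  · rintro (s | p)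
    · rfl
    · exact if_neg (by omega)
  · rintro (s | p) (s' | q) hpq <;> simp only [Sum.elim_inl, Sum.elim_inr]
    · exact nEntry_nonneg T (hx.ne fun e => hpq (by rw [e]))
    · exact ite_le_nEntry (hxf s _ (by omega)) fun e => e ▸ one_le_nEntry T (hxe s)
    · refine ite_le_nEntry (hxf s' _ (by omega)).symm fun e => ?_
      rw [e, nEntry_symm]; exact one_le_nEntry T (hxe s')
    · refine ite_le_nEntry (h.injective.ne fun e => hpq (by rw [e])) ?_
      rintro (e | e)
      · rw [e]
        have := hE p.val (by omega)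
        split_ifs at this ⊢ <;> first | exact this | omega
      · rw [e, nEntry_symm]
        have := hE q.val (by omega)
        split_ifs at this ⊢ <;> first | exact this | omega
  · intro p
    rw [Fintype.sum_sum_type]
    rcases p with s | p
    · simp only [Sum.elim_inl, Sum.elim_inr, zero_mul, Finset.sum_const_zero, zero_add]
      refine le_trans ?_ (sum_ge_one _ (fun q => ?_) (⟨0, by omega⟩ : Fin (L + 1)))
      · simp [show (0 : ℕ) ≠ L by omega]
      · split_ifs <;> positivity
    · simp only [Sum.elim_inl, Sum.elim_inr, mul_one]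
      have hnn : ∀ q : Fin (L + 1), (0 : ℝ) ≤ (if q.val = p.val + 1 ∨ p.val = q.val + 1 then
          (if p.val = L ∨ q.val = L then Real.sqrt 2 else 1) else 0) *
          (if q.val = L then Real.sqrt 2 else 2) := fun q => by split_ifs <;> positivity
      by_cases p0 : p.val = 0
      · refine le_trans ?_ (add_le_add le_rfl (sum_ge_one _ hnn ⟨1, by omega⟩))
        simp only [p0, Nat.zero_add, true_or, or_true, if_true, Fin.sum_univ_two]
        split_ifs <;> first | omega | linarith [sqrt_two_mul, one_le_sqrt_two]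
      simp only [p0, if_false, Finset.sum_const_zero, zero_add]
      by_cases p1 : p.val = L
      · refine le_trans ?_ (sum_ge_one _ hnn ⟨p.val - 1, by omega⟩)
        simp only [p1, true_or, or_true, if_true]
        split_ifs <;> first | omega | linarith [sqrt_two_mul, one_le_sqrt_two]
      refine le_trans ?_ (sum_ge_pair _ hnn (q₁ := ⟨p.val + 1, by omega⟩)
        (q₂ := ⟨p.val - 1, by omega⟩) (by simp [Fin.ext_iff]; omega))
      simp only [Nat.add_one_ne_zero, true_or, or_true, false_or, or_false, if_true, if_false]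
      split_ifs <;> first | omega | linarith [sqrt_two_mul, one_le_sqrt_two]

theorem no_shapeB {f : ℕ → Fin n} {L : ℕ} (h : IsPath T f (L + 1)) (hL : 1 ≤ L) (hn : L + 3 < n)
    (hd : 2 ≤ nProd T (f (L - 1)) (f L)) (x : Fin 2 → Fin n) (hx : Function.Injective x)
    (hx2 : ∀ s, T.IsMinusTwo (x s)) (hxf : ∀ s, ∀ i ≤ L, x s ≠ f i)
    (hxe : ∀ s, 0 < T.a (x s) (f 0)) : False := by
  have := Fintype.card_le_of_surjective _ (shapeB h hL hd x hx hx2 hxf hxe).1
  simp at this; omega

/-- `D̃`: a path `f 0, …, f L` with two further indices attached to each end vertex. -/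
theorem shapeD {f : ℕ → Fin n} {L : ℕ} (h : IsPath T f (L + 1)) (hL : 1 ≤ L)
    (x : Fin 2 ⊕ Fin 2 → Fin n) (hx : Function.Injective x) (hx2 : ∀ s, T.IsMinusTwo (x s))
    (hxf : ∀ s, ∀ i ≤ L, x s ≠ f i)
    (hxe : ∀ s, 0 < T.a (x (.inl s)) (f 0)) (hxe' : ∀ s, 0 < T.a (x (.inr s)) (f L)) :
    Function.Surjective (Sum.elim x (fun p : Fin (L + 1) => f p.val)) ∧
      (∀ p q : (Fin 2 ⊕ Fin 2) ⊕ Fin (L + 1), p ≠ q →
        nEntry T (Sum.elim x (fun p => f p.val) p) (Sum.elim x (fun p => f p.val) q) =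
          match p, q with
          | .inl _, .inl _ => 0
          | .inl s, .inr b => if b.val = Sum.elim (fun _ => 0) (fun _ => L) s then 1 else 0
          | .inr a, .inl s => if a.val = Sum.elim (fun _ => 0) (fun _ => L) s then 1 else 0
          | .inr a, .inr b => if b.val = a.val + 1 ∨ a.val = b.val + 1 then 1 else 0) ∧
      ∃ c : ℝ, 0 < c ∧ ∀ p : (Fin 2 ⊕ Fin 2) ⊕ Fin (L + 1),
        Real.sqrt (T.w (Sum.elim x (fun p => f p.val) p)) * T.m (Sum.elim x (fun p => f p.val) p) =
          c * Sum.elim (fun _ => 1) (fun _ => 2) p := by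
  have hinj : Function.Injective (Sum.elim x (fun p : Fin (L + 1) => f p.val)) :=
    hx.sumElim h.injective fun s p => hxf s p.val (by omega)
  have hxe'' : ∀ s, 0 < T.a (x s) (f (Sum.elim (fun _ => 0) (fun _ => L) s)) := by
    rintro (s | s)
    · exact hxe s
    · exact hxe' s
  refine config_rows T _ hinj ?_ _ ?_ _ ?_ ?_ ?_
  · rintro (s | p)
    · exact hx2 s
    · exact h.two _ p.isLt
  · rintro (s | p) <;> norm_num
  · rintro (s | p)
    · rfl
    · exact if_neg (by omega)
  · rintro (s | p) (s' | q) hpq <;> simp only [Sum.elim_inl, Sum.elim_inr]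
    · exact nEntry_nonneg T (hx.ne fun e => hpq (by rw [e]))
    · exact ite_le_nEntry (hxf s _ (by omega)) fun e => e ▸ one_le_nEntry T (hxe'' s)
    · refine ite_le_nEntry (hxf s' _ (by omega)).symm fun e => ?_
      rw [e, nEntry_symm]; exact one_le_nEntry T (hxe'' s')
    · refine ite_le_nEntry (h.injective.ne fun e => hpq (by rw [e])) ?_
      rintro (e | e)
      · rw [e]; exact one_le_nEntry T (h.edge _ (by omega))
      · rw [e, nEntry_symm]; exact one_le_nEntry T (h.edge _ (by omega))
  · intro p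
    rw [Fintype.sum_sum_type]
    rcases p with s | p
    · simp only [Sum.elim_inl, Sum.elim_inr, zero_mul, Finset.sum_const_zero, zero_add]
      refine le_trans ?_ (sum_ge_one _ (fun q => ?_)
        (⟨Sum.elim (fun _ => 0) (fun _ => L) s, by rcases s with s | s <;> simp⟩ : Fin (L + 1)))
      · simp
      · split_ifs <;> positivity
    · rw [Fintype.sum_sum_type]
      simp only [Sum.elim_inl, Sum.elim_inr, mul_one, Fin.sum_univ_two]
      have hnn : ∀ q : Fin (L + 1),
          (0 : ℝ) ≤ (if q.val = p.val + 1 ∨ p.val = q.val + 1 then 1 else 0) * 2 :=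
        fun q => by split_ifs <;> norm_num
      by_cases p0 : p.val = 0
      · refine le_trans ?_ (add_le_add le_rfl (sum_ge_one _ hnn ⟨1, by omega⟩))
        simp only [p0, Nat.zero_add, true_or, or_true, if_true, one_ne_zero, false_or]
        split_ifs <;> first | omega | linarith [sqrt_two_mul, one_le_sqrt_two]
      by_cases p1 : p.val = L
      · refine le_trans ?_ (add_le_add le_rfl (sum_ge_one _ hnn ⟨p.val - 1, by omega⟩))
        simp only [p1, true_or, or_true, if_true]
        split_ifs <;> first | omega | linarith [sqrt_two_mul, one_le_sqrt_two]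
      refine le_trans ?_ (add_le_add le_rfl (sum_ge_pair _ hnn (q₁ := ⟨p.val + 1, by omega⟩)
        (q₂ := ⟨p.val - 1, by omega⟩) (by simp [Fin.ext_iff]; omega)))
      simp only [Nat.add_one_ne_zero, true_or, or_true, false_or, or_false, if_true, if_false]
      split_ifs <;> first | omega | linarith [sqrt_two_mul, one_le_sqrt_two]

theorem no_shapeD {f : ℕ → Fin n} {L : ℕ} (h : IsPath T f (L + 1)) (hL : 1 ≤ L) (hn : L + 5 < n)
    (x : Fin 2 ⊕ Fin 2 → Fin n) (hx : Function.Injective x) (hx2 : ∀ s, T.IsMinusTwo (x s))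
    (hxf : ∀ s, ∀ i ≤ L, x s ≠ f i)
    (hxe : ∀ s, 0 < T.a (x (.inl s)) (f 0)) (hxe' : ∀ s, 0 < T.a (x (.inr s)) (f L)) : False := by
  have := Fintype.card_le_of_surjective _ (shapeD h hL x hx hx2 hxf hxe hxe').1
  simp at this; omega

/-- A finite configuration given by an explicit symmetric bound is the whole type. -/
theorem small {k : ℕ} [NeZero k] (v : Fin k → Fin n) (hv : Function.Injective v)
    (h2 : ∀ p, T.IsMinusTwo (v p)) (hn : k < n) (y : Fin k → ℝ) (hy : ∀ p, 0 < y p)
    (R : Fin k → Fin k → ℝ) (hR0 : ∀ p, R p p = 0)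
    (hR : ∀ p q, p ≠ q → R p q ≤ nEntry T (v p) (v q))
    (hrow : ∀ p, 2 * y p ≤ ∑ q, R p q * y q) : False := by
  have := Fintype.card_le_of_surjective _ (config_rows T v hv h2 y hy R hR0 hR hrow).1
  simp at this; omega

end Groth.Agent.NumType
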