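import Groth.Agent.NumType.Basic
import Mathlib.Algebra.Module.ZMod
import Mathlib.Algebra.Module.Torsion.Basic
import Mathlib.LinearAlgebra.Dimension.Finrank
import Mathlib.LinearAlgebra.FiniteDimensional.Lemmas
import Mathlib.LinearAlgebra.Matrix.ToLin
import Mathlib.FieldTheory.Finiteness
import Mathlib.Data.ZMod.Basic
import Mathlib.Algebra.Field.ZMod
import Mathlib.SetTheory.Cardinal.Finite

/-! # The `ℓ`-torsion of the cokernel of a connected Laplacian-like integer matrix -/

namespace Groth.Agent.NumType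

open Finset

section field

variable {F : Type*} [Field F] {n : ℕ}

/-- Boundary map of the edge set `E`. -/
def bdry (F : Type*) [Field F] {n : ℕ} (E : Finset (Fin n × Fin n)) :
    (↥E → F) →ₗ[F] (Fin n → F) where
  toFun f := ∑ e : ↥E, f e • (Pi.single e.1.1 1 - Pi.single e.1.2 1)
  map_add' f g := by simp [add_smul, Finset.sum_add_distrib]
  map_smul' c f := by simp [Finset.smul_sum, smul_smul]

theorem finrank_ker_bdry_le (hn : 0 < n) (E : Finset (Fin n × Fin n))
    (hconn : ∀ I : Finset (Fin n), I.Nonempty → I ≠ univ →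
      ∃ i ∈ I, ∃ j ∉ I, (i, j) ∈ E ∨ (j, i) ∈ E) :
    Module.finrank F (LinearMap.ker (bdry F E)) + n ≤ E.card + 1 := by
  classical
  let o : Fin n := ⟨0, hn⟩
  let W : Submodule F (Fin n → F) := LinearMap.range (bdry F E) ⊔ Submodule.span F {Pi.single o 1}
  have hgen : ∀ e ∈ E, (Pi.single e.1 1 - Pi.single e.2 1 : Fin n → F) ∈ W := by
    intro e he
    refine Submodule.mem_sup_left ⟨Pi.single ⟨e, he⟩ 1, ?_⟩
    simp [bdry, Pi.single_apply, ite_smul]
  have hall : ∀ i, (Pi.single i 1 : Fin n → F) ∈ W := by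
    intro i
    have hc := const_of_connected (fun p q => (p, q) ∈ E ∨ (q, p) ∈ E) hconn
      (fun p => ((Pi.single p 1 : Fin n → F) ∈ W)) (fun p q hpq => propext ?_) o i
    · exact hc.mp (Submodule.mem_sup_right (Submodule.subset_span rfl))
    · have hd : (Pi.single p 1 - Pi.single q 1 : Fin n → F) ∈ W := by
        rcases hpq with h | h
        · exact hgen _ h
        · simpa using W.neg_mem (hgen _ h)
      exact ⟨fun h => by simpa using W.sub_mem h hd, fun h => by simpa using W.add_mem h hd⟩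
  have htop : W = ⊤ := by
    refine eq_top_iff.2 fun x _ => ?_
    rw [← Finset.univ_sum_single x]
    refine W.sum_mem fun i _ => ?_
    simpa [← Pi.single_smul] using W.smul_mem (x i) (hall i)
  have h1 := Submodule.finrank_add_le_finrank_add_finrank
    (LinearMap.range (bdry F E)) (Submodule.span F {(Pi.single o 1 : Fin n → F)})
  rw [show LinearMap.range (bdry F E) ⊔ Submodule.span F {(Pi.single o 1 : Fin n → F)} = ⊤ from htop,
    finrank_top, Module.finrank_fintype_fun_eq_card, Fintype.card_fin] at h1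
  have h2 := LinearMap.finrank_range_add_finrank_ker (bdry F E)
  rw [Module.finrank_fintype_fun_eq_card, Fintype.card_coe] at h2
  have h3 : Module.finrank F (Submodule.span F {(Pi.single o 1 : Fin n → F)}) ≤ 1 := by
    rw [finrank_span_singleton (by simp)]
  omega

/-- A connected symmetric matrix killing a nowhere zero vector has kernel of dimension at most
the first Betti number plus one. -/
theorem finrank_ker_le (hn : 0 < n) (A : Matrix (Fin n) (Fin n) F) (hs : ∀ i j, A i j = A j i)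
    (m : Fin n → F) (hm : ∀ i, m i ≠ 0) (hAm : ∀ i, ∑ j, A i j * m j = 0)
    (E : Finset (Fin n × Fin n)) (hE : ∀ e : Fin n × Fin n, e ∈ E ↔ e.1 < e.2 ∧ A e.1 e.2 ≠ 0)
    (hconn : ∀ I : Finset (Fin n), I.Nonempty → I ≠ univ →
      ∃ i ∈ I, ∃ j ∉ I, (i, j) ∈ E ∨ (j, i) ∈ E) :
    Module.finrank F (LinearMap.ker (Matrix.mulVecLin A)) + n ≤ E.card + 2 := by
  classical
  let K := LinearMap.ker (Matrix.mulVecLin A)
  let G : (Fin n → F) → Fin n → Fin n → F := fun x p q =>
    A p q * m p * m q * (x p / m p - x q / m q)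
  let ψ : K →ₗ[F] (↥E → F) :=
    { toFun := fun x e => G x.1 e.1.1 e.1.2
      map_add' := fun x y => funext fun e => by simp [G, add_div]; ring
      map_smul' := fun c x => funext fun e => by simp [G, mul_div_assoc]; ring }
  have hψ : ∀ x, ψ x ∈ LinearMap.ker (bdry F E) := by
    intro x
    rw [LinearMap.mem_ker]
    funext i
    have hx : ∑ j, A i j * x.1 j = 0 := congrFun x.2 i
    have e1 : bdry F E (ψ x) i =
        ∑ e ∈ E, ((if i = e.1 then G x.1 e.1 e.2 else 0) - if i = e.2 then G x.1 e.1 e.2 else 0) := by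
      rw [← Finset.sum_coe_sort E]
      simp [bdry, ψ, Finset.sum_apply, Pi.single_apply, mul_sub]
    have e2 : ∀ H : Fin n × Fin n → F, (∀ e : Fin n × Fin n, A e.1 e.2 = 0 → H e = 0) →
        ∑ e ∈ E, H e = ∑ p, ∑ q, if p < q then H (p, q) else 0 := by
      intro H hH
      rw [← Fintype.sum_prod_type (f := fun e : Fin n × Fin n => if e.1 < e.2 then H e else 0),
        ← Finset.sum_filter]
      refine Finset.sum_subset (fun e he => by simp [(hE e).1 he]) fun e he he' => hH e ?_
      by_contra h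
      exact he' ((hE e).2 ⟨(mem_filter.1 he).2, h⟩)
    have hG0 : ∀ p q, A p q = 0 → G x.1 p q = 0 := fun p q h => by simp [G, h]
    have hGanti : ∀ p q, G x.1 q p = -G x.1 p q := fun p q => by simp only [G, hs q p]; ring
    rw [e1, Finset.sum_sub_distrib, e2 _ (fun e h => by simp [hG0 _ _ h]),
      e2 _ (fun e h => by simp [hG0 _ _ h])]
    have a1 : (∑ p, ∑ q, if p < q then (if i = p then G x.1 p q else 0) else 0) =
        ∑ q, if i < q then G x.1 i q else 0 := by
      rw [Finset.sum_eq_single i (fun p _ hp => Finset.sum_eq_zero fun q _ => by simp [Ne.symm hp])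
        (by simp)]
      simp
    have a2 : (∑ p, ∑ q, if p < q then (if i = q then G x.1 p q else 0) else 0) =
        ∑ q, if q < i then G x.1 q i else 0 := by
      rw [Finset.sum_comm, Finset.sum_eq_single i
        (fun p _ hp => Finset.sum_eq_zero fun q _ => by simp [Ne.symm hp]) (by simp)]
      simp
    simp only at a1 a2 ⊢
    rw [a1, a2, ← Finset.sum_sub_distrib]
    calc (∑ q, ((if i < q then G x.1 i q else 0) - if q < i then G x.1 q i else 0))
        = ∑ q, G x.1 i q := Finset.sum_congr rfl fun q _ => by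
          rcases lt_trichotomy i q with h | rfl | h
          · simp [h, not_lt.2 h.le]
          · simp [G]
          · simp [h, not_lt.2 h.le, hGanti q i]
      _ = x.1 i * (∑ j, A i j * m j) - m i * ∑ j, A i j * x.1 j := by
          rw [Finset.mul_sum, Finset.mul_sum, ← Finset.sum_sub_distrib]
          refine Finset.sum_congr rfl fun q _ => ?_
          have := hm i; have := hm q
          simp only [G]; field_simp
      _ = 0 := by rw [hAm, hx]; simp
  let ψ' : K →ₗ[F] LinearMap.ker (bdry F E) := ψ.codRestrict _ hψ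
  have hker : (LinearMap.ker ψ').map K.subtype ≤ Submodule.span F {m} := by
    rintro y ⟨x, hx, rfl⟩
    have h0 : ψ x = 0 := congrArg Subtype.val (LinearMap.mem_ker.1 hx)
    rw [Submodule.mem_span_singleton]
    refine ⟨x.1 ⟨0, hn⟩ / m ⟨0, hn⟩, funext fun i => ?_⟩
    have key := const_of_connected (fun p q => (p, q) ∈ E ∨ (q, p) ∈ E) hconn (fun i => x.1 i / m i)
      (fun p q hpq => by
        rcases hpq with h | h
        · have hh := congrFun h0 ⟨_, h⟩
          simpa [ψ, G, hm, ((hE _).1 h).2, sub_eq_zero] using hh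
        · have hh := congrFun h0 ⟨_, h⟩
          exact (by simpa [ψ, G, hm, ((hE _).1 h).2, sub_eq_zero] using hh : _ = _).symm) ⟨0, hn⟩ i
    simp only [Pi.smul_apply, smul_eq_mul, Submodule.subtype_apply]
    rw [key, div_mul_cancel₀ _ (hm i)]
  have h1 : Module.finrank F (LinearMap.ker ψ') ≤ 1 := by
    rw [← Submodule.finrank_map_subtype_eq K (LinearMap.ker ψ')]
    refine (Submodule.finrank_mono hker).trans ?_
    rw [finrank_span_singleton (fun h => hm ⟨0, hn⟩ (congrFun h _))]
  have h2 := LinearMap.finrank_range_add_finrank_ker ψ'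
  have h3 := Submodule.finrank_le (LinearMap.range ψ')
  have h4 := finrank_ker_bdry_le (F := F) hn E hconn
  show Module.finrank F K + n ≤ E.card + 2
  omega

end field

theorem card_torsion_coker {n : ℕ} (hn : 0 < n) (A : Matrix (Fin n) (Fin n) ℤ) (m : Fin n → ℤ)
    (hsymm : A.IsSymm) (hA : ∀ i j, i ≠ j → 0 ≤ A i j) (hAm : A.mulVec m = 0)
    (hconn : ∀ I : Finset (Fin n), I.Nonempty → I ≠ univ → ∃ i ∈ I, ∃ j ∉ I, A i j ≠ 0)
    (ℓ : ℕ) (hℓ : ℓ.Prime) (hℓA : ∀ i j, i ≠ j → A i j ≠ 0 → ¬ ((ℓ : ℤ) ∣ A i j))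
    (hℓm : ∀ i, ¬ ((ℓ : ℤ) ∣ m i)) :
    Finite (Submodule.torsionBy ℤ ((Fin n → ℤ) ⧸ LinearMap.range (Matrix.mulVecLin A)) (ℓ : ℤ)) ∧
    Nat.card (Submodule.torsionBy ℤ ((Fin n → ℤ) ⧸ LinearMap.range (Matrix.mulVecLin A)) (ℓ : ℤ))
      ≤ ℓ ^ ((univ.filter fun p : Fin n × Fin n => p.1 < p.2 ∧ 0 < A p.1 p.2).card + 1 - n) := by
  classical
  have : Fact ℓ.Prime := ⟨hℓ⟩
  let Abar : Matrix (Fin n) (Fin n) (ZMod ℓ) := fun i j => (A i j : (ZMod ℓ))
  let mbar : Fin n → (ZMod ℓ) := fun i => (m i : (ZMod ℓ))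
  let red : (Fin n → ℤ) → (Fin n → (ZMod ℓ)) := fun x i => (x i : (ZMod ℓ))
  let lift : (Fin n → (ZMod ℓ)) → (Fin n → ℤ) := fun k i => ((k i).val : ℤ)
  have hdvd : ∀ z : ℤ, (z : (ZMod ℓ)) = 0 ↔ (ℓ : ℤ) ∣ z := fun z => ZMod.intCast_zmod_eq_zero_iff_dvd z ℓ
  have hred : ∀ z, Abar.mulVec (red z) = red (A.mulVec z) := fun z => funext fun i => by
    simp [Abar, red, Matrix.mulVec, dotProduct]
  have hlift : ∀ k, red (lift k) = k := fun k => funext fun i => by
    simp [red, lift, ZMod.natCast_zmod_val]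
  let K := LinearMap.ker (Matrix.mulVecLin Abar)
  have hK : ∀ k : K, ∀ i, (ℓ : ℤ) ∣ A.mulVec (lift k.1) i := by
    intro k i
    rw [← hdvd]
    have e : Abar.mulVec (red (lift k.1)) = 0 := by rw [hlift]; exact k.2
    rw [hred] at e
    exact congrFun e i
  let C := (Fin n → ℤ) ⧸ LinearMap.range (Matrix.mulVecLin A)
  let h0 : K → C := fun k => Submodule.Quotient.mk (fun i => A.mulVec (lift k.1) i / (ℓ : ℤ))
  have key : ∀ (k : K) (y x : Fin n → ℤ), red y = k.1 → (ℓ : ℤ) • x = A.mulVec y →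
      h0 k = Submodule.Quotient.mk x := by
    intro k y x hy hx
    have hz : ∀ i, (ℓ : ℤ) ∣ lift k.1 i - y i := fun i => by
      rw [← hdvd, Int.cast_sub, show ((lift k.1 i : ℤ) : (ZMod ℓ)) = k.1 i from congrFun (hlift k.1) i,
        show ((y i : ℤ) : (ZMod ℓ)) = k.1 i from congrFun hy i, sub_self]
    choose z hz using hz
    refine (Submodule.Quotient.eq _).2 ⟨z, ?_⟩
    funext i
    have hl : lift k.1 = y + (ℓ : ℤ) • z := funext fun i => by
      simp only [Pi.add_apply, Pi.smul_apply, smul_eq_mul]; linarith [hz i]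
    simp only [Matrix.mulVecLin_apply, Pi.sub_apply]
    rw [hl, Matrix.mulVec_add, Matrix.mulVec_smul, ← hx]
    simp only [Pi.add_apply, Pi.smul_apply, smul_eq_mul, ← mul_add]
    rw [Int.mul_ediv_cancel_left _ (by exact_mod_cast hℓ.ne_zero)]
    ring
  have hzero : ∀ k, (ℓ : ℤ) • h0 k = 0 := by
    intro k
    rw [← Submodule.Quotient.mk_smul, Submodule.Quotient.mk_eq_zero]
    refine ⟨lift k.1, funext fun i => ?_⟩
    simp only [Matrix.mulVecLin_apply, Pi.smul_apply, smul_eq_mul]
    rw [Int.mul_ediv_cancel' (hK k i)]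
  let h1 : K → Submodule.torsionBy ℤ C (ℓ : ℤ) := fun k =>
    ⟨h0 k, (Submodule.mem_torsionBy_iff _ _).2 (hzero k)⟩
  have hmK : mbar ∈ K := by
    show Abar.mulVec mbar = 0
    rw [show mbar = red m from rfl, hred, hAm]
    funext i; simp [red]
  let M : Submodule (ZMod ℓ) K := Submodule.span (ZMod ℓ) {⟨mbar, hmK⟩}
  have hsurj : Function.Surjective h1 := by
    rintro ⟨c, hc⟩
    obtain ⟨x, rfl⟩ := Submodule.Quotient.mk_surjective _ c
    rw [Submodule.mem_torsionBy_iff, ← Submodule.Quotient.mk_smul, Submodule.Quotient.mk_eq_zero] at hc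
    obtain ⟨y, hy⟩ := hc
    refine ⟨⟨red y, ?_⟩, Subtype.ext (key _ y x rfl hy.symm)⟩
    show Abar.mulVec (red y) = 0
    rw [hred, show A.mulVec y = (ℓ : ℤ) • x from hy]
    funext i; simp [red]
  have hcongr : ∀ k k' : K, k - k' ∈ M → h1 k = h1 k' := by
    intro k k' hkk
    obtain ⟨t, ht⟩ := Submodule.mem_span_singleton.1 hkk
    refine Subtype.ext ?_
    show h0 k = h0 k'
    refine key k (lift k'.1 + (t.val : ℤ) • m) _ ?_ ?_
    · funext i
      have e : t * mbar i = k.1 i - k'.1 i := congrFun (congrArg Subtype.val ht) i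
      have e' := congrFun (hlift k'.1) i
      simp only [red, mbar] at e e' ⊢
      simp only [Pi.add_apply, Pi.smul_apply, smul_eq_mul, Int.cast_add, Int.cast_mul, e',
        Int.cast_natCast]
      rw [ZMod.natCast_zmod_val, e, add_sub_cancel]
    · rw [Matrix.mulVec_add, Matrix.mulVec_smul, hAm, smul_zero, add_zero]
      funext i
      simp only [Pi.smul_apply, smul_eq_mul]
      exact Int.mul_ediv_cancel' (hK k' i)
  let h2 : K ⧸ M → Submodule.torsionBy ℤ C (ℓ : ℤ) := fun q => h1 q.out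
  have hsurj2 : Function.Surjective h2 := fun c => by
    obtain ⟨k, rfl⟩ := hsurj c
    refine ⟨Submodule.Quotient.mk k, hcongr _ _ ((Submodule.Quotient.eq M).1 ?_)⟩
    exact Quotient.out_eq _
  have hF : Finite (ZMod ℓ) := Finite.of_fintype _
  have : Finite (K ⧸ M) := Module.finite_of_finite (ZMod ℓ)
  refine ⟨Finite.of_surjective h2 hsurj2, (Nat.card_le_card_of_surjective h2 hsurj2).trans ?_⟩
  rw [Module.natCard_eq_pow_finrank (K := (ZMod ℓ)), Nat.card_zmod]
  refine Nat.pow_le_pow_right hℓ.pos ?_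
  have hmne : (⟨mbar, hmK⟩ : K) ≠ 0 := fun e => hℓm ⟨0, hn⟩
    ((hdvd _).1 (congrFun (congrArg Subtype.val e) ⟨0, hn⟩))
  have hM : Module.finrank (ZMod ℓ) M = 1 := finrank_span_singleton hmne
  have hq := Submodule.finrank_quotient_add_finrank M
  have hE : ∀ e : Fin n × Fin n, e ∈ (univ.filter fun p : Fin n × Fin n => p.1 < p.2 ∧ 0 < A p.1 p.2) ↔
      e.1 < e.2 ∧ Abar e.1 e.2 ≠ 0 := by
    intro e
    simp only [mem_filter, mem_univ, true_and, Abar, ne_eq, hdvd]
    refine ⟨fun h => ⟨h.1, hℓA _ _ h.1.ne h.2.ne'⟩, fun h => ⟨h.1, ?_⟩⟩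
    exact lt_of_le_of_ne (hA _ _ h.1.ne) fun e0 => h.2 (e0 ▸ dvd_zero _)
  have hle := finrank_ker_le hn Abar (fun i j => by simp only [Abar, hsymm.apply i j]) mbar
    (fun i e => hℓm i ((hdvd _).1 e))
    (fun i => congrFun (show Abar.mulVec mbar = 0 from hmK) i) _ hE ?_
  · change Module.finrank (ZMod ℓ) K + n ≤ _ at hle
    omega
  · intro I hI hIu
    obtain ⟨i, hi, j, hj, hij⟩ := hconn I hI hIu
    have hne : i ≠ j := fun e => hj (e ▸ hi)
    have hp : 0 < A i j := lt_of_le_of_ne (hA i j hne) (Ne.symm hij)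
    refine ⟨i, hi, j, hj, ?_⟩
    rcases hne.lt_or_gt with h | h
    · exact Or.inl (by simp [h, hp])
    · exact Or.inr (by simp [h, (hsymm.apply j i) ▸ hp])

end Groth.Agent.NumType
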